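import Mathlib

/-!
Exponential polynomials (`P(X+Y) = P(X)P(Y)`, `P(0) = 1`), their universal algebras of bounded degree
(truncated divided powers), and the classification of natural multiplicative functions on them.
-/

set_option autoImplicit false

universe u

open Polynomial TensorProduct

namespace Groth.GaDual.ExpPoly

/-- `P` is an exponential polynomial: a character of the additive group. -/
structure IsExp {C : Type*} [CommRing C] (P : C[X]) : Prop where
  coeff_zero : P.coeff 0 = 1
  coeff_mul : ∀ i j : ℕ, P.coeff i * P.coeff j = ((i + j).choose i : C) * P.coeff (i + j)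

variable {C D : Type*} [CommRing C] [CommRing D]

lemma IsExp.map {P : C[X]} (h : IsExp P) (f : C →+* D) : IsExp (P.map f) where
  coeff_zero := by rw [coeff_map, h.coeff_zero, map_one]
  coeff_mul i j := by
    rw [coeff_map, coeff_map, coeff_map, ← map_mul, h.coeff_mul, map_mul, map_natCast]

lemma IsExp.eval_add {P : C[X]} (h : IsExp P) (x y : C) :
    P.eval (x + y) = P.eval x * P.eval y := by
  have hj : taylor y P = Polynomial.C (P.eval y) * P := by
    refine Polynomial.ext fun i => ?_
    rw [taylor_coeff, coeff_C_mul, show hasseDeriv i P = Polynomial.C (P.coeff i) * P from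
      Polynomial.ext fun n => by
        rw [hasseDeriv_coeff, coeff_C_mul, add_comm n i, h.coeff_mul i n], eval_mul, eval_C, mul_comm]
  rw [← taylor_eval, hj, eval_mul, eval_C, mul_comm]

lemma IsExp.eval₂_add {P : C[X]} (h : IsExp P) (f : C →+* D) (x y : D) :
    P.eval₂ f (x + y) = P.eval₂ f x * P.eval₂ f y := by
  simp only [← eval_map, (h.map f).eval_add]

lemma IsExp.eval₂_zero {P : C[X]} (h : IsExp P) (f : C →+* D) : P.eval₂ f 0 = 1 := by
  rw [Polynomial.eval₂_at_zero, h.coeff_zero, map_one]

lemma IsExp.isUnit_eval₂ {P : C[X]} (h : IsExp P) (f : C →+* D) (x : D) : IsUnit (P.eval₂ f x) :=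
  .of_mul_eq_one _ (by rw [← h.eval₂_add, add_neg_cancel, h.eval₂_zero])

/-- A polynomial turning sums into products universally is exponential. -/
lemma isExp_of_additive {P : C[X]} (h0 : P.coeff 0 = 1)
    (h : P.eval₂ (Polynomial.C.comp Polynomial.C : C →+* C[X][X])
        (Polynomial.C Polynomial.X + Polynomial.X) =
      P.eval₂ (Polynomial.C.comp Polynomial.C) (Polynomial.C Polynomial.X) *
        P.eval₂ (Polynomial.C.comp Polynomial.C) Polynomial.X) : IsExp P := by
  refine ⟨h0, fun i j => ?_⟩
  have e : ∀ R : C[X][X], (R.map Polynomial.C).eval (Polynomial.X : C[X][X]) = R := fun R => by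
    rw [eval_map, eval₂_C_X]
  have h2 : taylor (Polynomial.X : C[X]) (P.map Polynomial.C) =
      Polynomial.C ((P.map Polynomial.C).eval Polynomial.X) * P.map Polynomial.C := by
    have e1 : taylor (Polynomial.X : C[X]) (P.map Polynomial.C) =
        P.eval₂ (Polynomial.C.comp Polynomial.C : C →+* C[X][X])
          (Polynomial.C Polynomial.X + Polynomial.X) := by
      rw [taylor_apply, Polynomial.comp, eval₂_map, add_comm]
    have e2 : P.map Polynomial.C =
        P.eval₂ (Polynomial.C.comp Polynomial.C : C →+* C[X][X]) Polynomial.X := by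
      rw [← eval_map, ← Polynomial.map_map, e]
    have e3 : Polynomial.C ((P.map Polynomial.C).eval Polynomial.X) =
        P.eval₂ (Polynomial.C.comp Polynomial.C : C →+* C[X][X]) (Polynomial.C Polynomial.X) := by
      rw [eval_map, hom_eval₂]
    rw [e1, e3, h, ← e2]
  have h3 := congrArg (fun R : C[X][X] => (R.coeff j).coeff i) h2
  simp only [taylor_coeff, coeff_C_mul, coeff_map, eval_map, eval₂_C_X] at h3
  rw [show hasseDeriv j (P.map Polynomial.C) = (hasseDeriv j P).map Polynomial.C from
    Polynomial.ext fun n => by simp [hasseDeriv_coeff], eval_map, eval₂_C_X, hasseDeriv_coeff,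
    coeff_mul_C] at h3
  rw [← h3, Nat.choose_symm_add]

lemma IsExp.mul {P Q : C[X]} (hP : IsExp P) (hQ : IsExp Q) : IsExp (P * Q) := by
  refine isExp_of_additive ?_ ?_
  · rw [mul_coeff_zero, hP.coeff_zero, hQ.coeff_zero, mul_one]
  · simp only [eval₂_mul, hP.eval₂_add, hQ.eval₂_add]
    ring

lemma isExp_one : IsExp (1 : C[X]) where
  coeff_zero := coeff_one_zero
  coeff_mul i j := by
    rcases i with _ | i <;> rcases j with _ | j <;> simp [coeff_one]

/-- `1 + εX` is exponential when `ε² = 0`. -/
lemma isExp_linear {ε : C} (hε : ε * ε = 0) : IsExp (1 + Polynomial.C ε * Polynomial.X) where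
  coeff_zero := by simp
  coeff_mul i j := by
    rcases i with _ | _ | i <;> rcases j with _ | _ | j <;>
      simp [coeff_one, coeff_X, hε] <;> (intros; omega)

section Universal

variable (N : ℕ)

/-- `ℚ[X]/(X^N)`. -/
abbrev Q : Type := ℚ[X] ⧸ Ideal.span {(Polynomial.X : ℚ[X]) ^ N}

/-- The divided powers `X^k/k!` in `ℚ[X]/(X^N)`. -/
noncomputable def e (k : ℕ) : Q N :=
  Ideal.Quotient.mk _ (Polynomial.C ((k.factorial : ℚ)⁻¹) * Polynomial.X ^ k)

lemma e_zero : e N 0 = 1 := by simp [e]

lemma e_eq_zero {k : ℕ} (hk : N ≤ k) : e N k = 0 := by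
  rw [e, Ideal.Quotient.eq_zero_iff_mem, Ideal.mem_span_singleton]
  exact dvd_mul_of_dvd_right (pow_dvd_pow _ hk) _

lemma e_mul (i j : ℕ) : e N i * e N j = ((i + j).choose i : Q N) * e N (i + j) := by
  rw [e, e, e, ← map_mul, ← map_natCast (Ideal.Quotient.mk (Ideal.span {(Polynomial.X : ℚ[X]) ^ N})),
    ← map_mul]
  refine congrArg _ ?_
  rw [← Polynomial.C_eq_natCast, mul_mul_mul_comm, ← pow_add, ← map_mul, ← mul_assoc, ← map_mul]
  congr 2
  rw [Nat.cast_add_choose]
  field_simp

lemma linearIndependent_e : LinearIndependent ℤ fun k : Fin N => e N k := by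
  refine Fintype.linearIndependent_iff.mpr fun g hg k => ?_
  simp only [e, zsmul_eq_mul, ← map_intCast (Ideal.Quotient.mk (Ideal.span {(Polynomial.X : ℚ[X]) ^ N})),
    ← map_mul, ← map_sum, Ideal.Quotient.eq_zero_iff_mem, Ideal.mem_span_singleton,
    X_pow_dvd_iff] at hg
  have h := hg k k.2
  simp only [finsetSum_coeff, ← Polynomial.C_eq_intCast, ← mul_assoc, ← map_mul,
    coeff_C_mul_X_pow] at h
  rw [Finset.sum_eq_single k (fun b _ hb => by simp [Fin.val_ne_of_ne (Ne.symm hb)]) (by simp)] at h
  simpa [Nat.factorial_ne_zero] using h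

/-- The truncated divided power algebra over `ℤ`, as a subring of `ℚ[X]/(X^N)`. -/
noncomputable def D0 : Subring (Q N) :=
  ((Submodule.span ℤ (Set.range fun k : Fin N => e N k)).toSubalgebra
    (by
      rcases Nat.eq_zero_or_pos N with h | h
      · rw [show (1 : Q N) = 0 from (e_zero N).symm.trans (e_eq_zero N h.le)]
        exact zero_mem _
      · exact Submodule.subset_span ⟨⟨0, h⟩, e_zero N⟩)
    (fun x y hx hy => by
      refine Submodule.span_induction₂ (p := fun x y _ _ =>
        x * y ∈ Submodule.span ℤ (Set.range fun k : Fin N => e N k)) ?_ ?_ ?_ ?_ ?_ ?_ ?_ hx hy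
      · rintro _ _ ⟨i, rfl⟩ ⟨j, rfl⟩
        dsimp only
        rw [e_mul]
        by_cases h : (i : ℕ) + j < N
        · rw [← Int.cast_natCast, ← zsmul_eq_mul]
          exact Submodule.smul_mem _ _ (Submodule.subset_span ⟨⟨_, h⟩, rfl⟩)
        · rw [e_eq_zero N (not_lt.mp h), mul_zero]
          exact zero_mem _
      · intro y _; rw [zero_mul]; exact zero_mem _
      · intro y _; rw [mul_zero]; exact zero_mem _
      · intro x y z _ _ _ h1 h2; rw [add_mul]; exact add_mem h1 h2
      · intro x y z _ _ _ h1 h2; rw [mul_add]; exact add_mem h1 h2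
      · intro r x y _ _ h; rw [smul_mul_assoc]; exact Submodule.smul_mem _ r h
      · intro r x y _ _ h; rw [mul_smul_comm]; exact Submodule.smul_mem _ r h)).toSubring

/-- The basis of divided powers. -/
noncomputable def basis0 : Module.Basis (Fin N) ℤ (D0 N) :=
  (Module.Basis.span (linearIndependent_e N)).map
    ({ toFun := fun x => ⟨x.1, x.2⟩
       invFun := fun x => ⟨x.1, x.2⟩
       left_inv := fun _ => rfl
       right_inv := fun _ => rfl
       map_add' := fun _ _ => rfl } :
      (Submodule.span ℤ (Set.range fun k : Fin N => e N k)) ≃+ D0 N).toIntLinearEquiv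

lemma coe_basis0 (k : Fin N) : ((basis0 N k : D0 N) : Q N) = e N k :=
  congrArg Subtype.val (Module.Basis.span_apply (linearIndependent_e N) k)

variable (B : Type u) [CommRing B]

/-- The truncated divided power algebra over `B`. -/
def DP : Type u := B ⊗[ℤ] (D0 N)

noncomputable instance : CommRing (DP N B) := inferInstanceAs (CommRing (B ⊗[ℤ] (D0 N)))

noncomputable instance : Algebra B (DP N B) := inferInstanceAs (Algebra B (B ⊗[ℤ] (D0 N)))

/-- The elements coming from the divided powers over `ℤ`. -/
noncomputable def incl : D0 N →+* DP N B :=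
  (Algebra.TensorProduct.includeRight : D0 N →ₐ[ℤ] B ⊗[ℤ] (D0 N)).toRingHom

/-- Its basis. -/
noncomputable def basis : Module.Basis (Fin N) B (DP N B) :=
  Algebra.TensorProduct.basis B (basis0 N)

lemma basis_apply (k : Fin N) : basis N B k = incl N B (basis0 N k) :=
  Algebra.TensorProduct.basis_apply _ _

/-- The universal exponential coefficients. -/
noncomputable def γ (k : ℕ) : DP N B := if h : k < N then basis N B ⟨k, h⟩ else 0

lemma γ_eq (k : ℕ) (x : D0 N) (hx : (x : Q N) = e N k) : γ N B k = incl N B x := by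
  rw [γ]
  split_ifs with h
  · rw [basis_apply]
    exact congrArg _ (Subtype.ext ((coe_basis0 N ⟨k, h⟩).trans hx.symm))
  · rw [show x = 0 from Subtype.ext (hx.trans (e_eq_zero N (not_lt.mp h))), map_zero]

lemma e_mem (k : ℕ) : e N k ∈ D0 N := by
  by_cases h : k < N
  · exact coe_basis0 N ⟨k, h⟩ ▸ (basis0 N ⟨k, h⟩).2
  · rw [e_eq_zero N (not_lt.mp h)]; exact zero_mem _

lemma γ_mul (i j : ℕ) : γ N B i * γ N B j = ((i + j).choose i : DP N B) * γ N B (i + j) := by
  rw [γ_eq N B i ⟨_, e_mem N i⟩ rfl, γ_eq N B j ⟨_, e_mem N j⟩ rfl,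
    γ_eq N B (i + j) ⟨_, e_mem N (i + j)⟩ rfl, ← map_natCast (incl N B), ← map_mul, ← map_mul]
  exact congrArg _ (Subtype.ext (by simp [e_mul]))

lemma γ_zero (hN : 0 < N) : γ N B 0 = 1 :=
  (γ_eq N B 0 1 (e_zero N).symm).trans (map_one _)

/-- The universal exponential polynomial of degree `< N`. -/
noncomputable def univ : (DP N B)[X] :=
  ∑ k ∈ Finset.range N, Polynomial.C (γ N B k) * Polynomial.X ^ k

lemma coeff_univ (k : ℕ) : (univ N B).coeff k = γ N B k := by
  simp only [univ, finsetSum_coeff, coeff_C_mul_X_pow, Finset.sum_ite_eq, Finset.mem_range]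
  split_ifs with h
  · rfl
  · rw [γ, dif_neg h]

lemma natDegree_univ_le : (univ N B).natDegree ≤ N :=
  natDegree_le_iff_coeff_eq_zero.mpr fun k hk => by
    rw [coeff_univ, γ, dif_neg (by omega)]

lemma isExp_univ (hN : 0 < N) : IsExp (univ N B) where
  coeff_zero := by rw [coeff_univ, γ_zero N B hN]
  coeff_mul i j := by rw [coeff_univ, coeff_univ, coeff_univ, γ_mul]

/-- The classifying map of an exponential polynomial of degree `< N`. -/
lemma exists_lift (hN : 0 < N) {C : Type*} [CommRing C] [Algebra B C] (P : C[X]) (hP : IsExp P)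
    (hdeg : ∀ k, N ≤ k → P.coeff k = 0) :
    ∃ g : DP N B →ₐ[B] C, (univ N B).map g.toRingHom = P := by
  let l : DP N B →ₗ[B] C := (basis N B).constr B fun k => P.coeff k
  have hγ : ∀ k, l (γ N B k) = P.coeff k := fun k => by
    rw [γ]
    split_ifs with h
    · exact (basis N B).constr_basis B _ _
    · rw [map_zero, hdeg k (not_lt.mp h)]
  have hb : ∀ k : Fin N, basis N B k = γ N B k := fun k => by rw [γ, dif_pos k.2]
  have hone : l 1 = 1 := by rw [← γ_zero N B hN, hγ, hP.coeff_zero]
  have hmul : ∀ x y, l (x * y) = l x * l y := by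
    have h : (LinearMap.mul B (DP N B)).compr₂ l = (LinearMap.mul B C).compl₁₂ l l := by
      refine (basis N B).ext fun i => (basis N B).ext fun j => ?_
      simp only [LinearMap.compr₂_apply, LinearMap.mul_apply', LinearMap.compl₁₂_apply]
      rw [hb, hb, γ_mul, hγ, hγ, hP.coeff_mul, ← nsmul_eq_mul, map_nsmul, hγ, nsmul_eq_mul]
    exact fun x y => LinearMap.congr_fun (LinearMap.congr_fun h x) y
  exact ⟨AlgHom.ofLinearMap l hone hmul, Polynomial.ext fun k => by
    rw [coeff_map, coeff_univ]; exact hγ k⟩

end Universal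

/-- A natural multiplicative function on exponential polynomials over all `B`-algebras is the
evaluation at an element of `B`. -/
theorem exists_eval (B : Type u) [CommRing B]
    (Φ : ∀ (C : Type u) [CommRing C] [Algebra B C] (P : C[X]), IsExp P → C)
    (hnat : ∀ (C : Type u) [CommRing C] [Algebra B C] (C' : Type u) [CommRing C'] [Algebra B C']
      (g : C →ₐ[B] C') (P : C[X]) (hP : IsExp P), g (Φ C P hP) = Φ C' _ (hP.map g.toRingHom))
    (hone : Φ B 1 isExp_one = 1)
    (hmul : ∀ (C : Type u) [CommRing C] [Algebra B C] (P Q : C[X]) (hP : IsExp P) (hQ : IsExp Q),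
      Φ C _ (hP.mul hQ) = Φ C P hP * Φ C Q hQ) :
    ∃ a : B, ∀ (C : Type u) [CommRing C] [Algebra B C] (P : C[X]) (hP : IsExp P),
      Φ C P hP = P.eval (algebraMap B C a) := by
  have hcongr : ∀ (C : Type u) [CommRing C] [Algebra B C] (P Q : C[X]) (hP : IsExp P) (hQ : IsExp Q),
      P = Q → Φ C P hP = Φ C Q hQ := by
    intros; subst_vars; rfl
  let α : ℕ → ℕ → B := fun M k => if h : k < M then
    (basis M B).repr (Φ (DP M B) _ (isExp_univ M B (by omega))) ⟨k, h⟩ else 0
  have hbound : ∀ (M : ℕ), 0 < M → ∀ (C : Type u) [CommRing C] [Algebra B C] (P : C[X]) (hP : IsExp P),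
      (∀ k, M ≤ k → P.coeff k = 0) →
      Φ C P hP = ∑ k ∈ Finset.range M, algebraMap B C (α M k) * P.coeff k := by
    intro M hM C _ _ P hP hdeg
    obtain ⟨g, hg⟩ := exists_lift M B hM P hP hdeg
    rw [hcongr C P _ hP ((isExp_univ M B hM).map g.toRingHom) hg.symm,
      ← hnat (DP M B) C g _ (isExp_univ M B hM),
      ← (basis M B).sum_repr (Φ (DP M B) _ _), map_sum, Finset.sum_range]
    refine Finset.sum_congr rfl fun k _ => ?_
    rw [map_smul, Algebra.smul_def]
    congr 1
    · simp only [α, dif_pos k.2]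
    · have h2 := congrArg (fun R : C[X] => R.coeff k) hg
      simp only [coeff_map, coeff_univ, γ, dif_pos k.2] at h2
      exact h2
  have hind : ∀ (M : ℕ) (B' : Type u) [CommRing B'] (c c' : ℕ → B'),
      ∑ k ∈ Finset.range M, algebraMap B' (DP M B') (c k) * γ M B' k =
        ∑ k ∈ Finset.range M, algebraMap B' (DP M B') (c' k) * γ M B' k →
      ∀ k < M, c k = c' k := by
    intro M B' _ c c' h k hk
    have hc : ∀ d : ℕ → B', ∑ k ∈ Finset.range M, algebraMap B' (DP M B') (d k) * γ M B' k =
        ∑ k : Fin M, d k • basis M B' k := fun d => by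
      rw [Finset.sum_range]
      exact Finset.sum_congr rfl fun i _ => by rw [γ, dif_pos i.2]; exact (Algebra.smul_def _ _).symm
    rw [hc, hc] at h
    have := congrArg (fun x => (basis M B').repr x ⟨k, hk⟩) h
    simpa [Finsupp.single_apply] using this
  -- compatibility of the coefficients for different bounds
  have hcompat : ∀ M M', M ≤ M' → ∀ k < M, α M k = α M' k := fun M M' hMM k hk => by
    refine hind M B _ _ ?_ k hk
    have h1 := hbound M (by omega) (DP M B) _ (isExp_univ M B (by omega))
      fun j hj => by rw [coeff_univ, γ, dif_neg (not_lt.mpr hj)]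
    have h2 := hbound M' (by omega) (DP M B) _ (isExp_univ M B (by omega))
      fun j hj => by rw [coeff_univ, γ, dif_neg (not_lt.mpr (hMM.trans hj))]
    simp only [coeff_univ] at h1 h2
    rw [← h1, h2]
    refine (Finset.sum_subset (by simpa using hMM) fun j _ hj => ?_).symm
    rw [γ, dif_neg (by simpa using hj), mul_zero]
  let β : ℕ → B := fun k => α (k + 1) k
  have hform : ∀ (M : ℕ), 0 < M → ∀ (C : Type u) [CommRing C] [Algebra B C] (P : C[X]) (hP : IsExp P),
      (∀ k, M ≤ k → P.coeff k = 0) →
      Φ C P hP = ∑ k ∈ Finset.range M, algebraMap B C (β k) * P.coeff k := by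
    intro M hM C _ _ P hP hdeg
    rw [hbound M hM C P hP hdeg]
    refine Finset.sum_congr rfl fun k hk => ?_
    rw [← hcompat (k + 1) M (Finset.mem_range.mp hk) k (Nat.lt_succ_self k)]
  have hβ0 : β 0 = 1 := by
    have h := hform 1 one_pos B 1 isExp_one fun k hk => by
      rw [coeff_one, if_neg (by omega)]
    simpa [hone] using h.symm
  have hβmul : ∀ i j, β (i + j) = β i * β j := by
    intro i j
    let M := i + j + 1
    have hM : 0 < M := by omega
    let P : (DP M (DP M B))[X] := (univ M B).map (algebraMap (DP M B) (DP M (DP M B)))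
    let R : (DP M (DP M B))[X] := univ M (DP M B)
    have hP : IsExp P := (isExp_univ M B hM).map _
    have hR : IsExp R := isExp_univ M (DP M B) hM
    letI : Algebra B (DP M (DP M B)) := ((algebraMap (DP M B) (DP M (DP M B))).comp (algebraMap B (DP M B))).toAlgebra
    haveI : IsScalarTower B (DP M B) (DP M (DP M B)) := IsScalarTower.of_algebraMap_eq fun _ => rfl
    have e0 : ∀ r, algebraMap B (DP M (DP M B)) r = algebraMap (DP M B) (DP M (DP M B)) (algebraMap B (DP M B) r) := fun _ => rfl
    have hPd : ∀ k, M ≤ k → P.coeff k = 0 := fun k hk => by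
      rw [coeff_map, coeff_univ, γ, dif_neg (not_lt.mpr hk), map_zero]
    have hRd : ∀ k, M ≤ k → R.coeff k = 0 := fun k hk => by
      rw [coeff_univ, γ, dif_neg (not_lt.mpr hk)]
    have hdP : P.natDegree ≤ M - 1 :=
      natDegree_le_iff_coeff_eq_zero.mpr fun k hk => hPd k (by omega)
    have hdR : R.natDegree ≤ M - 1 :=
      natDegree_le_iff_coeff_eq_zero.mpr fun k hk => hRd k (by omega)
    have hPR : ∀ k, 2 * M ≤ k → (P * R).coeff k = 0 := fun k hk =>
      coeff_eq_zero_of_natDegree_lt ((natDegree_mul_le.trans (add_le_add hdP hdR)).trans_lt (by omega))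
    have key := hmul (DP M (DP M B)) P R hP hR
    rw [hform (2 * M) (by omega) (DP M (DP M B)) _ (hP.mul hR) hPR, hform M hM (DP M (DP M B)) P hP hPd,
      hform M hM (DP M (DP M B)) R hR hRd] at key
    -- the linear functional `L` with `L (X ^ k) = β k`
    have hlin : ∑ k ∈ Finset.range (2 * M), algebraMap B (DP M (DP M B)) (β k) * (P * R).coeff k =
        ∑ a ∈ Finset.range M, ∑ b ∈ Finset.range M,
          algebraMap B (DP M (DP M B)) (β (a + b)) * (P.coeff a * R.coeff b) := by
      have hx : P * R = ∑ a ∈ Finset.range M, ∑ b ∈ Finset.range M,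
          Polynomial.C (P.coeff a * R.coeff b) * Polynomial.X ^ (a + b) := by
        conv_lhs => rw [P.as_sum_range' M (by omega), R.as_sum_range' M (by omega)]
        rw [Finset.sum_mul_sum]
        simp only [monomial_mul_monomial, C_mul_X_pow_eq_monomial]
      conv_lhs => rw [hx]
      simp only [finsetSum_coeff, coeff_C_mul_X_pow, Finset.mul_sum, mul_ite, mul_zero]
      rw [Finset.sum_comm]
      refine Finset.sum_congr rfl fun a ha => ?_
      rw [Finset.sum_comm]
      refine Finset.sum_congr rfl fun b hb => ?_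
      rw [Finset.sum_ite_eq']
      rw [Finset.mem_range] at ha hb
      rw [if_pos (Finset.mem_range.mpr (by omega))]
    rw [hlin, Finset.sum_mul_sum, Finset.sum_comm] at key
    rw [Finset.sum_comm (s := Finset.range M) (t := Finset.range M)
      (f := fun a b => algebraMap B (DP M (DP M B)) (β a) * P.coeff a * (algebraMap B (DP M (DP M B)) (β b) * R.coeff b))] at key
    have h1 := hind M (DP M B) (fun b => ∑ a ∈ Finset.range M, algebraMap B (DP M B) (β (a + b)) * γ M B a)
      (fun b => ∑ a ∈ Finset.range M, algebraMap B (DP M B) (β a * β b) * γ M B a) ?_ j (by omega)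
    · exact hind M B (fun a => β (a + j)) (fun a => β a * β j) h1 i (by omega)
    · calc _ = ∑ b ∈ Finset.range M, ∑ a ∈ Finset.range M,
            algebraMap B (DP M (DP M B)) (β (a + b)) * (P.coeff a * R.coeff b) := by
            refine Finset.sum_congr rfl fun b _ => ?_
            rw [map_sum, Finset.sum_mul]
            refine Finset.sum_congr rfl fun a _ => ?_
            rw [coeff_map, coeff_univ, coeff_univ, map_mul, e0, mul_assoc]
        _ = _ := key
        _ = _ := by
            refine Finset.sum_congr rfl fun b _ => ?_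
            rw [map_sum, Finset.sum_mul]
            refine Finset.sum_congr rfl fun a _ => ?_
            rw [coeff_map, coeff_univ, coeff_univ, map_mul, map_mul, map_mul, e0, e0]
            ring
  have hpow : ∀ k, β k = β 1 ^ k := by
    intro k
    induction k with
    | zero => rw [hβ0, pow_zero]
    | succ k ih => rw [hβmul, ih, pow_succ]
  refine ⟨β 1, fun C _ _ P hP => ?_⟩
  rw [hform (P.natDegree + 1) (by omega) C P hP
    fun k hk => coeff_eq_zero_of_natDegree_lt hk, eval_eq_sum_range]
  exact Finset.sum_congr rfl fun k _ => by rw [hpow k, map_pow, mul_comm]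

end Groth.GaDual.ExpPoly
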