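import Groth.Prelude.Def_CGrpSh2
import Groth.Agent.Reductive.Points
import Groth.Agent.GrpschAbsch.GaGm
import Groth.Agent.GaDual.ExpPoly
import Groth.Agent.AbSchBiext.Exactness

/-!
The double dual of the additive group: `G_a → 𝓗om(𝓗om(G_a, G_m), G_m)` is an isomorphism of fppf sheaves.
-/

set_option autoImplicit false

universe u

open CategoryTheory MonoidalCategory CartesianMonoidalCategory MonObj GrpObj AlgebraicGeometry Opposite
open Polynomial
open Groth.GaDual.ExpPoly

set_option maxHeartbeats 400000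
set_option backward.isDefEq.respectTransparency false

noncomputable section

namespace Groth.GaDual

variable {K : Precoverage Scheme.{u}} {S : Scheme.{u}} [(QuotSh.J K S).Subcanonical]

/-- Characters of the additive group over `V`. -/
abbrev Chr (K : Precoverage Scheme.{u}) {S : Scheme.{u}} [(QuotSh.J K S).Subcanonical] (V : Over S) :
    Type (u + 1) :=
  (CGrpSh2.Ga K S).over V ⟶ (CGrpSh2.Gm K S).over V

/-- Characters of the dual of the additive group over `T`. -/
abbrev Chr2 (K : Precoverage Scheme.{u}) {S : Scheme.{u}} [(QuotSh.J K S).Subcanonical] (T : Over S) :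
    Type (u + 1) :=
  (CGrpSh2.dualSh K (CGrpSh2.Ga K S)).over T ⟶ (CGrpSh2.Gm K S).over T

/-- Restriction of a character along `h`. -/
abbrev resChr {V V' : Over S} (h : V' ⟶ V) (φ : Chr K V) : Chr K V' :=
  (CGrpSh2.dualSh K (CGrpSh2.Ga K S)).obj.map h.op φ

section cval

variable {V : Over S} (φ : Chr K V)

/-- The action of a character on points. -/
def capp {W : Over S} (g : W ⟶ V) (x : W ⟶ Red.Ga S) : W ⟶ Red.Gm S :=
  (φ.hom.app (op (Over.mk g)) (ULift.up (Additive.ofMul x))).down.toMul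

lemma capp_comp {W W' : Over S} (h : W' ⟶ W) (g : W ⟶ V) (x : W ⟶ Red.Ga S) :
    h ≫ capp φ g x = capp φ (h ≫ g) (h ≫ x) :=
  congrArg (fun z => (ULift.down z).toMul) (ConcreteCategory.congr_hom
    (φ.hom.naturality (Over.homMk h rfl : Over.mk (h ≫ g) ⟶ Over.mk g).op)
    (ULift.up (Additive.ofMul x))).symm

lemma capp_mul {W : Over S} (g : W ⟶ V) (x y : W ⟶ Red.Ga S) :
    capp φ g (x * y) = capp φ g x * capp φ g y :=
  congrArg (fun z => (ULift.down z).toMul)
    (map_add (φ.hom.app (op (Over.mk g))).hom (ULift.up (Additive.ofMul x)) (ULift.up (Additive.ofMul y)))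

lemma capp_one {W : Over S} (g : W ⟶ V) : capp φ g 1 = 1 :=
  congrArg (fun z => (ULift.down z).toMul) (map_zero (φ.hom.app (op (Over.mk g))).hom)

lemma capp_add_hom (ψ : Chr K V) {W : Over S} (g : W ⟶ V) (x : W ⟶ Red.Ga S) :
    capp (φ + ψ) g x = capp φ g x * capp ψ g x := rfl

/-- The function value of a character. -/
def cval {W : Over S} (g : W ⟶ V) (r : Γ(W.left, ⊤)) : Γ(W.left, ⊤) :=
  Red.gmFn (capp φ g (Reductive.gaMk W r))

lemma cval_comp {W W' : Over S} (h : W' ⟶ W) (g : W ⟶ V) (r : Γ(W.left, ⊤)) :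
    h.left.appTop (cval φ g r) = cval φ (h ≫ g) (h.left.appTop r) := by
  have he : h ≫ Reductive.gaMk W r = Reductive.gaMk W' (h.left.appTop r) :=
    Reductive.gaFn_injective (by rw [Reductive.gaFn_comp, Reductive.gaFn_gaMk, Reductive.gaFn_gaMk])
  rw [cval, cval, ← Reductive.gmFn_comp, capp_comp, he]

lemma cval_add {W : Over S} (g : W ⟶ V) (r r' : Γ(W.left, ⊤)) :
    cval φ g (r + r') = cval φ g r * cval φ g r' := by
  have he : Reductive.gaMk W (r + r') = Reductive.gaMk W r * Reductive.gaMk W r' :=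
    Reductive.gaFn_injective (by simp [Reductive.gaFn_mul])
  rw [cval, cval, cval, ← Reductive.gmFn_mul, he, capp_mul]

lemma cval_zero {W : Over S} (g : W ⟶ V) : cval φ g 0 = 1 := by
  have he : Reductive.gaMk W 0 = 1 :=
    Reductive.gaFn_injective (by simp [Reductive.gaFn_one])
  rw [cval, he, capp_one, Reductive.gmFn_one]

lemma cval_resChr {V' W : Over S} (k : V' ⟶ V) (g : W ⟶ V') (r : Γ(W.left, ⊤)) :
    cval (resChr k φ) g r = cval φ (g ≫ k) r := rfl

lemma cval_add_hom (ψ : Chr K V) {W : Over S} (g : W ⟶ V) (r : Γ(W.left, ⊤)) :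
    cval (φ + ψ) g r = cval φ g r * cval ψ g r := by
  rw [cval, cval, cval, ← Reductive.gmFn_mul, capp_add_hom]

lemma chr_ext {ψ : Chr K V}
    (h : ∀ {W : Over S} (g : W ⟶ V) (r : Γ(W.left, ⊤)), cval φ g r = cval ψ g r) : φ = ψ := by
  refine Sheaf.hom_ext (NatTrans.ext (funext fun U => AddCommGrpCat.ext fun x => ?_))
  have hx : x = ULift.up (Additive.ofMul
      (Reductive.gaMk (unop U).left (Red.gaFn x.down.toMul))) :=
    ULift.ext _ _ (congrArg Additive.ofMul
      (Reductive.gaFn_injective (Reductive.gaFn_gaMk _).symm))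
  rw [hx]
  exact ULift.ext _ _ (congrArg Additive.ofMul
    (Reductive.gmFn_injective (h (unop U).hom (Red.gaFn x.down.toMul))))

end cval

/-- The exponential of a point of the additive group. -/
def expPt {V : Over S} (P : Γ(V.left, ⊤)[X]) (hP : IsExp P) {W : Over S} (g : W ⟶ V) (x : W ⟶ Red.Ga S) :
    W ⟶ Red.Gm S :=
  Reductive.gmMk W (hP.isUnit_eval₂ g.left.appTop.hom (Red.gaFn x)).unit

lemma gmFn_expPt {V : Over S} (P : Γ(V.left, ⊤)[X]) (hP : IsExp P) {W : Over S} (g : W ⟶ V)
    (x : W ⟶ Red.Ga S) : Red.gmFn (expPt P hP g x) = P.eval₂ g.left.appTop.hom (Red.gaFn x) := by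
  rw [expPt, Reductive.gmFn_gmMk, IsUnit.unit_spec]

lemma expPt_one {V : Over S} (P : Γ(V.left, ⊤)[X]) (hP : IsExp P) {W : Over S} (g : W ⟶ V) :
    expPt P hP g 1 = 1 :=
  Reductive.gmFn_injective (by
    rw [gmFn_expPt, Reductive.gaFn_one, hP.eval₂_zero, Reductive.gmFn_one])

lemma expPt_mul {V : Over S} (P : Γ(V.left, ⊤)[X]) (hP : IsExp P) {W : Over S} (g : W ⟶ V)
    (x y : W ⟶ Red.Ga S) : expPt P hP g (x * y) = expPt P hP g x * expPt P hP g y :=
  Reductive.gmFn_injective (by
    rw [gmFn_expPt, Reductive.gmFn_mul, gmFn_expPt, gmFn_expPt, Reductive.gaFn_mul, hP.eval₂_add])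

lemma expPt_comp {V : Over S} (P : Γ(V.left, ⊤)[X]) (hP : IsExp P) {W W' : Over S} (h : W' ⟶ W)
    (g : W ⟶ V) (x : W ⟶ Red.Ga S) : h ≫ expPt P hP g x = expPt P hP (h ≫ g) (h ≫ x) :=
  Reductive.gmFn_injective (by
    rw [gmFn_expPt, Reductive.gmFn_comp, gmFn_expPt, Reductive.gaFn_comp]
    refine (Polynomial.hom_eval₂ P _ h.left.appTop.hom _).trans ?_
    rw [← CommRingCat.hom_comp, ← Scheme.Hom.comp_appTop, ← Over.comp_left])

/-- The character of an exponential polynomial. -/
def expChar (V : Over S) (P : Γ(V.left, ⊤)[X]) (hP : IsExp P) : Chr K V :=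
  ⟨{ app := fun W => AddCommGrpCat.ofHom
      { toFun := fun x => ULift.up (Additive.ofMul (expPt P hP (unop W).hom x.down.toMul))
        map_zero' := ULift.ext _ _ (congrArg Additive.ofMul (expPt_one P hP (unop W).hom))
        map_add' := fun x y => ULift.ext _ _ (congrArg Additive.ofMul
          (expPt_mul P hP (unop W).hom x.down.toMul y.down.toMul)) }
     naturality := fun W W' f => AddCommGrpCat.ext fun x => ULift.ext _ _
       (congrArg Additive.ofMul (Eq.symm ((expPt_comp P hP f.unop.left (unop W).hom x.down.toMul).trans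
        (congrArg (fun g => expPt P hP g (f.unop.left ≫ x.down.toMul)) (Over.w f.unop))))) }⟩

lemma cval_expChar {V : Over S} (P : Γ(V.left, ⊤)[X]) (hP : IsExp P) {W : Over S} (g : W ⟶ V)
    (r : Γ(W.left, ⊤)) : cval (expChar (K := K) V P hP) g r = P.eval₂ g.left.appTop.hom r :=
  (gmFn_expPt P hP g (Reductive.gaMk W r)).trans
    (congrArg (fun z => P.eval₂ g.left.appTop.hom z) (Reductive.gaFn_gaMk r))

lemma resChr_expChar {V V' : Over S} (k : V' ⟶ V) (P : Γ(V.left, ⊤)[X]) (hP : IsExp P)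
    (Q : Γ(V'.left, ⊤)[X]) (hQ : IsExp Q) (h : P.map k.left.appTop.hom = Q) :
    resChr k (expChar (K := K) V P hP) = expChar V' Q hQ := by
  refine chr_ext _ fun {W} g r => ?_
  rw [cval_resChr, cval_expChar, cval_expChar, ← h, eval₂_map, ← CommRingCat.hom_comp]
  rfl

lemma expChar_mul {V : Over S} (P Q : Γ(V.left, ⊤)[X]) (hP : IsExp P) (hQ : IsExp Q) :
    expChar (K := K) V (P * Q) (hP.mul hQ) = expChar V P hP + expChar V Q hQ := by
  refine chr_ext _ fun {W} g r => ?_
  rw [cval_add_hom, cval_expChar, cval_expChar, cval_expChar, eval₂_mul]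

lemma expChar_one {V : Over S} : expChar (K := K) V 1 isExp_one = 0 := by
  refine chr_ext _ fun {W} g r => ?_
  rw [cval_expChar, eval₂_one]
  exact Reductive.gmFn_one.symm

section dval

variable {T : Over S} (Φ : Chr2 K T)

/-- A character of the dual on characters. -/
def dapp {V : Over S} (g : V ⟶ T) (φ : Chr K V) : V ⟶ Red.Gm S :=
  (Φ.hom.app (op (Over.mk g)) φ).down.toMul

lemma dapp_comp {V V' : Over S} (h : V' ⟶ V) (g : V ⟶ T) (φ : Chr K V) :
    h ≫ dapp Φ g φ = dapp Φ (h ≫ g) (resChr h φ) :=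
  congrArg (fun z => (ULift.down z).toMul) (ConcreteCategory.congr_hom
    (Φ.hom.naturality (Over.homMk h rfl : Over.mk (h ≫ g) ⟶ Over.mk g).op) φ).symm

lemma dapp_add {V : Over S} (g : V ⟶ T) (φ ψ : Chr K V) :
    dapp Φ g (φ + ψ) = dapp Φ g φ * dapp Φ g ψ :=
  congrArg (fun z => (ULift.down z).toMul) (map_add (Φ.hom.app (op (Over.mk g))).hom φ ψ)

lemma dapp_zero {V : Over S} (g : V ⟶ T) : dapp Φ g 0 = 1 :=
  congrArg (fun z => (ULift.down z).toMul) (map_zero (Φ.hom.app (op (Over.mk g))).hom)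

/-- The function value of a character of the dual. -/
def dval {V : Over S} (g : V ⟶ T) (φ : Chr K V) : Γ(V.left, ⊤) :=
  Red.gmFn (dapp Φ g φ)

lemma dval_comp {V V' : Over S} (h : V' ⟶ V) (g : V ⟶ T) (φ : Chr K V) :
    h.left.appTop (dval Φ g φ) = dval Φ (h ≫ g) (resChr h φ) := by
  rw [dval, dval, ← Reductive.gmFn_comp, dapp_comp]

lemma dval_add {V : Over S} (g : V ⟶ T) (φ ψ : Chr K V) :
    dval Φ g (φ + ψ) = dval Φ g φ * dval Φ g ψ := by
  rw [dval, dval, dval, ← Reductive.gmFn_mul, dapp_add]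

lemma dval_zero {V : Over S} (g : V ⟶ T) : dval Φ g 0 = 1 := by
  rw [dval, dapp_zero, Reductive.gmFn_one]

/-- The evaluation at a point of the additive group. -/
abbrev evPt (s : T ⟶ Red.Ga S) : Chr2 K T :=
  HomSh.evalSect (QuotSh.J K S) (M := CGrpSh2.Gm K S) (F := CGrpSh2.Ga K S) (X := T)
    (ULift.up (Additive.ofMul s) : (CGrpSh2.Ga K S).obj.obj (op T))

lemma dapp_evPt (s : T ⟶ Red.Ga S) {V : Over S} (g : V ⟶ T) (φ : Chr K V) :
    dapp (evPt s) g φ = capp φ (𝟙 V) (g ≫ s) := rfl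

lemma dval_evalSect (s : T ⟶ Red.Ga S) {V : Over S} (g : V ⟶ T) (φ : Chr K V) :
    dval (evPt s) g φ = cval φ (𝟙 V) (g.left.appTop (Red.gaFn s)) := by
  rw [dval, dapp_evPt, cval, show Reductive.gaMk V (g.left.appTop (Red.gaFn s)) = g ≫ s from
    Reductive.gaFn_injective (by rw [Reductive.gaFn_gaMk, Reductive.gaFn_comp])]

lemma chr2_ext {Ψ : Chr2 K T}
    (h : ∀ {V : Over S} (g : V ⟶ T) (φ : Chr K V), dval Φ g φ = dval Ψ g φ) : Φ = Ψ :=
  Sheaf.hom_ext (NatTrans.ext (funext fun U => AddCommGrpCat.ext fun φ =>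
    ULift.ext _ _ (congrArg Additive.ofMul (Reductive.gmFn_injective (h (unop U).hom φ)))))

end dval

lemma id_appTop_hom (V : Over S) :
    (Over.Hom.left (𝟙 V)).appTop.hom = RingHom.id Γ(V.left, ⊤) := by
  rw [Over.id_left, Scheme.Hom.id_appTop]
  rfl

lemma cval_expChar_id {V : Over S} (P : Γ(V.left, ⊤)[X]) (hP : IsExp P) (r : Γ(V.left, ⊤)) :
    cval (expChar (K := K) V P hP) (𝟙 V) r = P.eval r := by
  rw [cval_expChar, id_appTop_hom]
  rfl

/-- Global functions are detected on affine schemes mapping in. -/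
lemma eq_of_affine {V : Over S} (a b : Γ(V.left, ⊤))
    (h : ∀ (W : Over S) (k : W ⟶ V), IsAffine W.left → k.left.appTop a = k.left.appTop b) : a = b := by
  have : Reductive.gaMk V a = Reductive.gaMk V b := by
    refine Over.OverMorphism.ext (Scheme.Cover.hom_ext V.left.affineCover _ _ fun i => ?_)
    let W : Over S := Over.mk (V.left.affineCover.f i ≫ V.hom)
    let k : W ⟶ V := Over.homMk (V.left.affineCover.f i)
    have e : k ≫ Reductive.gaMk V a = k ≫ Reductive.gaMk V b :=
      Reductive.gaFn_injective (by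
        rw [Reductive.gaFn_comp, Reductive.gaFn_comp, Reductive.gaFn_gaMk, Reductive.gaFn_gaMk]
        exact h W k (inferInstanceAs (IsAffine (V.left.affineCover.X i))))
    exact congrArg CommaMorphism.left e
  simpa using congrArg Red.gaFn this

section Affine

variable (T : Over S) [IsAffine T.left] (C : Type u) [CommRing C] [Algebra Γ(T.left, ⊤) C]

/-- The structure map of an algebra over an affine object. -/
abbrev specHom : Spec (CommRingCat.of C) ⟶ T.left :=
  Spec.map (CommRingCat.ofHom (algebraMap Γ(T.left, ⊤) C)) ≫ T.left.isoSpec.inv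

/-- The object of an algebra over an affine object. -/
abbrev specObj : Over S := Over.mk (specHom T C ≫ T.hom)

/-- Its structure map. -/
abbrev specTo : specObj T C ⟶ T := Over.homMk (specHom T C) rfl

/-- An element of the algebra as a global function. -/
abbrev toΓ : C →+* Γ((specObj T C).left, ⊤) := (Scheme.ΓSpecIso (CommRingCat.of C)).inv.hom

/-- A global function as an element of the algebra. -/
abbrev ofΓ : Γ((specObj T C).left, ⊤) →+* C := (Scheme.ΓSpecIso (CommRingCat.of C)).hom.hom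

lemma ofΓ_toΓ (c : C) : ofΓ T C (toΓ T C c) = c :=
  congr($((Scheme.ΓSpecIso (CommRingCat.of C)).inv_hom_id) c)

lemma toΓ_ofΓ (x : Γ((specObj T C).left, ⊤)) : toΓ T C (ofΓ T C x) = x :=
  congr($((Scheme.ΓSpecIso (CommRingCat.of C)).hom_inv_id) x)

lemma specTo_appTop (b : Γ(T.left, ⊤)) :
    (specTo T C).left.appTop b = toΓ T C (algebraMap _ C b) := by
  show (specHom T C).appTop b = _
  have h2 : T.left.isoSpec.inv.appTop b = (Scheme.ΓSpecIso _).inv b := by
    have h := GrpschAbsch.toSpecΓ_appTop_inv T.left b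
    rw [← Scheme.isoSpec_hom] at h
    conv_lhs => rw [← h]
    rw [← CommRingCat.comp_apply, ← Scheme.Hom.comp_appTop, Iso.inv_hom_id, Scheme.Hom.id_appTop]
    rfl
  rw [Scheme.Hom.comp_appTop, CommRingCat.comp_apply]
  refine (congrArg (fun z => (Spec.map (CommRingCat.ofHom (algebraMap Γ(T.left, ⊤) C))).appTop z) h2).trans ?_
  exact GrpschAbsch.appTop_specMap_inv (CommRingCat.ofHom (algebraMap Γ(T.left, ⊤) C)) b

/-- Morphisms into the object of an algebra. -/
lemma exists_toSpecObj {V : Over S} (g : V ⟶ T) (ρ : C →+* Γ(V.left, ⊤))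
    (hρ : ∀ b, ρ (algebraMap _ C b) = g.left.appTop b) :
    ∃ k : V ⟶ specObj T C, k ≫ specTo T C = g ∧ ∀ c, k.left.appTop (toΓ T C c) = ρ c := by
  let l : V.left ⟶ Spec (CommRingCat.of C) := V.left.toSpecΓ ≫ Spec.map (CommRingCat.ofHom ρ)
  have hl : ∀ c, l.appTop (toΓ T C c) = ρ c := fun c => by
    rw [Scheme.Hom.comp_appTop, CommRingCat.comp_apply]
    erw [GrpschAbsch.appTop_specMap_inv (CommRingCat.ofHom ρ) c]
    exact GrpschAbsch.toSpecΓ_appTop_inv _ _
  have hlT : l ≫ specHom T C = g.left := by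
    refine ext_of_isAffine (CommRingCat.hom_ext (RingHom.ext fun b => ?_))
    rw [Scheme.Hom.comp_appTop, CommRingCat.comp_apply]
    erw [specTo_appTop T C b, hl, hρ]
  refine ⟨Over.homMk l ?_, Over.OverMorphism.ext hlT, hl⟩
  show l ≫ specHom T C ≫ T.hom = V.hom
  rw [← Category.assoc, hlT, Over.w g]

end Affine

/-- Over an affine base every character is exponential. -/
lemma exists_expChar {V : Over S} [IsAffine V.left] (φ : Chr K V) :
    ∃ (P : Γ(V.left, ⊤)[X]) (hP : IsExp P), φ = expChar V P hP := by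
  let C := Γ(V.left, ⊤)[X]
  let P : C := ofΓ V C (cval φ (specTo V C) (toΓ V C Polynomial.X))
  have hval : ∀ {W : Over S} (g : W ⟶ V) (r : Γ(W.left, ⊤)),
      cval φ g r = P.eval₂ g.left.appTop.hom r := by
    intro W g r
    obtain ⟨k, hk, hρ⟩ := exists_toSpecObj V C g (eval₂RingHom g.left.appTop.hom r) fun b => by
      rw [Polynomial.algebraMap_eq, coe_eval₂RingHom, eval₂_C]
    have h := cval_comp φ k (specTo V C) (toΓ V C Polynomial.X)
    rw [hk, hρ, coe_eval₂RingHom, eval₂_X] at h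
    rw [← h, ← toΓ_ofΓ V C (cval φ (specTo V C) _), hρ]
    rfl
  have h0 : P.coeff 0 = 1 := by
    have h := hval (𝟙 V) 0
    rw [cval_zero, eval₂_at_zero] at h
    simpa using h.symm
  have hP : IsExp P := by
    refine isExp_of_additive h0 ?_
    let C2 := Γ(V.left, ⊤)[X][X]
    have hkey : ∀ c : C2, cval φ (specTo V C2) (toΓ V C2 c) =
        toΓ V C2 (P.eval₂ (Polynomial.C.comp Polynomial.C) c) := fun c => by
      rw [hval, Polynomial.hom_eval₂]
      refine congrArg (fun f => P.eval₂ f _) (RingHom.ext fun b => ?_)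
      exact specTo_appTop V C2 b
    have h := cval_add φ (specTo V C2) (toΓ V C2 (Polynomial.C Polynomial.X))
      (toΓ V C2 Polynomial.X)
    rw [← map_add, hkey, hkey, hkey, ← map_mul] at h
    simpa only [ofΓ_toΓ] using congrArg (ofΓ V C2) h
  exact ⟨P, hP, chr_ext _ fun g r => by rw [hval, cval_expChar]⟩

/-- On affine objects every character of the dual is an evaluation. -/
lemma surjective_of_isAffine {T : Over S} [IsAffine T.left] (Φ : Chr2 K T) :
    ∃ s : T ⟶ Red.Ga S, evPt s = Φ := by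
  let Φ' : ∀ (C : Type u) [CommRing C] [Algebra Γ(T.left, ⊤) C] (P : C[X]), IsExp P → C :=
    fun C _ _ P hP => ofΓ T C (dval Φ (specTo T C) (expChar _ (P.map (toΓ T C)) (hP.map _)))
  refine Exists.elim (exists_eval Γ(T.left, ⊤) Φ' ?_ ?_ ?_) fun a ha => ?_
  · intro C _ _ C' _ _ g P hP
    obtain ⟨k, hk, hρ⟩ := exists_toSpecObj T C (specTo T C') ((toΓ T C').comp g.toRingHom) fun b => by
      rw [specTo_appTop]
      exact congrArg (toΓ T C') (g.commutes b)
    have h := dval_comp Φ k (specTo T C) (expChar _ (P.map (toΓ T C)) (hP.map _))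
    rw [hk, ← toΓ_ofΓ T C (dval Φ _ _), hρ, resChr_expChar k _ _ _
      ((hP.map g.toRingHom).map (toΓ T C')) (by
        rw [Polynomial.map_map, Polynomial.map_map]
        exact congrArg (P.map ·) (RingHom.ext hρ))] at h
    show g (ofΓ T C _) = ofΓ T C' _
    rw [← h]
    exact (ofΓ_toΓ T C' _).symm
  · show ofΓ T _ _ = 1
    have e : expChar (K := K) (specObj T Γ(T.left, ⊤)) ((1 : Γ(T.left, ⊤)[X]).map (toΓ T _))
        (isExp_one.map _) = 0 :=
      chr_ext _ fun g r => by
        rw [cval_expChar, Polynomial.map_one, eval₂_one]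
        exact Reductive.gmFn_one.symm
    rw [e, dval_zero, map_one]
  · intro C _ _ P Q hP hQ
    show ofΓ T C _ = ofΓ T C _ * ofΓ T C _
    rw [← map_mul, ← dval_add, ← expChar_mul]
    simp only [Polynomial.map_mul]
  refine ⟨Reductive.gaMk T a, (chr2_ext _ fun {V} g φ => ?_)⟩
  refine eq_of_affine _ _ fun W k hW => ?_
  rw [dval_comp, dval_comp]
  obtain ⟨P, hP, hφ⟩ := exists_expChar (K := K) (resChr k φ)
  letI : Algebra Γ(T.left, ⊤) Γ(W.left, ⊤) := (k ≫ g).left.appTop.hom.toAlgebra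
  obtain ⟨l, hl, hρ⟩ := exists_toSpecObj T Γ(W.left, ⊤) (k ≫ g) (RingHom.id _) fun b => rfl
  rw [hφ, dval_evalSect, cval_expChar, Reductive.gaFn_gaMk, ← Polynomial.eval_map,
    id_appTop_hom, Polynomial.map_id]
  have h := dval_comp Φ l (specTo T Γ(W.left, ⊤))
    (expChar _ (P.map (toΓ T Γ(W.left, ⊤))) (hP.map _))
  rw [hl, resChr_expChar l _ _ P hP (by
    rw [Polynomial.map_map, show l.left.appTop.hom.comp (toΓ T Γ(W.left, ⊤)) = RingHom.id _ from
      RingHom.ext hρ, Polynomial.map_id]), ← toΓ_ofΓ T _ (dval Φ _ _), hρ] at h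
  rw [← h]
  exact (ha Γ(W.left, ⊤) P hP).symm

/-- On affine objects evaluation is injective. -/
lemma injective_of_isAffine {T : Over S} [IsAffine T.left] (s t : T ⟶ Red.Ga S)
    (h : evPt (K := K) s = evPt t) : s = t := by
  refine Reductive.gaFn_injective ?_
  let C := DualNumber Γ(T.left, ⊤)
  have hP : IsExp (1 + Polynomial.C (DualNumber.eps : C) * Polynomial.X) :=
    isExp_linear DualNumber.eps_mul_eps
  have h1 := congrArg (fun Ψ => dval Ψ (specTo T C) (expChar _ _ (hP.map (toΓ T C)))) h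
  simp only [dval_evalSect, cval_expChar_id] at h1
  rw [specTo_appTop, specTo_appTop] at h1
  rw [Polynomial.eval_map_apply, Polynomial.eval_map_apply] at h1
  have h2 := congrArg (ofΓ T C) h1
  rw [ofΓ_toΓ, ofΓ_toΓ] at h2
  simp only [Polynomial.eval_add, Polynomial.eval_one, Polynomial.eval_mul, Polynomial.eval_C,
    Polynomial.eval_X] at h2
  have h3 := congrArg TrivSqZeroExt.snd h2
  simpa [C, TrivSqZeroExt.algebraMap_eq_inl] using h3

/-- The evaluation map is injective on all objects. -/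
lemma injective_evPt {T : Over S} (s t : T ⟶ Red.Ga S) (h : evPt (K := K) s = evPt t) : s = t := by
  refine Reductive.gaFn_injective (eq_of_affine _ _ fun W k hW => ?_)
  rw [← Reductive.gaFn_comp, ← Reductive.gaFn_comp]
  refine congrArg Red.gaFn (injective_of_isAffine (K := K) _ _ (chr2_ext _ fun {V} g φ => ?_))
  have e := congrArg (fun Ψ => dval Ψ (g ≫ k) φ) h
  simp only [dval_evalSect] at e ⊢
  rw [← Reductive.gaFn_comp, ← Reductive.gaFn_comp, ← Category.assoc, ← Category.assoc,
    Reductive.gaFn_comp, Reductive.gaFn_comp]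
  exact e

omit [(QuotSh.J K S).Subcanonical] in
/-- The sieve of an affine open cover covers in the big fppf site. -/
lemma affineCover_mem {X : Scheme.{u}} (T : Over X) :
    (Sieve.overEquiv T).symm (Sieve.generate (Presieve.ofArrows (fun i => T.left.affineCover.X i)
      T.left.affineCover.f)) ∈ (QuotSh.J Scheme.fppfPrecoverage X) T :=
  GrothendieckTopology.overEquiv_symm_mem_over _ T _ (Precoverage.generate_mem_toGrothendieck
    (Scheme.zariskiPrecoverage_le_fppfPrecoverage _ T.left.affineCover.mem₀))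

lemma exists_factor {X : Scheme.{u}} {T V : Over X} (g : V ⟶ T)
    (hg : (Sieve.overEquiv T).symm (Sieve.generate (Presieve.ofArrows (fun i => T.left.affineCover.X i)
      T.left.affineCover.f)) g) :
    ∃ (W : Over X) (_ : IsAffine W.left) (m : V ⟶ W) (k : W ⟶ T), m ≫ k = g := by
  rw [Sieve.overEquiv_symm_iff] at hg
  obtain ⟨W, l, _, hW, hl⟩ := hg
  cases hW with
  | mk i =>
    exact ⟨Over.mk (T.left.affineCover.f i ≫ T.hom),
      inferInstanceAs (IsAffine (T.left.affineCover.X i)),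
      Over.homMk l (by simp [← Category.assoc, hl]), Over.homMk (T.left.affineCover.f i),
      Over.OverMorphism.ext hl⟩

/-- The evaluation map is the double duality map. -/
lemma toDoubleDual_app {T : Over S} (x : (CGrpSh2.Ga K S).obj.obj (op T)) :
    (CGrpSh2.toDoubleDual K (CGrpSh2.Ga K S)).hom.app (op T) x = evPt (K := K) x.down.toMul :=
  HomSh.bidualMap_app_apply _ _ _ x

/-- The double duality map is injective on sections. -/
lemma injective_app (T : Over S) :
    Function.Injective ((CGrpSh2.toDoubleDual K (CGrpSh2.Ga K S)).hom.app (op T)) := by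
  intro s t hst
  have h : evPt (K := K) s.down.toMul = evPt t.down.toMul :=
    (toDoubleDual_app s).symm.trans (hst.trans (toDoubleDual_app t))
  exact ULift.ext _ _ (congrArg Additive.ofMul (injective_evPt _ _ h))

/-- Pulling back a section in the image. -/
lemma app_map_eq {T W V : Over S} (m : V ⟶ W) (k : W ⟶ T) (Φ : Chr2 K T) (s : W ⟶ Red.Ga S)
    (hs : evPt (K := K) s = (CGrpSh2.dualSh K (CGrpSh2.dualSh K (CGrpSh2.Ga K S))).obj.map k.op Φ) :
    ∃ y, (CGrpSh2.toDoubleDual K (CGrpSh2.Ga K S)).hom.app (op V) y =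
      (CGrpSh2.dualSh K (CGrpSh2.dualSh K (CGrpSh2.Ga K S))).obj.map (m ≫ k).op Φ := by
  refine ⟨(CGrpSh2.Ga K S).obj.map m.op (ULift.up (Additive.ofMul s)), ?_⟩
  have h1 := NatTrans.naturality_apply (CGrpSh2.toDoubleDual K (CGrpSh2.Ga K S)).hom m.op
    (ULift.up (Additive.ofMul s))
  have h2 : (CGrpSh2.toDoubleDual K (CGrpSh2.Ga K S)).hom.app (op W)
      (ULift.up (Additive.ofMul s) : (CGrpSh2.Ga K S).obj.obj (op W)) =
      (CGrpSh2.dualSh K (CGrpSh2.dualSh K (CGrpSh2.Ga K S))).obj.map k.op Φ :=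
    (toDoubleDual_app (K := K) _).trans hs
  refine h1.trans ((congrArg _ h2).trans ?_)
  rw [← ConcreteCategory.comp_apply, ← Functor.map_comp, ← op_comp]

lemma imageSieve_mem {X : Scheme.{u}} {T : Over X}
    (Φ : Chr2 Scheme.fppfPrecoverage T) {V : Over X} (g : V ⟶ T)
    (hg : (Sieve.overEquiv T).symm (Sieve.generate (Presieve.ofArrows (fun i => T.left.affineCover.X i)
      T.left.affineCover.f)) g) :
    ∃ y, (CGrpSh2.toDoubleDual Scheme.fppfPrecoverage (CGrpSh2.Ga Scheme.fppfPrecoverage X)).hom.app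
      (op V) y = (CGrpSh2.dualSh Scheme.fppfPrecoverage (CGrpSh2.dualSh Scheme.fppfPrecoverage
        (CGrpSh2.Ga Scheme.fppfPrecoverage X))).obj.map g.op Φ := by
  obtain ⟨W, hW, m, k, rfl⟩ := exists_factor g hg
  obtain ⟨s, hs⟩ := surjective_of_isAffine
    ((CGrpSh2.dualSh Scheme.fppfPrecoverage (CGrpSh2.dualSh Scheme.fppfPrecoverage
      (CGrpSh2.Ga Scheme.fppfPrecoverage X))).obj.map k.op Φ)
  exact app_map_eq m k Φ s hs

lemma isLocallySurjective (X : Scheme.{u}) : Sheaf.IsLocallySurjective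
    (CGrpSh2.toDoubleDual Scheme.fppfPrecoverage (CGrpSh2.Ga Scheme.fppfPrecoverage X)) :=
  ⟨fun {T} Φ => (QuotSh.J Scheme.fppfPrecoverage X).superset_covering
    (fun _V g hg => imageSieve_mem Φ g hg) (affineCover_mem T)⟩

/-- The double duality map of the additive group is an isomorphism on the big fppf site. -/
theorem isIso_toDoubleDual_Ga (X : Scheme.{u}) :
    IsIso (CGrpSh2.toDoubleDual Scheme.fppfPrecoverage (CGrpSh2.Ga Scheme.fppfPrecoverage X)) := by
  have := isLocallySurjective X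
  have := Groth.AbSchBiext.mono_of_injective_app
    (CGrpSh2.toDoubleDual Scheme.fppfPrecoverage (CGrpSh2.Ga Scheme.fppfPrecoverage X))
    (fun T => injective_app T)
  have : Epi (CGrpSh2.toDoubleDual Scheme.fppfPrecoverage (CGrpSh2.Ga Scheme.fppfPrecoverage X)) :=
    (Sheaf.isLocallySurjective_iff_epi' (A := AddCommGrpCat.{u + 1}) _).1 inferInstance
  exact isIso_of_mono_of_epi _

end Groth.GaDual
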