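import Groth.Agent.GaDual.TorsorLift
import Groth.Agent.GaDual.DoubleDual

/-!
`Ext¹(G_a, G_m) = 0` over a reduced base whose affine line has trivial Picard group.
-/

set_option autoImplicit false
set_option backward.isDefEq.respectTransparency false
set_option linter.style.haveILetI false
set_option linter.unusedSectionVars false
set_option maxHeartbeats 1000000

universe u

open CategoryTheory MonoidalCategory CartesianMonoidalCategory MonObj AlgebraicGeometry Opposite Limits
open Polynomial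

noncomputable section

namespace Groth.GaDual.GaSplit

/-- A unit of a polynomial ring over a reduced ring is constant. -/
lemma eq_C_of_isUnit {B : Type u} [CommRing B] [_root_.IsReduced B] {P : B[X]} (h : IsUnit P) :
    P = Polynomial.C (P.coeff 0) := by
  refine Polynomial.ext fun n => ?_
  rcases Nat.eq_zero_or_pos n with rfl | hn
  · simp
  · rw [Polynomial.coeff_C, if_neg hn.ne']
    exact ((Polynomial.isUnit_iff_coeff_isUnit_isNilpotent.1 h).2 n hn.ne').eq_zero

/-- A unit of a polynomial ring in two variables over a reduced ring is constant. -/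
lemma exists_eq_C_C {B : Type u} [CommRing B] [_root_.IsReduced B] {P : B[X][X]} (h : IsUnit P) :
    ∃ b : B, P = Polynomial.C (Polynomial.C b) := by
  haveI : _root_.IsReduced B[X] := ⟨fun Q hQ => Polynomial.ext fun n => by
    simpa using ((Polynomial.isNilpotent_iff).1 hQ n).eq_zero⟩
  have h0 : IsUnit (P.coeff 0) := (Polynomial.isUnit_iff_coeff_isUnit_isNilpotent.1 h).1
  exact ⟨(P.coeff 0).coeff 0, by rw [← eq_C_of_isUnit h0]; exact eq_C_of_isUnit h⟩

variable {X : Scheme.{u}} [AlgebraicGeometry.IsReduced X]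

/-- Functions on the square of the additive group over a reduced base with values in units are constant. -/
theorem lift_comp_eq (f : Red.Ga X ⊗ Red.Ga X ⟶ Red.Gm X) {T : Over X} (x y : T ⟶ Red.Ga X) :
    lift x y ≫ f = lift 1 1 ≫ f := by
  refine Over.OverMorphism.ext (Scheme.Cover.hom_ext (X.affineCover.pullback₁ T.hom) _ _ fun i => ?_)
  let W : Over X := Over.mk ((X.affineCover.pullback₁ T.hom).f i ≫ T.hom)
  let k : W ⟶ T := Over.homMk ((X.affineCover.pullback₁ T.hom).f i)
  let U : Over X := Over.mk (X.affineCover.f i)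
  haveI : IsAffine U.left := inferInstanceAs (IsAffine (X.affineCover.X i))
  haveI : AlgebraicGeometry.IsReduced U.left := isReduced_of_isOpenImmersion (X.affineCover.f i)
  let g : W ⟶ U := Over.homMk (pullback.snd T.hom (X.affineCover.f i)) pullback.condition.symm
  let C2 := Γ(U.left, ⊤)[X][X]
  let p : specObj U C2 ⟶ Red.Ga X ⊗ Red.Ga X :=
    lift (Reductive.gaMk _ (toΓ U C2 (Polynomial.C Polynomial.X))) (Reductive.gaMk _ (toΓ U C2 Polynomial.X))
  have hu : IsUnit (ofΓ U C2 (Red.gmFn (p ≫ f))) := (Reductive.isUnit_gmFn _).map _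
  obtain ⟨b, hb⟩ := exists_eq_C_C hu
  have key : ∀ a a' : W ⟶ Red.Ga X, Red.gmFn (lift a a' ≫ f) = g.left.appTop b := by
    intro a a'
    obtain ⟨l, hl, hρ⟩ := exists_toSpecObj U C2 g
      (eval₂RingHom (eval₂RingHom g.left.appTop.hom (Red.gaFn a)) (Red.gaFn a')) fun c => by
        show eval₂ _ _ (Polynomial.C (Polynomial.C c)) = _
        rw [eval₂_C, coe_eval₂RingHom, eval₂_C]
    have he : l ≫ p = lift a a' := by
      rw [comp_lift]
      congr 1 <;> refine Reductive.gaFn_injective ?_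
      · rw [Reductive.gaFn_comp, Reductive.gaFn_gaMk, hρ]
        refine (eval₂_C _ _).trans ?_
        exact eval₂_X _ _
      · rw [Reductive.gaFn_comp, Reductive.gaFn_gaMk, hρ]
        exact eval₂_X _ _
    rw [← he, Category.assoc, Reductive.gmFn_comp, ← toΓ_ofΓ U C2 (Red.gmFn (p ≫ f)), hρ, hb]
    refine (eval₂_C _ _).trans ?_
    exact eval₂_C _ _
  have h2 : k ≫ lift x y ≫ f = k ≫ lift 1 1 ≫ f := by
    rw [← Category.assoc, ← Category.assoc, comp_lift, comp_lift]
    exact Reductive.gmFn_injective ((key _ _).trans (key _ _).symm)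
  exact congrArg CommaMorphism.left h2

variable {G' : Over X} (φ : G' ≅ Red.Ga X) (hPic : ∀ L : G'.left.Modules, PicF.IsInvertible L →
      Nonempty (L ≅ Coh.structureModule G'.left))
  {E : BigSite.Ab Scheme.fppfPrecoverage X}
  (ιE : CGrpSh2.Gm Scheme.fppfPrecoverage X ⟶ E) (πE : E ⟶ CGrpSh2.Ga Scheme.fppfPrecoverage X)
  (hι : ∀ T : Over X, Function.Injective (ιE.hom.app (op T)))
  (hπι : ∀ (T : Over X) (h : (CGrpSh2.Gm Scheme.fppfPrecoverage X).obj.obj (op T)),
    πE.hom.app (op T) (ιE.hom.app (op T) h) = 0)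
  (hker : ∀ (T : Over X) (x : E.obj.obj (op T)), πE.hom.app (op T) x = 0 →
    ∃ h, ιE.hom.app (op T) h = x)
  (hepi : Sheaf.IsLocallySurjective πE)

include φ hPic hι hπι hker hepi in
/-- Extensions of `G_a` by `G_m` split. -/
theorem exists_section : ∃ s : CGrpSh2.Ga Scheme.fppfPrecoverage X ⟶ E, s ≫ πE = 𝟙 _ := by
  obtain ⟨e', he'⟩ := exists_lift_of_pic G' ιE πE hι hπι hker hepi hPic
    (ULift.up (Additive.ofMul φ.hom))
  obtain ⟨e, he⟩ : ∃ e, πE.hom.app (op (Red.Ga X)) e = ULift.up (Additive.ofMul (𝟙 (Red.Ga X))) := by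
    refine ⟨E.obj.map φ.inv.op e', (ConcreteCategory.congr_hom (πE.hom.naturality φ.inv.op) e').trans ?_⟩
    refine (congrArg (fun q => (CGrpSh2.Ga Scheme.fppfPrecoverage X).obj.map φ.inv.op q) he').trans ?_
    exact ULift.ext _ _ (congrArg Additive.ofMul φ.inv_hom_id)
  let s₀ : ∀ T : Over X, (T ⟶ Red.Ga X) → E.obj.obj (op T) := fun T x => E.obj.map x.op e
  have hπs : ∀ (T : Over X) (x : T ⟶ Red.Ga X), πE.hom.app (op T) (s₀ T x) = ULift.up (Additive.ofMul x) := by
    intro T x
    refine (ConcreteCategory.congr_hom (πE.hom.naturality x.op) e).trans ?_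
    refine (congrArg (fun q => (CGrpSh2.Ga Scheme.fppfPrecoverage X).obj.map x.op q) he).trans ?_
    exact ULift.ext _ _ (congrArg Additive.ofMul (Category.comp_id x))
  obtain ⟨h₀, hh₀⟩ := hker (Red.Ga X ⊗ Red.Ga X)
    (s₀ _ (fst (Red.Ga X) (Red.Ga X) * snd (Red.Ga X) (Red.Ga X)) -
      (s₀ _ (fst (Red.Ga X) (Red.Ga X)) + s₀ _ (snd (Red.Ga X) (Red.Ga X)))) (by
    rw [map_sub, map_add, hπs, hπs, hπs]
    exact sub_self _)
  let c : ∀ T : Over X, (CGrpSh2.Gm Scheme.fppfPrecoverage X).obj.obj (op T) := fun T =>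
    (CGrpSh2.Gm Scheme.fppfPrecoverage X).obj.map (lift (1 : T ⟶ Red.Ga X) 1).op h₀
  have hc : ∀ (T : Over X) (x y : T ⟶ Red.Ga X),
      s₀ T (x * y) = s₀ T x + s₀ T y + ιE.hom.app (op T) (c T) := by
    intro T x y
    have h1 : (CGrpSh2.Gm Scheme.fppfPrecoverage X).obj.map (lift x y).op h₀ = c T :=
      ULift.ext _ _ (congrArg Additive.ofMul (lift_comp_eq h₀.down.toMul x y))
    have h2 := ConcreteCategory.congr_hom (ιE.hom.naturality (lift x y).op) h₀
    rw [ConcreteCategory.comp_apply, h1] at h2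
    rw [h2]
    show _ = _ + _ + E.obj.map (lift x y).op (ιE.hom.app (op (Red.Ga X ⊗ Red.Ga X)) h₀)
    rw [hh₀, map_sub, map_add]
    simp only [s₀, Groth.AbSchBiext.map_map, MonObj.comp_mul, lift_fst, lift_snd]
    abel
  refine ⟨ObjectProperty.homMk
    { app := fun T => AddCommGrpCat.ofHom (AddMonoidHom.mk'
        (fun z => s₀ (unop T) z.down.toMul + ιE.hom.app T (c (unop T))) fun z z' => ?_)
      naturality := fun T T' m => AddCommGrpCat.ext fun z => ?_ }, ?_⟩
  · show s₀ (unop T) (z.down.toMul * z'.down.toMul) + _ = _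
    rw [hc]
    show _ + ιE.hom.app T (c (unop T)) = _
    abel
  · show E.obj.map (m.unop ≫ z.down.toMul).op e + ιE.hom.app T' (c (unop T')) =
      E.obj.map m (E.obj.map z.down.toMul.op e + ιE.hom.app T (c (unop T)))
    rw [map_add, show E.obj.map m (ιE.hom.app T (c (unop T))) =
      ιE.hom.app T' ((CGrpSh2.Gm Scheme.fppfPrecoverage X).obj.map m (c (unop T))) from
      (ConcreteCategory.congr_hom (ιE.hom.naturality m) _).symm]
    refine congrArg₂ (· + ·) (Groth.AbSchBiext.map_map E.obj z.down.toMul m.unop e).symm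
      (congrArg (fun w => ιE.hom.app T' w) ?_)
    refine Eq.trans ?_ (Groth.AbSchBiext.map_map (CGrpSh2.Gm Scheme.fppfPrecoverage X).obj
      (lift (1 : unop T ⟶ Red.Ga X) 1) m.unop h₀).symm
    refine congrArg (fun w => (CGrpSh2.Gm Scheme.fppfPrecoverage X).obj.map (Quiver.Hom.op w) h₀) ?_
    rw [comp_lift, MonObj.comp_one]
  · refine Sheaf.hom_ext (NatTrans.ext (funext fun T => AddCommGrpCat.ext fun z => ?_))
    show πE.hom.app T (s₀ (unop T) z.down.toMul + ιE.hom.app T (c (unop T))) = z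
    rw [map_add]
    refine (congrArg₂ (· + ·) (hπs (unop T) _) (hπι (unop T) _)).trans ?_
    exact add_zero _

omit [AlgebraicGeometry.IsReduced X] in
/-- `Ext¹` vanishes when every extension splits. -/
theorem subsingleton_ext_one_of_split {F G : BigSite.Ab Scheme.fppfPrecoverage X}
    (hsplit : ∀ (E : BigSite.Ab Scheme.fppfPrecoverage X) (ιE : G ⟶ E) (πE : E ⟶ F),
      (∀ T : Over X, Function.Injective (ιE.hom.app (op T))) →
      (∀ (T : Over X) (h : G.obj.obj (op T)), πE.hom.app (op T) (ιE.hom.app (op T) h) = 0) →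
      (∀ (T : Over X) (x : E.obj.obj (op T)), πE.hom.app (op T) x = 0 → ∃ h, ιE.hom.app (op T) h = x) →
      Sheaf.IsLocallySurjective πE → ∃ s : F ⟶ E, s ≫ πE = 𝟙 _) :
    Subsingleton (Abelian.Ext F G 1) := by
  let i := Injective.ι G
  let T := ShortComplex.mk i (cokernel.π i) (cokernel.condition i)
  have hT : T.ShortExact := { exact := ShortComplex.exact_cokernel _ }
  haveI : Injective T.X₂ := inferInstanceAs (Injective (Injective.under G))
  refine subsingleton_of_forall_eq 0 fun x => ?_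
  obtain ⟨a₀, rfl⟩ := Abelian.Ext.covariant_sequence_exact₁ _ hT x (Abelian.Ext.eq_zero_of_injective _) (zero_add 1)
  obtain ⟨a, rfl⟩ := (Abelian.Ext.mk₀_bijective _ _).2 a₀
  suffices ∃ b, b ≫ cokernel.π i = a by
    obtain ⟨b, rfl⟩ := this
    rw [← Abelian.Ext.mk₀_comp_mk₀, Abelian.Ext.comp_assoc_of_second_deg_zero, hT.comp_extClass,
      Abelian.Ext.comp_zero]
  let π : pullback a (cokernel.π i) ⟶ F := pullback.fst _ _
  let jG : G ⟶ pullback a (cokernel.π i) := pullback.lift 0 i (by rw [Limits.zero_comp, cokernel.condition])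
  have w : jG ≫ π = 0 := pullback.lift_fst _ _ _
  haveI : Mono jG := mono_of_mono_fac (pullback.lift_snd _ _ _ : jG ≫ pullback.snd _ _ = i)
  have hk : IsLimit (KernelFork.ofι jG w) := KernelFork.IsLimit.ofι' jG w fun {Z} k hk => by
    have hk2 : (k ≫ pullback.snd _ _) ≫ cokernel.π i = 0 := by
      rw [Category.assoc, ← pullback.condition, ← Category.assoc]
      simp only [show k ≫ pullback.fst a (cokernel.π i) = 0 from hk, Limits.zero_comp]
    refine ⟨hT.exact.lift _ hk2, ?_⟩
    apply pullback.hom_ext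
    · rw [Category.assoc]
      exact ((congrArg _ w).trans comp_zero).trans hk.symm
    · rw [Category.assoc, pullback.lift_snd]
      exact hT.exact.lift_f _ hk2
  have hι : ∀ U : Over X, Function.Injective (jG.hom.app (op U)) := fun U => by
    haveI : Mono ((sheafToPresheaf (QuotSh.J Scheme.fppfPrecoverage X) AddCommGrpCat.{u + 1} ⋙
      (evaluation (Over X)ᵒᵖ AddCommGrpCat.{u + 1}).obj (op U)).map jG) := inferInstance
    exact (AddCommGrpCat.mono_iff_injective _).1 this
  haveI : Epi π := Abelian.epi_pullback_of_epi_g _ _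
  obtain ⟨s, hs⟩ := hsplit _ jG π hι
    (fun U h => ConcreteCategory.congr_hom (congrArg (fun m : G ⟶ F => m.hom.app (op U)) w) h)
    (fun U x hx => Groth.AbSchBiext.exists_section_of_isKernel w hk U x hx)
    ((Sheaf.isLocallySurjective_iff_epi' (A := AddCommGrpCat.{u + 1}) π).2 inferInstance)
  refine ⟨s ≫ pullback.snd _ _, ?_⟩
  rw [Category.assoc, ← pullback.condition, ← Category.assoc]
  exact (congrArg (· ≫ a) hs).trans (Category.id_comp a)

include φ hPic in
/-- `Ext¹(G_a, G_m) = 0`, given a model of `G_a` with trivial Picard group. -/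
theorem subsingleton_ext_one_Ga_Gm_of_iso :
    Subsingleton (Abelian.Ext (CGrpSh2.Ga Scheme.fppfPrecoverage X) (CGrpSh2.Gm Scheme.fppfPrecoverage X) 1) :=
  subsingleton_ext_one_of_split fun _ ιE πE hι hπι hker hepi => exists_section φ hPic ιE πE hι hπι hker hepi

/-- `Ext¹(G_a, G_m) = 0`. -/
theorem subsingleton_ext_one_Ga_Gm
    (hPic : ∀ L : (Red.Ga X).left.Modules, PicF.IsInvertible L →
      Nonempty (L ≅ Coh.structureModule (Red.Ga X).left)) :
    Subsingleton (Abelian.Ext (CGrpSh2.Ga Scheme.fppfPrecoverage X) (CGrpSh2.Gm Scheme.fppfPrecoverage X) 1) :=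
  subsingleton_ext_one_Ga_Gm_of_iso (Iso.refl _) hPic

end Groth.GaDual.GaSplit
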