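import Groth.Agent.GaDual.TorsorUnits
import Groth.Agent.PicAux.Cocycle
import Groth.Agent.AbSchBiext.Basic

/-!
Extensions by `G_m` lift sections over objects on which the relevant unit cocycles split.
-/

set_option autoImplicit false
set_option backward.isDefEq.respectTransparency false
set_option linter.style.haveILetI false
set_option linter.unusedVariables false

universe u

open CategoryTheory AlgebraicGeometry Opposite
open MonoidalCategory CartesianMonoidalCategory MonObj
open Adeq Groth.MiscGeom.Adq Groth.MiscGeom.Adq.Cech Groth.PicAux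

noncomputable section

namespace Groth.GaDual

variable {S : Scheme.{u}} (L : Over S)

/-- An open of an object over `S`. -/
abbrev objW (W : L.left.Opens) : Over S := Over.mk (W.ι ≫ L.hom)

/-- Its inclusion. -/
abbrev inclW (W : L.left.Opens) : objW L W ⟶ L := Over.homMk W.ι rfl

/-- Inclusion of a smaller open. -/
abbrev resW {V W : L.left.Opens} (h : V ≤ W) : objW L V ⟶ objW L W :=
  Over.homMk (L.left.homOfLE h) (by
    show L.left.homOfLE h ≫ W.ι ≫ L.hom = V.ι ≫ L.hom
    rw [← Category.assoc, Scheme.homOfLE_ι])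

lemma resW_inclW {V W : L.left.Opens} (h : V ≤ W) : resW L h ≫ inclW L W = inclW L V :=
  Over.OverMorphism.ext (Scheme.homOfLE_ι _ h)

lemma resW_resW {U V W : L.left.Opens} (h : U ≤ V) (h' : V ≤ W) :
    resW L h ≫ resW L h' = resW L (h.trans h') :=
  Over.OverMorphism.ext (Scheme.homOfLE_homOfLE _ h h')

lemma topIso_res {V W : L.left.Opens} (h : V ≤ W) (z : Γ((objW L W).left, ⊤)) :
    V.topIso.hom ((resW L h).left.appTop z) = resX L.left h (W.topIso.hom z) := by
  show ((L.left.homOfLE h).appTop ≫ V.topIso.hom) z = (W.topIso.hom ≫ L.left.presheaf.map (homOfLE h).op) z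
  refine ConcreteCategory.congr_hom ?_ z
  rw [Scheme.Opens.topIso_hom, Scheme.Opens.topIso_hom, Scheme.homOfLE_appTop]
  refine ((Functor.map_comp _ _ _).symm.trans (congrArg L.left.presheaf.map (Subsingleton.elim _ _))).trans
    (Functor.map_comp _ _ _)

variable {E Q : BigSite.Ab Scheme.fppfPrecoverage S}
  (ιE : CGrpSh2.Gm Scheme.fppfPrecoverage S ⟶ E) (πE : E ⟶ Q)

/-- The unit on an open attached to a section of `G_m`. -/
def unitW (W : L.left.Opens) (x : (CGrpSh2.Gm Scheme.fppfPrecoverage S).obj.obj (op (objW L W))) :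
    Γ(L.left, W) :=
  W.topIso.hom (Red.gmFn x.down.toMul)

lemma isUnit_unitW (W : L.left.Opens)
    (x : (CGrpSh2.Gm Scheme.fppfPrecoverage S).obj.obj (op (objW L W))) : IsUnit (unitW L W x) :=
  (Reductive.isUnit_gmFn x.down.toMul).map W.topIso.hom.hom

lemma unitW_add (W : L.left.Opens)
    (x y : (CGrpSh2.Gm Scheme.fppfPrecoverage S).obj.obj (op (objW L W))) :
    unitW L W (x + y) = unitW L W x * unitW L W y := by
  show W.topIso.hom (Red.gmFn (x.down.toMul * y.down.toMul)) = _
  rw [Reductive.gmFn_mul]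
  exact map_mul W.topIso.hom.hom _ _

lemma unitW_nsmul (W : L.left.Opens) (n : ℕ)
    (x : (CGrpSh2.Gm Scheme.fppfPrecoverage S).obj.obj (op (objW L W))) :
    unitW L W (n • x) = unitW L W x ^ n := by
  induction n with
  | zero =>
    rw [zero_nsmul, pow_zero]
    show W.topIso.hom (Red.gmFn (1 : objW L W ⟶ Red.Gm S)) = 1
    rw [Reductive.gmFn_one]
    exact map_one W.topIso.hom.hom
  | succ n ih => rw [succ_nsmul, unitW_add, ih, pow_succ]

lemma unitW_res {V W : L.left.Opens} (h : V ≤ W)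
    (x : (CGrpSh2.Gm Scheme.fppfPrecoverage S).obj.obj (op (objW L W))) :
    unitW L V ((CGrpSh2.Gm Scheme.fppfPrecoverage S).obj.map (resW L h).op x) =
      resX L.left h (unitW L W x) := by
  refine Eq.trans ?_ (topIso_res L h _)
  exact congrArg (fun z => V.topIso.hom z) (Reductive.gmFn_comp (resW L h) x.down.toMul)

lemma unitW_injective (W : L.left.Opens) : Function.Injective (unitW L W) := fun x y h =>
  ULift.ext _ _ (congrArg Additive.ofMul (Reductive.gmFn_injective
    (W.topIso.commRingCatIsoToRingEquiv.injective h)))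

lemma exists_unitW (W : L.left.Opens) (b : Γ(L.left, W)ˣ) :
    ∃ x, unitW L W x = b := by
  refine ⟨ULift.up (Additive.ofMul (Reductive.gmMk (objW L W)
    (Units.map W.topIso.inv.hom.toMonoidHom b))), ?_⟩
  show W.topIso.hom (Red.gmFn (Reductive.gmMk (objW L W) _) : Γ((objW L W).left, ⊤)) = _
  rw [Reductive.gmFn_gmMk]
  exact congr($(W.topIso.inv_hom_id) (b : Γ(L.left, W)))

variable (hι : ∀ T : Over S, Function.Injective (ιE.hom.app (op T)))
  (hπι : ∀ (T : Over S) (h : (CGrpSh2.Gm Scheme.fppfPrecoverage S).obj.obj (op T)),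
    πE.hom.app (op T) (ιE.hom.app (op T) h) = 0)
  (hker : ∀ (T : Over S) (x : E.obj.obj (op T)), πE.hom.app (op T) x = 0 →
    ∃ h, ιE.hom.app (op T) h = x)
  (hepi : Sheaf.IsLocallySurjective πE)

include hι hπι hker hepi in
/-- Lifts exist Zariski locally. -/
theorem exists_local_lift (q : Q.obj.obj (op L)) (y : L.left) :
    ∃ (W : L.left.Opens) (_ : y ∈ W) (e : E.obj.obj (op (objW L W))),
      πE.hom.app (op (objW L W)) e = Q.obj.map (inclW L W).op q := by
  obtain ⟨U, hU, hyU, -⟩ := exists_isAffineOpen_mem_and_subset (X := L.left) (x := y) (U := ⊤) trivial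
  let R : CommRingCat.{u} := Γ(L.left, U)
  let a : Spec R ⟶ S := hU.fromSpec ≫ L.hom
  let k : ∀ B : Alg R, (specOver a).obj (op B) ⟶ L := fun B =>
    Over.homMk (Spec.map (CommRingCat.ofHom (algebraMap R B)) ≫ hU.fromSpec) (Category.assoc _ _ _)
  obtain ⟨y', hy'⟩ : y ∈ Set.range hU.fromSpec := by rw [hU.range_fromSpec]; exact hyU
  obtain ⟨f, hf, e, he⟩ := exists_zariski_lift a ιE πE hι hπι hker hepi
    (Q.obj.map (k (base (R : Type u))).op q) y'
  let Rf : Alg R := algOf R (Localization.Away f)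
  haveI : IsOpenImmersion (Spec.map (CommRingCat.ofHom (algebraMap R (Localization.Away f)))) :=
    AlgebraicGeometry.IsOpenImmersion.of_isLocalization f
  let φ : Spec (CommRingCat.of (Localization.Away f)) ⟶ L.left :=
    Spec.map (CommRingCat.ofHom (algebraMap R (Localization.Away f))) ≫ hU.fromSpec
  let W : L.left.Opens := φ.opensRange
  let l : objW L W ⟶ (specOver a).obj (op Rf) := Over.homMk (IsOpenImmersion.lift φ W.ι (by
      erw [Scheme.Opens.range_ι]; exact le_rfl)) (by
    show IsOpenImmersion.lift φ W.ι _ ≫ Spec.map _ ≫ hU.fromSpec ≫ L.hom = W.ι ≫ L.hom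
    rw [← Category.assoc (Spec.map _), ← Category.assoc (IsOpenImmersion.lift φ W.ι _),
      IsOpenImmersion.lift_fac])
  have hl : l ≫ k Rf = inclW L W := Over.OverMorphism.ext (IsOpenImmersion.lift_fac _ _ _)
  refine ⟨W, ?_, E.obj.map l.op e, ?_⟩
  · have hy'' : y' ∈ PrimeSpectrum.basicOpen f := hf
    rw [← SetLike.mem_coe, ← PrimeSpectrum.localization_away_comap_range (Localization.Away f) f] at hy''
    obtain ⟨z, hz⟩ := hy''
    exact ⟨z, (congrArg hU.fromSpec hz).trans hy'⟩
  refine (ConcreteCategory.congr_hom (πE.hom.naturality l.op) e).trans ?_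
  show Q.obj.map l.op (πE.hom.app (op ((specOver a).obj (op Rf))) e) = _
  rw [show πE.hom.app (op ((specOver a).obj (op Rf))) e =
      Q.obj.map ((specOver a).map (baseHom Rf).op).op (Q.obj.map (k (base (R : Type u))).op q) from he,
    ← ConcreteCategory.comp_apply, ← Functor.map_comp, ← ConcreteCategory.comp_apply, ← Functor.map_comp,
    ← op_comp, ← op_comp, ← hl]
  refine congrArg (fun m => Q.obj.map (Quiver.Hom.op m) q) ?_
  rw [Category.assoc]
  refine congrArg (l ≫ ·) (Over.OverMorphism.ext ?_)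
  show Spec.map (CommRingCat.ofHom (baseHom Rf).hom.toRingHom) ≫
      Spec.map (CommRingCat.ofHom (algebraMap R R)) ≫ hU.fromSpec =
    Spec.map (CommRingCat.ofHom (algebraMap R Rf)) ≫ hU.fromSpec
  rw [← Category.assoc, ← Spec.map_comp, ← CommRingCat.ofHom_comp]
  exact congrArg (fun g => Spec.map (CommRingCat.ofHom g) ≫ hU.fromSpec)
    (RingHom.ext fun r => (baseHom Rf).hom.commutes r)

/-- Unit cocycles on `L` whose `n`th powers are coboundaries are themselves coboundaries. -/
def UnitSplit (n : ℕ) (L : Over S) : Prop :=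
  ∀ (W : L.left → L.left.Opens), iSup W = ⊤ → ∀ (ζ : ∀ i j, Γ(L.left, W i ⊓ W j)) (t : ∀ i, Γ(L.left, W i)),
    (∀ i j, IsUnit (ζ i j)) →
    (∀ i j k, resX L.left (inf_le_inf_right (W k) inf_le_left : W i ⊓ W j ⊓ W k ≤ W i ⊓ W k) (ζ i k) =
      resX L.left (inf_le_left : W i ⊓ W j ⊓ W k ≤ W i ⊓ W j) (ζ i j) *
        resX L.left (inf_le_inf_right (W k) inf_le_right : W i ⊓ W j ⊓ W k ≤ W j ⊓ W k) (ζ j k)) →
    (∀ i, IsUnit (t i)) →
    (∀ i j, resX L.left (inf_le_left : W i ⊓ W j ≤ W i) (t i) =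
      ζ i j ^ n * resX L.left (inf_le_right : W i ⊓ W j ≤ W j) (t j)) →
    ∃ b : ∀ i, (Γ(L.left, W i))ˣ, ∀ i j,
      resX L.left (inf_le_left : W i ⊓ W j ≤ W i) (b i : Γ(L.left, W i)) =
        ζ i j * resX L.left (inf_le_right : W i ⊓ W j ≤ W j) (b j : Γ(L.left, W j))

/-- Trivial Picard group splits all unit cocycles. -/
theorem unitSplit_of_pic (L : Over S)
    (hPic : ∀ M : L.left.Modules, PicF.IsInvertible M → Nonempty (M ≅ Coh.structureModule L.left))
    (n : ℕ) : UnitSplit n L := by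
  intro W htop ζ t hζ hcoc ht hrel
  obtain ⟨M, s, hgen, hM, hs⟩ := exists_module_of_cocycle W ζ htop hζ hcoc
  obtain ⟨s₀, hs₀⟩ := nonempty_iso_structure_iff.1 (hPic M hM)
  choose b hb using fun i => (hs₀.res (le_top : W i ≤ ⊤)).exists_unit (hgen i)
  refine ⟨b, fun i j => hs₀.smul_inj (le_top : W i ⊓ W j ≤ ⊤) ?_⟩
  have h := hs i j
  rw [hb i, hb j, res_smul, res_smul, res_res, res_res, smul_smul] at h
  exact h

include hι hπι hker hepi in
/-- Sections of an `n`-torsion quotient lift over objects where such cocycles split. -/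
theorem exists_lift_of_split (n : ℕ) (hn : ∀ (T : Over S) (y : Q.obj.obj (op T)), n • y = 0)
    (hsplit : UnitSplit n L) (q : Q.obj.obj (op L)) : ∃ e, πE.hom.app (op L) e = q := by
  choose W hyW e he using exists_local_lift L ιE πE hι hπι hker hepi q
  have htop : iSup W = ⊤ := top_le_iff.1 fun y _ =>
    TopologicalSpace.Opens.mem_iSup.2 ⟨y, hyW y⟩
  have hπres : ∀ {V : L.left.Opens} (i : L.left) (h : V ≤ W i),
      πE.hom.app (op (objW L V)) (E.obj.map (resW L h).op (e i)) = Q.obj.map (inclW L V).op q := by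
    intro V i h
    refine (ConcreteCategory.congr_hom (πE.hom.naturality (resW L h).op) (e i)).trans ?_
    show Q.obj.map (resW L h).op (πE.hom.app (op (objW L (W i))) (e i)) = _
    rw [he, Groth.AbSchBiext.map_map, resW_inclW]
  have hdiff : ∀ i j : L.left, ∃ g, ιE.hom.app (op (objW L (W i ⊓ W j))) g =
      E.obj.map (resW L (inf_le_left : W i ⊓ W j ≤ W i)).op (e i) -
        E.obj.map (resW L (inf_le_right : W i ⊓ W j ≤ W j)).op (e j) := fun i j =>
    hker _ _ (by rw [map_sub, hπres, hπres, sub_self])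
  choose g hg using hdiff
  let ζ : ∀ i j : L.left, Γ(L.left, W i ⊓ W j) := fun i j => unitW L _ (g i j)
  have hιres : ∀ {V V' : L.left.Opens} (h : V ≤ V') x,
      ιE.hom.app (op (objW L V)) ((CGrpSh2.Gm Scheme.fppfPrecoverage S).obj.map (resW L h).op x) =
        E.obj.map (resW L h).op (ιE.hom.app (op (objW L V')) x) := fun h x =>
    ConcreteCategory.congr_hom (ιE.hom.naturality (resW L h).op) x
  have hpn : ∀ i, ∃ u, ιE.hom.app (op (objW L (W i))) u = n • e i := fun i =>
    hker _ _ (by rw [map_nsmul]; exact hn _ _)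
  choose u hu using hpn
  have hrel : ∀ i j, resX L.left (inf_le_left : W i ⊓ W j ≤ W i) (unitW L (W i) (u i)) =
      ζ i j ^ n * resX L.left (inf_le_right : W i ⊓ W j ≤ W j) (unitW L (W j) (u j)) := by
    intro i j
    rw [← unitW_res, ← unitW_res, ← unitW_nsmul, ← unitW_add]
    refine congrArg (unitW L _) (hι _ ?_)
    rw [map_add, map_nsmul, hg, hιres, hιres, hu, hu, map_nsmul, map_nsmul, nsmul_sub, sub_add_cancel]
  obtain ⟨b, hb⟩ := hsplit W htop ζ (fun i => unitW L (W i) (u i)) (fun i j => isUnit_unitW L _ _) (by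
    intro i j k
    rw [← unitW_res, ← unitW_res, ← unitW_res, ← unitW_add]
    refine congrArg (unitW L _) (hι _ ?_)
    rw [map_add, hιres, hιres, hιres, hg, hg, hg, map_sub, map_sub, map_sub]
    simp only [Groth.AbSchBiext.map_map, resW_resW]
    abel) (fun i => isUnit_unitW L _ _) hrel
  choose c hc using fun i => exists_unitW L (W i) (b i)
  let e' : ∀ i : L.left, E.obj.obj (op (objW L (W i))) := fun i =>
    e i - ιE.hom.app (op (objW L (W i))) (c i)
  have hcompat : ∀ i j, E.obj.map (resW L (inf_le_left : W i ⊓ W j ≤ W i)).op (e' i) =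
      E.obj.map (resW L (inf_le_right : W i ⊓ W j ≤ W j)).op (e' j) := by
    intro i j
    have h2 : (CGrpSh2.Gm Scheme.fppfPrecoverage S).obj.map
        (resW L (inf_le_left : W i ⊓ W j ≤ W i)).op (c i) = g i j +
          (CGrpSh2.Gm Scheme.fppfPrecoverage S).obj.map (resW L (inf_le_right : W i ⊓ W j ≤ W j)).op (c j) := by
      refine unitW_injective L _ ?_
      rw [unitW_add, unitW_res, unitW_res, hc, hc]
      exact hb i j
    have h3 := congrArg (ιE.hom.app (op (objW L (W i ⊓ W j)))) h2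
    rw [map_add, hιres, hιres, hg] at h3
    show E.obj.map _ (e i - _) = E.obj.map _ (e j - _)
    rw [map_sub, map_sub, h3]
    abel
  have hπe' : ∀ i, πE.hom.app (op (objW L (W i))) (e' i) = Q.obj.map (inclW L (W i)).op q := fun i => by
    rw [map_sub, he, hπι, sub_zero]
  let hcov : Sieve.generate (Presieve.ofArrows (fun i => (W i : Scheme.{u})) fun i => (W i).ι) ∈
      Scheme.fppfPrecoverage.toGrothendieck L.left :=
    Precoverage.generate_mem_toGrothendieck (Scheme.zariskiPrecoverage_le_fppfPrecoverage _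
      (L.left.openCoverOfIsOpenCover W (.mk htop)).mem₀)
  let R := (Sieve.overEquiv L).symm
    (Sieve.generate (Presieve.ofArrows (fun i => (W i : Scheme.{u})) fun i => (W i).ι))
  have hR : R ∈ (QuotSh.J Scheme.fppfPrecoverage S) L :=
    GrothendieckTopology.overEquiv_symm_mem_over _ L _ hcov
  have hfac : ∀ ⦃V : Over S⦄ (f : V ⟶ L), R f → ∃ (i : L.left) (m : V ⟶ objW L (W i)), m ≫ inclW L (W i) = f := by
    intro V f hf
    obtain ⟨Z, l, _, hZ, hl⟩ := (Sieve.overEquiv_symm_iff _ f).1 hf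
    cases hZ with
    | mk i =>
      exact ⟨i, Over.homMk l (by rw [← Over.w f, ← hl]; exact (Category.assoc _ _ _).symm),
        Over.OverMorphism.ext hl⟩
  have huniq : ∀ ⦃V : Over S⦄ (i j : L.left) (m : V ⟶ objW L (W i)) (m' : V ⟶ objW L (W j)),
      m ≫ inclW L (W i) = m' ≫ inclW L (W j) → E.obj.map m.op (e' i) = E.obj.map m'.op (e' j) := by
    intro V i j m m' h
    have h0 : m.left ≫ (W i).ι = m'.left ≫ (W j).ι := congrArg CommaMorphism.left h
    let n : V.left ⟶ (W i ⊓ W j : L.left.Opens) := IsOpenImmersion.lift (W i ⊓ W j).ι (m.left ≫ (W i).ι) (by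
      rw [Scheme.Opens.range_ι]
      rintro _ ⟨z, rfl⟩
      refine ⟨(m.left z).2, ?_⟩
      rw [h0]
      exact (m'.left z).2)
    have hn : n ≫ (W i ⊓ W j).ι = m.left ≫ (W i).ι := IsOpenImmersion.lift_fac _ _ _
    let n' : V ⟶ objW L (W i ⊓ W j) := Over.homMk n (by
      show n ≫ (W i ⊓ W j).ι ≫ L.hom = V.hom
      rw [← Category.assoc, hn, Category.assoc]
      exact Over.w m)
    have e1 : n' ≫ resW L (inf_le_left : W i ⊓ W j ≤ W i) = m := Over.OverMorphism.ext (by
      rw [← cancel_mono (W i).ι, Over.comp_left, Category.assoc]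
      exact (congrArg (n ≫ ·) (Scheme.homOfLE_ι _ (inf_le_left : W i ⊓ W j ≤ W i))).trans hn)
    have e2 : n' ≫ resW L (inf_le_right : W i ⊓ W j ≤ W j) = m' := Over.OverMorphism.ext (by
      rw [← cancel_mono (W j).ι, Over.comp_left, Category.assoc]
      exact (congrArg (n ≫ ·) (Scheme.homOfLE_ι _ (inf_le_right : W i ⊓ W j ≤ W j))).trans (hn.trans h0))
    rw [← e1, ← e2, op_comp, op_comp, Functor.map_comp, Functor.map_comp, ConcreteCategory.comp_apply,
      ConcreteCategory.comp_apply, hcompat i j]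
  obtain ⟨x, hx⟩ := Groth.AbSchBiext.exists_glue_unique (Biext.uSh _ E) (T := L)
    (fun V f z => R f ∧ ∀ (i : L.left) (m : V ⟶ objW L (W i)), m ≫ inclW L (W i) = f → z = E.obj.map m.op (e' i))
    (fun V V' k f z hz => ⟨R.downward_closed hz.1 k, fun i m hm => by
      obtain ⟨i₀, m₀, hm₀⟩ := hfac f hz.1
      show E.obj.map k.op z = _
      rw [hz.2 i₀ m₀ hm₀, ← ConcreteCategory.comp_apply, ← Functor.map_comp, ← op_comp]
      exact huniq i₀ i (k ≫ m₀) m (by rw [Category.assoc, hm₀, hm])⟩)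
    (fun V f z z' hz hz' => by
      obtain ⟨i₀, m₀, hm₀⟩ := hfac f hz.1
      rw [hz.2 i₀ m₀ hm₀, hz'.2 i₀ m₀ hm₀])
    R hR (fun V f hf => by
      obtain ⟨i₀, m₀, hm₀⟩ := hfac f hf
      exact ⟨E.obj.map m₀.op (e' i₀), hf, fun i m hm => huniq i₀ i m₀ m (hm₀.trans hm.symm)⟩)
  refine ⟨x, Groth.AbSchBiext.ab_ext_of_cover Q hR fun V f hf => ?_⟩
  obtain ⟨i₀, m₀, hm₀⟩ := hfac f hf
  refine ((ConcreteCategory.congr_hom (πE.hom.naturality f.op) x).symm).trans ?_
  show πE.hom.app (op V) (E.obj.map f.op x) = _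
  rw [show E.obj.map f.op x = E.obj.map m₀.op (e' i₀) from (hx f hf).2 i₀ m₀ hm₀]
  refine (ConcreteCategory.congr_hom (πE.hom.naturality m₀.op) (e' i₀)).trans ?_
  show Q.obj.map m₀.op (πE.hom.app (op (objW L (W i₀))) (e' i₀)) = _
  rw [hπe', Groth.AbSchBiext.map_map, hm₀]

include hι hπι hker hepi in
/-- Over an object with trivial Picard group every section lifts. -/
theorem exists_lift_of_pic
    (hPic : ∀ M : L.left.Modules, PicF.IsInvertible M → Nonempty (M ≅ Coh.structureModule L.left))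
    (q : Q.obj.obj (op L)) : ∃ e, πE.hom.app (op L) e = q := by
  exact exists_lift_of_split L ιE πE hι hπι hker hepi 0 (fun _ _ => zero_nsmul _) (unitSplit_of_pic L hPic 0) q

end Groth.GaDual
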