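import Groth.Agent.GaDual.LineRoots
import Groth.Agent.GaDual.TorsorLift
import Groth.Agent.PicAux.QCoh
import Groth.Agent.PicAux.GenLocal
import Groth.Agent.QCohMod.Sections

/-!
Unit cocycles with `p`th power a coboundary split on the affine line over a semiperfect ring.
-/

set_option autoImplicit false
set_option backward.isDefEq.respectTransparency false
set_option linter.style.haveILetI false
set_option linter.unusedSectionVars false
set_option maxHeartbeats 1000000

universe u

open CategoryTheory AlgebraicGeometry Opposite Groth.PicAux Polynomial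

noncomputable section

namespace Groth.GaDual.LineSplit

lemma sub_pow_prime {A : Type u} [CommRing A] (p : ℕ) [hp : Fact p.Prime] (h : (p : A) = 0) (N : ℕ) (x y : A) :
    (x - y) ^ p ^ N = x ^ p ^ N - y ^ p ^ N := by
  obtain ⟨r, hr⟩ := (Commute.all (x - y) y).exists_add_pow_prime_pow_eq hp.out N
  rw [sub_add_cancel, h, zero_mul, zero_mul, zero_mul, add_zero] at hr
  rw [hr, add_sub_cancel_right]

variable {X : Scheme.{u}} [IsAffine X]

/-- A function nilpotent on a smaller basic open becomes nilpotent after multiplying by the equation. -/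
lemma isNilpotent_mul {U : X.Opens} (hU : IsAffineOpen U) (g x : Γ(X, U)) {V : X.Opens}
    (hV : V = X.basicOpen g) (hVU : V ≤ U) (h : IsNilpotent (resX X hVU x)) : IsNilpotent (g * x) := by
  subst hV
  obtain ⟨N, hN⟩ := h
  obtain ⟨M, hM⟩ := exists_pow_mul_eq_zero_of_res_basicOpen_eq_zero_of_isAffineOpen X hU (x ^ N) g (by
    rw [← map_pow] at hN
    exact hN)
  exact ⟨M + N, by
    rw [mul_pow, pow_add, pow_add, show g ^ M * g ^ N * (x ^ M * x ^ N) = g ^ N * x ^ M * (g ^ M * x ^ N) by ring,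
      hM, mul_zero]⟩

lemma alg_eq_resX (f : Γ(X, ⊤)) (b : Γ(X, ⊤)) :
    letI := X.algebra_section_section_basicOpen f
    algebraMap Γ(X, ⊤) Γ(X, X.basicOpen f) b = resX X (X.basicOpen_le f) b := rfl

lemma exists_num (f : Γ(X, ⊤)) (T : Γ(X, X.basicOpen f)) :
    ∃ (n : ℕ) (a : Γ(X, ⊤)), resX X (X.basicOpen_le f) a = T * resX X (X.basicOpen_le f) f ^ n := by
  have := (isAffineOpen_top X).isLocalization_basicOpen f
  obtain ⟨n, a, ha⟩ := IsLocalization.Away.surj f T
  exact ⟨n, a, by rw [alg_eq_resX, alg_eq_resX] at ha; exact ha.symm⟩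

lemma exists_pow_mul_eq (f a b : Γ(X, ⊤))
    (h : resX X (X.basicOpen_le f) a = resX X (X.basicOpen_le f) b) : ∃ M, f ^ M * a = f ^ M * b := by
  have := (isAffineOpen_top X).isLocalization_basicOpen f
  obtain ⟨⟨_, M, rfl⟩, hM⟩ := (IsLocalization.eq_iff_exists (Submonoid.powers f) Γ(X, X.basicOpen f)).1
    (show algebraMap Γ(X, ⊤) Γ(X, X.basicOpen f) a = algebraMap Γ(X, ⊤) Γ(X, X.basicOpen f) b from h)
  exact ⟨M, hM⟩

variable (p : ℕ) [hp : Fact p.Prime] {R : Type u} [CommRing R] [CharP R p]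
  (hF : Function.Surjective (frobenius R p)) (e : R[X] ≃+* Γ(X, ⊤))

include hF e in
/-- Approximate `p`th roots of units on basic opens. -/
theorem exists_roots {κ : Type u} (f : κ → Γ(X, ⊤)) (hspan : Ideal.span (Set.range f) = ⊤)
    (T : ∀ k, Γ(X, X.basicOpen (f k))) (hT : ∀ k, IsUnit (T k))
    (hrel : ∀ k l, ∃ z : Γ(X, X.basicOpen (f k * f l)), ∀ (hk : X.basicOpen (f k * f l) ≤ X.basicOpen (f k))
      (hl : X.basicOpen (f k * f l) ≤ X.basicOpen (f l)), resX X hk (T k) = z ^ p * resX X hl (T l)) :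
    ∀ k, ∃ u : (Γ(X, X.basicOpen (f k)))ˣ, IsNilpotent ((u : Γ(X, X.basicOpen (f k))) ^ p - T k) := by
  have hchar : (p : R[X]) = 0 := CharP.cast_eq_zero R[X] p
  choose n a ha using fun k => exists_num (f k) (T k)
  choose n' b hb using fun k => exists_num (f k) ((hT k).unit⁻¹ : (Γ(X, X.basicOpen (f k)))ˣ).val
  let A : κ → Γ(X, ⊤) := fun k => a k * f k ^ (n k * (p - 1))
  have hA : ∀ k, resX X (X.basicOpen_le (f k)) (A k) = T k * resX X (X.basicOpen_le (f k)) (f k) ^ (p * n k) := by
    intro k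
    rw [map_mul, map_pow, ha, mul_assoc, ← pow_add]
    congr 2
    have := hp.out.pos
    obtain ⟨q, hq⟩ : ∃ q, p = q + 1 := ⟨p - 1, by omega⟩
    rw [hq, Nat.add_sub_cancel]; ring
  have hAb : ∀ k, ∃ M, f k ^ M * (A k * b k) = f k ^ M * f k ^ (p * n k + n' k) := fun k =>
    exists_pow_mul_eq (f k) _ _ (by
      rw [map_mul, hA, hb, map_pow, pow_add]
      have h1 : T k * ((hT k).unit⁻¹ : (Γ(X, X.basicOpen (f k)))ˣ).val = 1 := (hT k).mul_val_inv
      linear_combination (resX X (X.basicOpen_le (f k)) (f k) ^ (p * n k) *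
        resX X (X.basicOpen_le (f k)) (f k) ^ (n' k)) * h1)
  choose M hM using hAb
  have hrel' : ∀ k l, ∃ (h : R[X]) (M l' : ℕ),
      (e.symm (f k) * e.symm (f l)) ^ M *
          (e.symm (A k) * e.symm (f l) ^ (p * n l) * (e.symm (f k) * e.symm (f l)) ^ (p * l')) =
        (e.symm (f k) * e.symm (f l)) ^ M * (e.symm (A l) * e.symm (f k) ^ (p * n k) * h ^ p) := by
    intro k l
    obtain ⟨z, hz⟩ := hrel k l
    have hk : X.basicOpen (f k * f l) ≤ X.basicOpen (f k) := (X.basicOpen_mul _ _).trans_le inf_le_left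
    have hl : X.basicOpen (f k * f l) ≤ X.basicOpen (f l) := (X.basicOpen_mul _ _).trans_le inf_le_right
    have hzT := hz hk hl
    obtain ⟨l', c, hc⟩ := exists_num (f k * f l) z
    obtain ⟨N, hN⟩ := exists_pow_mul_eq (f k * f l) (A k * f l ^ (p * n l) * (f k * f l) ^ (p * l'))
      (A l * f k ^ (p * n k) * c ^ p) (by
      have hAk := congrArg (resX X hk) (hA k)
      have hAl := congrArg (resX X hl) (hA l)
      simp only [map_mul, map_pow, resX_resX] at hAk hAl hc
      simp only [map_mul, map_pow, hAk, hAl, hc, hzT]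
      ring)
    refine ⟨e.symm c, N, l', ?_⟩
    simpa only [map_mul, map_pow] using congrArg e.symm hN
  have hab : ∀ k, e.symm (A k) * (e.symm (f k) ^ M k * e.symm (b k)) = e.symm (f k) ^ (M k + (p * n k + n' k)) := by
    intro k
    have := congrArg e.symm (hM k)
    simp only [map_mul, map_pow] at this
    rw [pow_add]
    linear_combination this
  have hspan' : Ideal.span (Set.range fun k => e.symm (f k)) = ⊤ := by
    have := congrArg (Ideal.map (e.symm : Γ(X, ⊤) →+* R[X])) hspan
    rw [Ideal.map_span, ← Set.range_comp, Ideal.map_top] at this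
    exact this
  intro k
  have hd := LineRoots.isNilpotent_derivative_mul p (fun k => e.symm (A k))
    (fun k => e.symm (f k) ^ M k * e.symm (b k)) (fun k => e.symm (f k)) n _ hab hspan' hrel' k
  have hd' : IsNilpotent (derivative (e.symm (A k) * e.symm (f k) ^ p)) := by
    rw [derivative_mul, derivative_pow, CharP.cast_eq_zero, map_zero, zero_mul, zero_mul, mul_zero, add_zero,
      ← Nat.succ_pred_eq_of_pos hp.out.pos, pow_succ', ← mul_assoc]
    exact (Commute.all _ _).isNilpotent_mul_right hd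
  obtain ⟨v, hv⟩ := LineRoots.exists_pth_mod_nilpotent p hF hd'
  obtain ⟨w, hw⟩ : IsUnit (resX X (X.basicOpen_le (f k)) (f k)) := RingedSpace.isUnit_res_basicOpen _ (f k)
  let u₀ : Γ(X, X.basicOpen (f k)) := resX X (X.basicOpen_le (f k)) (e v) * ((w⁻¹) ^ (n k + 1) : (Γ(X, X.basicOpen (f k)))ˣ).val
  have h2 : IsNilpotent (u₀ ^ p - T k) := by
    have h3 : IsNilpotent (resX X (X.basicOpen_le (f k)) (e (e.symm (A k) * e.symm (f k) ^ p - v ^ p))) :=
      (hv.map e.toRingHom).map (resX X (X.basicOpen_le (f k)))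
    rw [map_sub e, map_mul e, map_pow e, map_pow e, e.apply_symm_apply, e.apply_symm_apply, map_sub, map_mul, map_pow,
      map_pow, hA] at h3
    have h4 : u₀ ^ p - T k = -(((w⁻¹) ^ ((n k + 1) * p) : (Γ(X, X.basicOpen (f k)))ˣ).val) *
        (T k * resX X (X.basicOpen_le (f k)) (f k) ^ (p * n k) * resX X (X.basicOpen_le (f k)) (f k) ^ p -
          resX X (X.basicOpen_le (f k)) (e v) ^ p) := by
      have h5 : ((w⁻¹) ^ ((n k + 1) * p) : (Γ(X, X.basicOpen (f k)))ˣ).val * w.val ^ ((n k + 1) * p) = 1 := by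
        rw [Units.val_pow_eq_pow_val, ← mul_pow, Units.inv_mul, one_pow]
      rw [← hw, ← hw] at *
      simp only [u₀, mul_pow, ← pow_mul, Units.val_pow_eq_pow_val] at h5 ⊢
      rw [show p * n k = n k * p by ring]
      rw [mul_assoc (T k), ← pow_add, show n k * p + p = (n k + 1) * p by ring]
      linear_combination (T k) * h5
    rw [h4]
    exact (Commute.all _ _).isNilpotent_mul_left h3
  have hu : IsUnit u₀ := by
    rw [← isUnit_pow_iff hp.out.ne_zero, ← sub_add_cancel (u₀ ^ p) (T k), add_comm]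
    exact h2.isUnit_add_left_of_commute (hT k) (Commute.all _ _)
  exact ⟨hu.unit, h2⟩

include hp in
/-- Unit cocycles with approximate roots split on affine schemes. -/
theorem unitSplit_of_roots {S : Scheme.{u}} (L : Over S) [IsAffine L.left] (N : ℕ)
    (hp0 : ∀ V : L.left.Opens, (p : Γ(L.left, V)) = 0)
    (happrox : ∀ (κ : Type u) (f : κ → Γ(L.left, ⊤)), Ideal.span (Set.range f) = ⊤ →
      ∀ T : ∀ k, Γ(L.left, L.left.basicOpen (f k)), (∀ k, IsUnit (T k)) →
      (∀ k l, ∃ z : Γ(L.left, L.left.basicOpen (f k * f l)),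
        ∀ (hk : L.left.basicOpen (f k * f l) ≤ L.left.basicOpen (f k))
          (hl : L.left.basicOpen (f k * f l) ≤ L.left.basicOpen (f l)),
          resX L.left hk (T k) = z ^ p ^ N * resX L.left hl (T l)) →
      ∀ k, ∃ u : (Γ(L.left, L.left.basicOpen (f k)))ˣ,
        IsNilpotent ((u : Γ(L.left, L.left.basicOpen (f k))) ^ p ^ N - T k)) :
    UnitSplit (p ^ N) L := by
  classical
  intro W htop ζ t hζ hcoc ht hrel
  obtain ⟨M, s, hgen, hM, hs⟩ := exists_module_of_cocycle W ζ htop hζ hcoc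
  haveI := Groth.PicAux.isQCoh_of_isInvertible hM
  suffices ∃ σ, Gen M ⊤ σ by
    obtain ⟨σ, hσ⟩ := this
    choose b hb using fun i => (hσ.res (le_top : W i ≤ ⊤)).exists_unit (hgen i)
    refine ⟨b, fun i j => hσ.smul_inj (le_top : W i ⊓ W j ≤ ⊤) ?_⟩
    have h := hs i j
    rw [hb i, hb j, res_smul, res_smul, res_res, res_res, smul_smul] at h
    exact h
  let B : Set Γ(L.left, ⊤) := {f | ∃ i, L.left.basicOpen f ≤ W i}
  have hB : Ideal.span B = ⊤ := by
    refine ((isAffineOpen_top L.left).self_le_iSup_basicOpen_iff (s := B)).1 fun y _ => ?_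
    obtain ⟨i, hi⟩ := TopologicalSpace.Opens.mem_iSup.1 (show y ∈ iSup W by rw [htop]; trivial)
    obtain ⟨f, hf, hyf⟩ := (isAffineOpen_top L.left).exists_basicOpen_le (V := W i) ⟨y, hi⟩ trivial
    exact TopologicalSpace.Opens.mem_iSup.2 ⟨⟨f, i, hf⟩, hyf⟩
  obtain ⟨F, hFB, hFtop⟩ := (Ideal.span_eq_top_iff_finite _).1 hB
  let f : F → Γ(L.left, ⊤) := fun k => k.1
  have hspan : Ideal.span (Set.range f) = ⊤ := by
    rw [show Set.range f = (F : Set Γ(L.left, ⊤)) from Subtype.range_coe]
    exact hFtop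
  choose ix hix using fun k : F => hFB k.2
  let D : F → L.left.Opens := fun k => L.left.basicOpen (f k)
  let T : ∀ k, Γ(L.left, D k) := fun k => resX L.left (hix k) (t (ix k))
  have hDD : ∀ k l, L.left.basicOpen (f k * f l) = D k ⊓ D l := fun k l => L.left.basicOpen_mul _ _
  let z : ∀ k l, Γ(L.left, D k ⊓ D l) := fun k l => resX L.left (inf_le_inf (hix k) (hix l)) (ζ (ix k) (ix l))
  have hzT : ∀ k l, resX L.left (inf_le_left : D k ⊓ D l ≤ D k) (T k) =
      z k l ^ p ^ N * resX L.left (inf_le_right : D k ⊓ D l ≤ D l) (T l) := by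
    intro k l
    have h := congrArg (resX L.left (inf_le_inf (hix k) (hix l))) (hrel (ix k) (ix l))
    simp only [map_mul, map_pow, resX_resX] at h
    show resX L.left _ (resX L.left (hix k) (t (ix k))) =
      resX L.left _ (ζ (ix k) (ix l)) ^ p ^ N * resX L.left _ (resX L.left (hix l) (t (ix l)))
    rw [resX_resX, resX_resX]
    exact h
  have hroots := happrox _ f hspan T (fun k => (ht (ix k)).map _) fun k l => by
    refine ⟨resX L.left (hDD k l).le (z k l), fun hk hl => ?_⟩
    have h := congrArg (resX L.left (hDD k l).le) (hzT k l)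
    simpa only [map_mul, map_pow, resX_resX] using h
  choose u hu using hroots
  let g : ∀ k, Γ(M, D k) := fun k => ((u k)⁻¹ : (Γ(L.left, D k))ˣ).val • res M (hix k) (s (ix k))
  have hg : ∀ k, Gen M (D k) (g k) := fun k => ((hgen (ix k)).res (hix k)).smul_unit (Units.isUnit _)
  have hgg : ∀ k l, ∃ c : Γ(L.left, D k ⊓ D l), res M (inf_le_left : D k ⊓ D l ≤ D k) (g k) = c • res M (inf_le_right : D k ⊓ D l ≤ D l) (g l) ∧
      IsNilpotent (c - 1) := by
    intro k l
    let uk := resX L.left (inf_le_left : D k ⊓ D l ≤ D k) (u k).val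
    let uk' := resX L.left (inf_le_left : D k ⊓ D l ≤ D k) ((u k)⁻¹ : (Γ(L.left, D k))ˣ).val
    let ul := resX L.left (inf_le_right : D k ⊓ D l ≤ D l) (u l).val
    let ul' := resX L.left (inf_le_right : D k ⊓ D l ≤ D l) ((u l)⁻¹ : (Γ(L.left, D l))ˣ).val
    have hk1 : uk' * uk = 1 := by rw [← map_mul, Units.inv_mul, map_one]
    have hl1 : ul * ul' = 1 := by rw [← map_mul, Units.mul_inv, map_one]
    refine ⟨uk' * z k l * ul, ?_, ?_⟩
    · have h := congrArg (res M (inf_le_inf (hix k) (hix l))) (hs (ix k) (ix l))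
      simp only [res_smul, res_res] at h
      simp only [g, res_smul, res_res, smul_smul]
      rw [h, smul_smul]
      refine congrArg (· • _) ?_
      show uk' * z k l = uk' * z k l * ul * ul'
      rw [mul_assoc (uk' * z k l), hl1, mul_one]
    · have hd : IsNilpotent ((z k l * ul - uk) ^ p ^ N) := by
        have e1 := (hu k).map (resX L.left (inf_le_left : D k ⊓ D l ≤ D k))
        have e2 := (hu l).map (resX L.left (inf_le_right : D k ⊓ D l ≤ D l))
        rw [map_sub, map_pow] at e1 e2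
        have : (z k l * ul - uk) ^ p ^ N = z k l ^ p ^ N * (ul ^ p ^ N - resX L.left inf_le_right (T l)) -
            (uk ^ p ^ N - resX L.left inf_le_left (T k)) := by
          rw [sub_pow_prime p (hp0 _) N, mul_pow]
          linear_combination (hzT k l).symm
        rw [this]
        exact (Commute.all _ _).isNilpotent_sub ((Commute.all _ _).isNilpotent_mul_left e2) e1
      obtain ⟨N', hN⟩ := hd
      have hd' : IsNilpotent (z k l * ul - uk) := ⟨p ^ N * N', by rw [pow_mul, hN]⟩
      have := (Commute.all uk' _).isNilpotent_mul_left hd'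
      rwa [mul_sub, hk1, ← mul_assoc] at this
  choose n σ hσ using fun k => Groth.QCohMod.exists_pow_smul_eq_res M (isAffineOpen_top L.left) (f k) (g k)
  have hσ' : ∀ k, res M (le_top : D k ≤ ⊤) (σ k) = resX L.left (le_top : D k ≤ ⊤) (f k) ^ n k • g k := hσ
  have hd : ∀ k l, ∃ d, res M (le_top : D l ≤ ⊤) (σ k) = d • g l ∧
      IsNilpotent (resX L.left (le_top : D l ≤ ⊤) (f k) * d - resX L.left (le_top : D l ≤ ⊤) (f k) ^ (n k + 1)) := by
    intro k l
    obtain ⟨d, hd⟩ := (hg l).exists_coeff le_rfl (res M (le_top : D l ≤ ⊤) (σ k))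
    rw [res_self] at hd
    refine ⟨d, hd, ?_⟩
    obtain ⟨c, hc, hcn⟩ := hgg k l
    have h := congrArg (res M (inf_le_right : D k ⊓ D l ≤ D l)) hd
    have h' := congrArg (res M (inf_le_left : D k ⊓ D l ≤ D k)) (hσ' k)
    simp only [res_smul, res_res, map_pow, resX_resX] at h h'
    rw [h', hc, smul_smul] at h
    have hdc := (hg l).smul_inj (inf_le_right : D k ⊓ D l ≤ D l) h
    have hnil : IsNilpotent (resX L.left (inf_le_right : D k ⊓ D l ≤ D l)
        (d - resX L.left (le_top : D l ≤ ⊤) (f k) ^ n k)) := by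
      rw [map_sub, map_pow, resX_resX, ← hdc, ← mul_sub_one]
      exact (Commute.all _ _).isNilpotent_mul_left hcn
    have := isNilpotent_mul ((isAffineOpen_top L.left).basicOpen (f l)) (resX L.left (le_top : D l ≤ ⊤) (f k))
      (d - resX L.left (le_top : D l ≤ ⊤) (f k) ^ n k) (V := D k ⊓ D l) (by
        rw [inf_comm]
        exact (L.left.basicOpen_res (f k) (homOfLE (le_top : D l ≤ ⊤)).op).symm) inf_le_right hnil
    rwa [mul_sub, ← pow_succ'] at this
  choose d hd hdn using hd
  have hpow : Ideal.span (Set.range fun k => f k ^ (n k + 1)) = ⊤ := by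
    refine top_le_iff.1 ((Ideal.span_range_pow_eq_top (Set.range f) hspan
      (fun x => n (Set.rangeSplitting f x) + 1)).ge.trans (Ideal.span_mono ?_))
    rintro _ ⟨x, rfl⟩
    refine ⟨Set.rangeSplitting f x, ?_⟩
    show f (Set.rangeSplitting f x) ^ _ = _
    rw [Set.apply_rangeSplitting f x]
  obtain ⟨a, ha⟩ := Ideal.mem_span_range_iff_exists_fun.1
    (hpow ▸ (Submodule.mem_top : (1 : Γ(L.left, ⊤)) ∈ (⊤ : Ideal Γ(L.left, ⊤))))
  refine ⟨∑ k, (a k * f k) • σ k, Gen.of_cover D (fun _ => le_top) ?_ fun l => ?_⟩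
  · exact ((isAffineOpen_top L.left).self_le_iSup_basicOpen_iff (s := Set.range f)).2 hspan |>.trans
      (iSup_le fun x => le_iSup_of_le (Set.rangeSplitting f x) (le_of_eq (by
        simp only [D]; rw [Set.apply_rangeSplitting f x])))
  · have hsum : res M (le_top : D l ≤ ⊤) (∑ k, (a k * f k) • σ k) =
        (∑ k, resX L.left (le_top : D l ≤ ⊤) (a k) * (resX L.left (le_top : D l ≤ ⊤) (f k) * d k l)) • g l := by
      rw [Finset.sum_smul]
      refine (map_sum (Groth.QCohMod.res M (le_top : D l ≤ ⊤)) _ _).trans (Finset.sum_congr rfl fun k _ => ?_)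
      show res M (le_top : D l ≤ ⊤) _ = _
      rw [res_smul, hd k l, smul_smul, map_mul, mul_assoc]
    rw [hsum]
    refine (hg l).smul_unit ?_
    have h1 : (∑ k, resX L.left (le_top : D l ≤ ⊤) (a k) * (resX L.left (le_top : D l ≤ ⊤) (f k) * d k l)) - 1 =
        ∑ k, resX L.left (le_top : D l ≤ ⊤) (a k) *
          (resX L.left (le_top : D l ≤ ⊤) (f k) * d k l - resX L.left (le_top : D l ≤ ⊤) (f k) ^ (n k + 1)) := by
      rw [← map_one (resX L.left (le_top : D l ≤ ⊤)), ← ha, map_sum, ← Finset.sum_sub_distrib]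
      refine Finset.sum_congr rfl fun k _ => ?_
      rw [map_mul, map_pow, mul_sub]
    rw [← sub_add_cancel (∑ k, resX L.left (le_top : D l ≤ ⊤) (a k) *
      (resX L.left (le_top : D l ≤ ⊤) (f k) * d k l)) 1]
    refine IsNilpotent.isUnit_add_one ?_
    rw [h1]
    exact isNilpotent_sum fun k _ => (Commute.all _ _).isNilpotent_mul_left (hdn k l)

include hF in
/-- Line bundles whose `p`th power is trivial are trivial on the affine line over a semiperfect ring. -/
theorem unitSplit {S : Scheme.{u}} (L : Over S) [IsAffine L.left] (e : R[X] ≃+* Γ(L.left, ⊤)) :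
    UnitSplit p L := by
  have h := unitSplit_of_roots p L 1 (fun V => by
    rw [← map_natCast ((resX L.left (le_top : V ≤ ⊤)).comp e.toRingHom), CharP.cast_eq_zero, map_zero])
    fun κ f hspan T hT hrel => by
      simp only [pow_one] at hrel ⊢
      exact exists_roots p hF e f hspan T hT hrel
  rwa [pow_one] at h

end Groth.GaDual.LineSplit
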