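import Groth.Agent.GaDual.SymCocycle
import Mathlib.Algebra.Ring.GeomSum

/-!
Multiplicative symmetric cocycles of `α_{p^N}` over rings with surjective Frobenius are coboundaries.
-/

set_option autoImplicit false
set_option linter.unusedSectionVars false
set_option linter.unusedSimpArgs false
set_option maxHeartbeats 400000

universe u

open MvPolynomial Groth.GrpschAbsch Groth.GrpschAbsch.Char Groth.GrpschAbsch.Cocycle

noncomputable section

namespace Groth.GaDual.SymCocycleTrunc

open SymCocycle (ep e0 e1)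

variable {R : Type u} [CommRing R]

section Trunc

variable {m : ℕ} (q : ℕ)

/-- Polynomials with no monomial of degree `< k` in which every exponent is `< q`. -/
def T (m q k : ℕ) : Ideal (MvPolynomial (Fin m) R) where
  carrier := {F | ∀ d : Fin m →₀ ℕ, (∀ i, d i < q) → ∑ i, d i < k → coeff d F = 0}
  add_mem' {a b} ha hb d h h' := by rw [coeff_add, ha d h h', hb d h h', add_zero]
  zero_mem' d _ _ := coeff_zero d
  smul_mem' a b hb d h h' := by
    rw [smul_eq_mul, coeff_mul]
    refine Finset.sum_eq_zero fun x hx => ?_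
    rw [Finset.mem_antidiagonal] at hx
    have hle : ∀ i, x.2 i ≤ d i := fun i => by
      rw [← hx, Finsupp.add_apply]; exact Nat.le_add_left _ _
    rw [hb x.2 (fun i => (hle i).trans_lt (h i)) ((Finset.sum_le_sum fun i _ => hle i).trans_lt h'), mul_zero]

lemma mem_T {k : ℕ} {F : MvPolynomial (Fin m) R} :
    F ∈ T m q k ↔ ∀ d : Fin m →₀ ℕ, (∀ i, d i < q) → ∑ i, d i < k → coeff d F = 0 := Iff.rfl

lemma T_mono {a b : ℕ} (h : a ≤ b) : T (R := R) m q b ≤ T m q a :=
  fun _ hF d hd hs => hF d hd (hs.trans_le h)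

lemma mul_mem_T {a b : ℕ} {F G : MvPolynomial (Fin m) R} (hF : F ∈ T m q a) (hG : G ∈ T m q b) :
    F * G ∈ T m q (a + b) := by
  intro d hd hs
  rw [coeff_mul]
  refine Finset.sum_eq_zero fun x hx => ?_
  rw [Finset.mem_antidiagonal] at hx
  have hsum : ∑ i, x.1 i + ∑ i, x.2 i = ∑ i, d i := by
    rw [← Finset.sum_add_distrib, ← hx]; rfl
  by_cases h1 : ∑ i, x.1 i < a
  · rw [hF x.1 (fun i => (by rw [← hx, Finsupp.add_apply]; exact Nat.le_add_right _ _ : x.1 i ≤ d i).trans_lt (hd i)) h1, zero_mul]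
  · rw [hG x.2 (fun i => (by rw [← hx, Finsupp.add_apply]; exact Nat.le_add_left _ _ : x.2 i ≤ d i).trans_lt (hd i)) (by omega), mul_zero]

lemma mem_T_zero (F : MvPolynomial (Fin m) R) : F ∈ T m q 0 := fun _ _ h => absurd h (Nat.not_lt_zero _)

lemma pow_mem_T {a : ℕ} {F : MvPolynomial (Fin m) R} (hF : F ∈ T m q a) (n : ℕ) : F ^ n ∈ T m q (n * a) := by
  induction n with
  | zero => rw [zero_mul]; exact mem_T_zero q _
  | succ n ih => rw [pow_succ, Nat.succ_mul]; exact mul_mem_T q ih hF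

lemma X_mem_T (i : Fin m) : (X i : MvPolynomial (Fin m) R) ∈ T m q 1 := by
  intro d _ hs
  rw [coeff_X', if_neg]
  intro h
  have := Finset.single_le_sum (f := fun j => d j) (fun _ _ => Nat.zero_le _) (Finset.mem_univ i)
  rw [← h] at this hs
  rw [Finsupp.single_eq_same] at this
  omega

lemma X_pow_q_mem_T (i : Fin m) (k : ℕ) : (X i : MvPolynomial (Fin m) R) ^ q ∈ T m q k := by
  intro d hd _
  rw [coeff_X_pow, if_neg]
  intro h
  have := hd i
  rw [← h, Finsupp.single_eq_same] at this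
  omega

lemma aeval_mem_T {n k : ℕ} (v : Fin n → MvPolynomial (Fin m) R) (hv : ∀ i, v i ∈ T m q 1)
    (hvq : ∀ i k, v i ^ q ∈ T m q k) {F : MvPolynomial (Fin n) R} (hF : F ∈ T n q k) :
    aeval v F ∈ T m q k := by
  classical
  rw [F.as_sum, map_sum]
  refine sum_mem fun d hd => ?_
  rw [aeval_monomial, Finsupp.prod_fintype _ _ (fun i => pow_zero _)]
  refine Ideal.mul_mem_left _ _ ?_
  by_cases h : ∀ i, d i < q
  · have hk : k ≤ ∑ i, d i := not_lt.mp fun hlt => MvPolynomial.mem_support_iff.mp hd (hF d h hlt)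
    refine T_mono q hk ?_
    have : ∀ s : Finset (Fin n), ∏ i ∈ s, v i ^ d i ∈ T m q (∑ i ∈ s, d i) := fun s => by
      induction s using Finset.induction_on with
      | empty => simpa using mem_T_zero q (1 : MvPolynomial (Fin m) R)
      | insert a s ha ih =>
        rw [Finset.prod_insert ha, Finset.sum_insert ha]
        exact mul_mem_T q (by simpa using pow_mem_T q (hv a) (d a)) ih
    exact this Finset.univ
  · push Not at h
    obtain ⟨i, hi⟩ := h
    rw [← Finset.mul_prod_erase _ _ (Finset.mem_univ i), ← Nat.add_sub_cancel' hi, pow_add, mul_assoc]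
    exact Ideal.mul_mem_right _ _ (hvq i k)

end Trunc

variable (p : ℕ) [hp : Fact p.Prime] [CharP R p] (N : ℕ)

lemma choose_eq_zero {j l : ℕ} (hj : j < p ^ N) (hl : l < p ^ N) (h : p ^ N ≤ j + l) :
    ((j + l).choose j : R) = 0 := by
  obtain ⟨r, hr⟩ : ∃ r, j + l = p ^ N + r := ⟨j + l - p ^ N, by omega⟩
  rw [hr, Nat.add_choose_eq, Nat.cast_sum]
  refine Finset.sum_eq_zero fun x hx => ?_
  rw [Finset.mem_antidiagonal] at hx
  rcases Nat.eq_zero_or_pos x.1 with h0 | h0
  · rw [Nat.choose_eq_zero_of_lt (show r < x.2 by omega), mul_zero, Nat.cast_zero]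
  · have : p ∣ (p ^ N).choose x.1 := hp.out.dvd_choose_pow h0.ne' (by omega)
    rw [Nat.cast_mul, (CharP.cast_eq_zero_iff R p _).mpr this, zero_mul]

lemma lin_pow_q_mem {m : ℕ} (i j : Fin m) (k : ℕ) :
    ((X i + X j : MvPolynomial (Fin m) R)) ^ p ^ N ∈ T m (p ^ N) k := by
  rw [add_pow_char_pow]
  exact add_mem (X_pow_q_mem_T _ i k) (X_pow_q_mem_T _ j k)

lemma lin_mem {m : ℕ} (i j : Fin m) : (X i + X j : MvPolynomial (Fin m) R) ∈ T m (p ^ N) 1 :=
  add_mem (X_mem_T _ i) (X_mem_T _ j)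

/-- The degree bound making the truncation total. -/
abbrev top (p N : ℕ) : ℕ := 3 * p ^ N

/-- Truncated multiplicative symmetric cocycles. -/
def IsMC (F : MvPolynomial (Fin 2) R) : Prop :=
  aeval ![X 1, X 0] F - F ∈ T 2 (p ^ N) (top p N) ∧
    aeval ![(X 0 : MvPolynomial (Fin 3) R), X 1 + X 2] F * aeval ![X 1, X 2] F -
      aeval ![(X 0 + X 1 : MvPolynomial (Fin 3) R), X 2] F * aeval ![X 0, X 1] F ∈ T 3 (p ^ N) (top p N)

lemma IsMC.mul {F G : MvPolynomial (Fin 2) R} (hF : IsMC p N F) (hG : IsMC p N G) : IsMC p N (F * G) := by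
  unfold IsMC at *
  simp only [← Ideal.Quotient.eq_zero_iff_mem, map_sub, map_mul, sub_eq_zero] at hF hG ⊢
  refine ⟨by rw [hF.1, hG.1], ?_⟩
  linear_combination
    (Ideal.Quotient.mk (T 3 (p ^ N) (top p N)) (aeval ![(X 0 : MvPolynomial (Fin 3) R), X 1 + X 2] G) *
      Ideal.Quotient.mk (T 3 (p ^ N) (top p N)) (aeval ![(X 1 : MvPolynomial (Fin 3) R), X 2] G)) * hF.2 +
    (Ideal.Quotient.mk (T 3 (p ^ N) (top p N)) (aeval ![(X 0 + X 1 : MvPolynomial (Fin 3) R), X 2] F) *
      Ideal.Quotient.mk (T 3 (p ^ N) (top p N)) (aeval ![(X 0 : MvPolynomial (Fin 3) R), X 1] F)) * hG.2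

lemma IsMC.C (a : R) : IsMC p N (MvPolynomial.C a) := by simp [IsMC]

lemma aeval_sub_one_mem {m : ℕ} {d d' : Polynomial R} (h : (Polynomial.X : Polynomial R) ^ p ^ N ∣ d * d' - 1)
    (s : MvPolynomial (Fin m) R) (hs : ∀ k, s ^ p ^ N ∈ T m (p ^ N) k) (k : ℕ) :
    Polynomial.aeval s d * Polynomial.aeval s d' - 1 ∈ T m (p ^ N) k := by
  obtain ⟨r, hr⟩ := h
  have := congrArg (Polynomial.aeval s) hr
  simp only [map_sub, map_mul, map_one, map_pow, Polynomial.aeval_X] at this
  rw [this]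
  exact Ideal.mul_mem_right _ _ (hs k)

lemma isMC_cobdry {d d' : Polynomial R} (h : (Polynomial.X : Polynomial R) ^ p ^ N ∣ d * d' - 1) :
    IsMC p N (ep d * e0 d' * e1 d') := by
  have e : ∀ (n : ℕ) (v : Fin 2 → MvPolynomial (Fin n) R),
      aeval v (ep d * e0 d' * e1 d') =
        Polynomial.aeval (v 0 + v 1) d * Polynomial.aeval (v 0) d' * Polynomial.aeval (v 1) d' := by
    intro n v
    simp [← Polynomial.aeval_algHom_apply]
  unfold IsMC
  simp only [e, Matrix.cons_val_zero, Matrix.cons_val_one, Matrix.cons_val_fin_one]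
  refine ⟨?_, ?_⟩
  · rw [add_comm (X 1 : MvPolynomial (Fin 2) R)]
    convert (T 2 (p ^ N) (top p N)).zero_mem using 1
    ring
  rw [add_assoc (X 0 : MvPolynomial (Fin 3) R)]
  have h12 := aeval_sub_one_mem p N h (X 1 + X 2 : MvPolynomial (Fin 3) R) (lin_pow_q_mem p N 1 2) (top p N)
  have h01 := aeval_sub_one_mem p N h (X 0 + X 1 : MvPolynomial (Fin 3) R) (lin_pow_q_mem p N 0 1) (top p N)
  simp only [← Ideal.Quotient.eq_zero_iff_mem, map_sub, map_mul, map_one, sub_eq_zero] at h12 h01 ⊢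
  generalize Ideal.Quotient.mk (T (R := R) 3 (p ^ N) (top p N)) = π at h12 h01 ⊢
  linear_combination (π (Polynomial.aeval (X 0 + (X 1 + X 2) : MvPolynomial (Fin 3) R) d) *
    π (Polynomial.aeval (X 0 : MvPolynomial (Fin 3) R) d') * π (Polynomial.aeval (X 1 : MvPolynomial (Fin 3) R) d') *
    π (Polynomial.aeval (X 2 : MvPolynomial (Fin 3) R) d')) * h12 -
    (π (Polynomial.aeval (X 0 + (X 1 + X 2) : MvPolynomial (Fin 3) R) d) *
    π (Polynomial.aeval (X 0 : MvPolynomial (Fin 3) R) d') * π (Polynomial.aeval (X 1 : MvPolynomial (Fin 3) R) d') *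
    π (Polynomial.aeval (X 2 : MvPolynomial (Fin 3) R) d')) * h01

lemma exists_inv {d : Polynomial R} (hd : d.coeff 0 = 1) :
    ∃ d' : Polynomial R, d'.coeff 0 = 1 ∧ (Polynomial.X : Polynomial R) ^ p ^ N ∣ d * d' - 1 := by
  refine ⟨∑ i ∈ Finset.range (p ^ N), (1 - d) ^ i, ?_, ?_⟩
  · rw [Polynomial.coeff_zero_eq_eval_zero, Polynomial.eval_finsetSum]
    have h0 : d.eval 0 = 1 := by rwa [← Polynomial.coeff_zero_eq_eval_zero]
    simp [h0, zero_pow_eq, hp.out.pos]
  · have h := mul_geom_sum (1 - d) (p ^ N)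
    have hX : Polynomial.X ∣ 1 - d := Polynomial.X_dvd_iff.mpr (by simp [hd])
    have : d * ∑ i ∈ Finset.range (p ^ N), (1 - d) ^ i - 1 = -(1 - d) ^ p ^ N := by linear_combination -h
    rw [this, dvd_neg]
    exact pow_dvd_pow_of_dvd hX _

variable (hF : Function.Surjective (frobenius R p))

include hF in
/-- One degree at a time. -/
lemma exists_step {k : ℕ} (hk : 1 ≤ k) {w : MvPolynomial (Fin 2) R} (hw : IsMC p N w)
    (hw1 : w - 1 ∈ T 2 (p ^ N) k) :
    ∃ D : Polynomial R, D.coeff 0 = 1 ∧ ep D - e0 D * e1 D * w ∈ T 2 (p ^ N) (k + 1) := by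
  classical
  by_cases hbig : top p N ≤ k
  · refine ⟨1, Polynomial.coeff_one_zero, ?_⟩
    have h : ∀ (d : Fin 2 →₀ ℕ), (∀ i, d i < p ^ N) → ∑ i, d i < k := fun d hd => by
      rw [Fin.sum_univ_two]; have := hd 0; have := hd 1
      have : top p N = 3 * p ^ N := rfl
      omega
    simp only [map_one, one_mul]
    rw [← neg_sub, neg_mem_iff]
    exact fun d hd _ => hw1 d hd (h d hd)
  let φ : MvPolynomial (Fin 2) R := w - 1
  let F : MvPolynomial (Fin 2) R := ∑ i ∈ Finset.range (k + 1),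
    monomial (pair i (k - i)) (if i < p ^ N ∧ k - i < p ^ N then φ.coeff (pair i (k - i)) else 0)
  have hFc : ∀ a b, F.coeff (pair a b) =
      if a + b = k ∧ a < p ^ N ∧ b < p ^ N then φ.coeff (pair a b) else 0 := by
    intro a b
    simp only [F, coeff_sum, coeff_monomial, pair_inj]
    by_cases hab : a + b = k
    · rw [Finset.sum_eq_single a]
      · have hb : k - a = b := by omega
        simp [hb, hab]
      · intro i _ hi; rw [if_neg (fun h => hi h.1)]
      · intro h; exact absurd (Finset.mem_range.mpr (by omega)) h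
    · rw [if_neg (fun h => hab h.1), Finset.sum_eq_zero]
      intro i hi
      rw [Finset.mem_range] at hi
      rw [if_neg]
      omega
  have hFφ : φ - F ∈ T 2 (p ^ N) (k + 1) := by
    intro d hd hs
    rw [Fin.sum_univ_two] at hs
    rw [eq_pair d, coeff_sub, hFc]
    by_cases h : d 0 + d 1 = k
    · rw [if_pos ⟨h, hd 0, hd 1⟩, sub_self]
    · rw [if_neg (fun h' => h h'.1), sub_zero, ← eq_pair d]
      exact hw1 d hd (by rw [Fin.sum_univ_two]; omega)
  have hsymm : aeval ![(X 1 : MvPolynomial (Fin 2) R), X 0] F = F := by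
    refine MvPolynomial.ext _ _ fun d => ?_
    rw [eq_pair d, coeff_aeval_swap, hFc, hFc, add_comm (d 1)]
    by_cases h : d 0 + d 1 = k ∧ d 0 < p ^ N ∧ d 1 < p ^ N
    · rw [if_pos ⟨h.1, h.2.2, h.2.1⟩, if_pos h]
      have := hw.1 (pair (d 0) (d 1)) (fun i => by fin_cases i <;> simp [h.2.1, h.2.2]) (by
        rw [Fin.sum_univ_two, pair_zero, pair_one, h.1]; omega)
      have e : aeval ![(X 1 : MvPolynomial (Fin 2) R), X 0] w - w = aeval ![(X 1 : MvPolynomial (Fin 2) R), X 0] φ - φ := by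
        simp [φ]
      rw [e, coeff_sub, coeff_aeval_swap, sub_eq_zero] at this
      exact this
    · rw [if_neg (fun h' => h ⟨h'.1, h'.2.2, h'.2.1⟩), if_neg h]
  have hv : ∀ a b : Fin 3, ∀ i, (![(X a : MvPolynomial (Fin 3) R), X b] i) ∈ T 3 (p ^ N) 1 :=
    fun a b i => by fin_cases i <;> exact X_mem_T _ _
  have hvq : ∀ a b : Fin 3, ∀ i k, (![(X a : MvPolynomial (Fin 3) R), X b] i) ^ p ^ N ∈ T 3 (p ^ N) k :=
    fun a b i k => by fin_cases i <;> exact X_pow_q_mem_T _ _ _
  have hlin : delta φ ∈ T 3 (p ^ N) (k + 1) := by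
    have hv1 : ∀ i, (![(X 0 : MvPolynomial (Fin 3) R), X 1 + X 2] i) ∈ T 3 (p ^ N) 1 :=
      fun i => by fin_cases i <;> first | exact X_mem_T _ _ | exact lin_mem p N _ _
    have hvq1 : ∀ i k, (![(X 0 : MvPolynomial (Fin 3) R), X 1 + X 2] i) ^ p ^ N ∈ T 3 (p ^ N) k :=
      fun i k => by fin_cases i <;> first | exact X_pow_q_mem_T _ _ _ | exact lin_pow_q_mem p N _ _ _
    have hv2 : ∀ i, (![(X 0 + X 1 : MvPolynomial (Fin 3) R), X 2] i) ∈ T 3 (p ^ N) 1 :=
      fun i => by fin_cases i <;> first | exact X_mem_T _ _ | exact lin_mem p N _ _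
    have hvq2 : ∀ i k, (![(X 0 + X 1 : MvPolynomial (Fin 3) R), X 2] i) ^ p ^ N ∈ T 3 (p ^ N) k :=
      fun i k => by fin_cases i <;> first | exact X_pow_q_mem_T _ _ _ | exact lin_pow_q_mem p N _ _ _
    have z1 := T_mono _ (show k + 1 ≤ k + k by omega)
      (mul_mem_T _ (aeval_mem_T _ _ hv1 hvq1 hw1) (aeval_mem_T _ _ (hv 1 2) (hvq 1 2) hw1))
    have z2 := T_mono _ (show k + 1 ≤ k + k by omega)
      (mul_mem_T _ (aeval_mem_T _ _ hv2 hvq2 hw1) (aeval_mem_T _ _ (hv 0 1) (hvq 0 1) hw1))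
    have h := T_mono _ (show k + 1 ≤ top p N by omega) hw.2
    have e : delta φ = aeval ![(X 0 : MvPolynomial (Fin 3) R), X 1 + X 2] w * aeval ![X 1, X 2] w -
        aeval ![(X 0 + X 1 : MvPolynomial (Fin 3) R), X 2] w * aeval ![X 0, X 1] w -
        aeval ![(X 0 : MvPolynomial (Fin 3) R), X 1 + X 2] (w - 1) * aeval ![X 1, X 2] (w - 1) +
        aeval ![(X 0 + X 1 : MvPolynomial (Fin 3) R), X 2] (w - 1) * aeval ![X 0, X 1] (w - 1) := by
      simp only [φ, delta, map_sub, map_one]; ring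
    rw [e]
    exact add_mem (sub_mem h z1) z2
  have hdel : delta F = 0 := by
    refine MvPolynomial.ext _ _ fun d => ?_
    have hd3 : d = tri (d 0) (d 1) (d 2) := by ext x; fin_cases x <;> simp [tri]
    rw [hd3, coeff_zero, delta, coeff_sub, coeff_sub, coeff_add, coeff_aeval_left, coeff_aeval_right,
      coeff_aeval_fst, coeff_aeval_snd]
    simp only [hFc]
    generalize hi : d 0 = i
    generalize hj : d 1 = j
    generalize hl : d 2 = l
    by_cases hall : i + j + l = k ∧ i < p ^ N ∧ j < p ^ N ∧ l < p ^ N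
    · obtain ⟨hs, hiq, hjq, hlq⟩ := hall
      have h := hlin (tri i j l) (fun x => by fin_cases x <;> simp [tri, hiq, hjq, hlq]) (by
        simp [Fin.sum_univ_three, tri]; omega)
      rw [delta, coeff_sub, coeff_sub, coeff_add, coeff_aeval_left, coeff_aeval_right,
        coeff_aeval_fst, coeff_aeval_snd] at h
      refine Eq.trans ?_ h
      have eL : ((j + l).choose j : R) * (if i + (j + l) = k ∧ i < p ^ N ∧ j + l < p ^ N then φ.coeff (pair i (j + l)) else 0) =
          ((j + l).choose j : R) * φ.coeff (pair i (j + l)) := by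
        split_ifs with hc
        · rfl
        · rw [choose_eq_zero p N hjq hlq (not_lt.mp fun hlt => hc ⟨by omega, hiq, hlt⟩), zero_mul, zero_mul]
      have eR : ((i + j).choose i : R) * (if i + j + l = k ∧ i + j < p ^ N ∧ l < p ^ N then φ.coeff (pair (i + j) l) else 0) =
          ((i + j).choose i : R) * φ.coeff (pair (i + j) l) := by
        split_ifs with hc
        · rfl
        · rw [choose_eq_zero p N hiq hjq (not_lt.mp fun hlt => hc ⟨hs, hlt, hlq⟩), zero_mul, zero_mul]
      rw [eL, eR]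
      refine congrArg₂ (· - ·) (congrArg₂ (· - ·) (congrArg₂ (· + ·) rfl ?_) rfl) ?_
      · by_cases h0 : i = 0
        · rw [if_pos h0, if_pos h0, if_pos ⟨by omega, hjq, hlq⟩]
        · rw [if_neg h0, if_neg h0]
      · by_cases h0 : l = 0
        · rw [if_pos h0, if_pos h0, if_pos ⟨by omega, hiq, hjq⟩]
        · rw [if_neg h0, if_neg h0]
    · rw [if_neg (fun h => hall ⟨by omega, h.2.1, by omega, by omega⟩),
        if_neg (c := i + j + l = k ∧ i + j < p ^ N ∧ l < p ^ N) (fun h => hall ⟨h.1, by omega, by omega, h.2.2⟩)]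
      have zl : (if i = 0 then if j + l = k ∧ j < p ^ N ∧ l < p ^ N then φ.coeff (pair j l) else 0 else 0) = 0 := by
        split_ifs with h1 h2
        · exact absurd ⟨by omega, by omega, h2.2.1, h2.2.2⟩ hall
        · rfl
        · rfl
      have zr : (if l = 0 then if i + j = k ∧ i < p ^ N ∧ j < p ^ N then φ.coeff (pair i j) else 0 else 0) = 0 := by
        split_ifs with h1 h2
        · exact absurd ⟨by omega, h2.2.1, h2.2.2, by omega⟩ hall
        · rfl
        · rfl
      rw [zl, zr, mul_zero, mul_zero, add_zero, sub_zero, sub_zero]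
  obtain ⟨G, M, r, hdec⟩ := exists_decomp p (R := R) (F := F) ⟨hsymm, hdel⟩
  have hSd : ∀ i a b, a + b ≠ p ^ (i + 1) → (SPow p (R := R) i).coeff (pair a b) = 0 := by
    intro i a b hab
    rw [SPow, S, coeff_sum]
    refine Finset.sum_eq_zero fun j hj => ?_
    rw [Finset.mem_Ioo] at hj
    rw [← C_eq_coe_nat, ← pow_mul, ← pow_mul, X_pow_eq_monomial, X_pow_eq_monomial, C_mul_monomial,
      monomial_mul, coeff_monomial, if_neg]
    intro h
    have ha := congrArg (fun f : Fin 2 →₀ ℕ => f 0) h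
    have hb := congrArg (fun f : Fin 2 →₀ ℕ => f 1) h
    simp at ha hb
    refine hab ?_
    rw [← ha, ← hb, ← mul_add, Nat.add_sub_cancel' hj.2.le, pow_succ]
  have hcase : ∃ (g : R) (E : Polynomial R) (Φ : MvPolynomial (Fin 2) R),
      F = cobdry (Polynomial.monomial k g) + Φ ∧ E.coeff 0 = 1 ∧
      ep E - e0 E * e1 E * (1 + Φ) ∈ T 2 (p ^ N) (k + 1) ∧ Φ ∈ T 2 (p ^ N) k := by
    let s := (Finset.range M).filter fun i => p ^ (i + 1) = k
    have hFeq : F = cobdry (Polynomial.monomial k (G.coeff k)) + ∑ i ∈ s, MvPolynomial.C (r i) * SPow p i := by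
      refine MvPolynomial.ext _ _ fun d => ?_
      rw [eq_pair d]
      generalize d 0 = a
      generalize d 1 = b
      conv_rhs => rw [coeff_add, coeff_cobdry, coeff_sum]
      simp only [coeff_C_mul, Polynomial.coeff_monomial]
      by_cases hab : a + b = k
      · conv_lhs => rw [hdec, coeff_add, coeff_cobdry, coeff_sum]
        simp only [coeff_C_mul]
        refine congrArg₂ (· + ·) ?_ ?_
        · rw [hab, if_pos rfl]
          by_cases h0 : b = 0 <;> by_cases h0' : a = 0 <;>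
            simp [h0, h0', show b = 0 → a = k by omega, show a = 0 → b = k by omega, Ne.symm, show k ≠ 0 by omega] <;>
            (try omega)
        · refine (Finset.sum_subset (Finset.filter_subset _ _) fun i hi hi' => ?_).symm
          rw [hSd i a b (by rw [hab]; exact fun h => hi' (Finset.mem_filter.mpr ⟨hi, h.symm⟩)), mul_zero]
      · rw [hFc, if_neg (fun h => hab h.1), if_neg (Ne.symm hab), mul_zero, zero_sub,
          Finset.sum_eq_zero fun i hi => by
            rw [hSd i a b (by rw [(Finset.mem_filter.mp hi).2]; exact hab), mul_zero]]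
        by_cases h0 : b = 0 <;> by_cases h0' : a = 0 <;> simp [h0, h0', show k ≠ 0 by omega] <;>
          (try (intro h; omega))
    rcases s.eq_empty_or_nonempty with hs | ⟨i, hi⟩
    · rw [hs, Finset.sum_empty] at hFeq
      exact ⟨G.coeff k, 1, 0, hFeq, Polynomial.coeff_one_zero, by simp, Submodule.zero_mem _⟩
    · have hsing : s = {i} := Finset.eq_singleton_iff_unique_mem.mpr ⟨hi, fun j hj => by
        have h1 := (Finset.mem_filter.mp hi).2
        have h2 := (Finset.mem_filter.mp hj).2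
        exact Nat.succ_injective (Nat.pow_right_injective hp.out.two_le (h2.trans h1.symm))⟩
      rw [hsing, Finset.sum_singleton] at hFeq
      have hki : p ^ (i + 1) = k := (Finset.mem_filter.mp hi).2
      obtain ⟨b, hb⟩ := hF (r i)
      rw [frobenius_def] at hb
      obtain ⟨P, hP0, hP⟩ := TruncExp.exists_poly p R
      refine ⟨G.coeff k, Polynomial.aeval (Polynomial.C b * Polynomial.X ^ p ^ i) P, _, hFeq, ?_, ?_, ?_⟩
      · rw [Polynomial.coeff_zero_eq_eval_zero, ← Polynomial.coe_aeval_eq_eval, ← Polynomial.aeval_algHom_apply]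
        simp [zero_pow (pow_ne_zero i hp.out.ne_zero), ← Polynomial.coeff_zero_eq_aeval_zero, hP0, (pow_ne_zero i hp.out.ne_zero).symm, ← Polynomial.coeff_zero_eq_eval_zero]
      · have h := hP (A := MvPolynomial (Fin 2) R ⧸ T 2 (p ^ N) (k + 1))
          (Ideal.Quotient.mk _ (MvPolynomial.C b * X 0 ^ p ^ i)) (Ideal.Quotient.mk _ (MvPolynomial.C b * X 1 ^ p ^ i))
          fun a c hac => by
            rw [← map_pow, ← map_pow, ← map_mul, Ideal.Quotient.eq_zero_iff_mem, mul_pow, mul_pow,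
              mul_mul_mul_comm, ← pow_mul, ← pow_mul]
            refine Ideal.mul_mem_left _ _ (T_mono _ ?_ (mul_mem_T _ (pow_mem_T _ (X_mem_T _ 0) (p ^ i * a))
              (pow_mem_T _ (X_mem_T _ 1) (p ^ i * c))))
            rw [mul_one, mul_one, ← mul_add, ← hki, pow_succ]
            have : p ^ i * (2 * p) ≤ p ^ i * (a + c) := Nat.mul_le_mul_left _ hac
            have : 1 ≤ p ^ i * p := Nat.mul_pos (pow_pos hp.out.pos i) hp.out.pos
            nlinarith
        rw [← map_add, ← Cocycle.map_S] at h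
        simp only [← Ideal.Quotient.mkₐ_eq_mk R, Polynomial.aeval_algHom_apply] at h
        rw [← map_one (Ideal.Quotient.mkₐ R (T 2 (p ^ N) (k + 1))), ← map_add, ← map_mul, ← map_mul,
          Ideal.Quotient.mkₐ_eq_mk, Ideal.Quotient.eq] at h
        simp only [ep, e0, e1, ← Polynomial.aeval_algHom_apply, map_mul, map_pow, Polynomial.aeval_C,
          Polynomial.aeval_X, algebraMap_eq, add_pow_char_pow, mul_add]
        rw [SymCocycle.S_smul, ← map_pow, hb] at h
        simpa only [mul_add, mul_one, SPow] using h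
      · refine Ideal.mul_mem_left _ _ ?_
        intro d hd hs
        rw [Fin.sum_univ_two] at hs
        rw [eq_pair d]
        exact hSd i _ _ (by omega)
  obtain ⟨g, E, Φ, hFeq, hE0, hE, hΦ⟩ := hcase
  refine ⟨(1 + Polynomial.monomial k g) * E, by simp [hE0, Polynomial.coeff_monomial, show k ≠ 0 by omega], ?_⟩
  have hgm : ∀ x : MvPolynomial (Fin 2) R, x ∈ T 2 (p ^ N) 1 →
      Polynomial.aeval x (Polynomial.monomial k g) ∈ T 2 (p ^ N) k := fun x hx => by
    rw [Polynomial.aeval_monomial]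
    exact Ideal.mul_mem_left _ _ (by simpa using pow_mem_T _ hx k)
  have g0 := hgm _ (X_mem_T _ 0)
  have g1 := hgm _ (X_mem_T _ 1)
  have gp := hgm _ (lin_mem p N 0 1)
  have hcob : cobdry (Polynomial.monomial k g) ∈ T 2 (p ^ N) k := sub_mem (sub_mem gp g0) g1
  have le2 : k + 1 ≤ k + k := by omega
  have z1 := T_mono _ le2 (mul_mem_T _ g0 g1)
  have z2 := T_mono _ le2 (mul_mem_T _ g0 hcob)
  have z3 := T_mono _ le2 (mul_mem_T _ g1 hcob)
  have z4 := T_mono _ le2 (mul_mem_T _ hcob hΦ)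
  have hw' : w - (1 + cobdry (Polynomial.monomial k g) + Φ) ∈ T 2 (p ^ N) (k + 1) := by
    have : w - (1 + cobdry (Polynomial.monomial k g) + Φ) = φ - F := by simp only [φ, hFeq]; ring
    rw [this]; exact hFφ
  have hc : ep (Polynomial.monomial k g) = e0 (Polynomial.monomial k g) + e1 (Polynomial.monomial k g) +
      cobdry (Polynomial.monomial k g) := by rw [cobdry]; ring
  simp only [map_mul, map_add, map_one, hc]
  simp only [← Ideal.Quotient.eq_zero_iff_mem, map_sub, map_add, map_mul, map_one] at hw' hE z1 z2 z3 z4 ⊢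
  generalize Ideal.Quotient.mk (T (R := R) 2 (p ^ N) (k + 1)) = π at hw' hE z1 z2 z3 z4 ⊢
  generalize π (e0 (Polynomial.monomial k g)) = a0 at z1 z2 ⊢
  generalize π (e1 (Polynomial.monomial k g)) = a1 at z1 z3 ⊢
  generalize π (cobdry (Polynomial.monomial k g)) = cb at hw' z2 z3 z4 ⊢
  generalize π (e0 E) = E0 at hE ⊢
  generalize π (e1 E) = E1 at hE ⊢
  linear_combination (1 + a0 + a1 + cb) * hE - E0 * E1 * (1 + a0) * (1 + a1) * hw' -
    E0 * E1 * (1 + cb + π Φ) * z1 + E0 * E1 * z4 - E0 * E1 * z2 - E0 * E1 * z3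

include hF in
/-- Truncated symmetric unit cocycles are coboundaries. -/
theorem exists_poly_trunc {c : MvPolynomial (Fin 2) R} (hc0 : IsUnit (c.coeff 0)) (h : IsMC p N c) :
    ∃ d : Polynomial R, IsUnit (d.coeff 0) ∧ c * ep d - e0 d * e1 d ∈ T 2 (p ^ N) (top p N) := by
  obtain ⟨a, ha⟩ := hc0.exists_left_inv
  let u : MvPolynomial (Fin 2) R := MvPolynomial.C a * c
  have hu : IsMC p N u := (IsMC.C p N a).mul p N h
  have key : ∀ k, ∃ d : Polynomial R, d.coeff 0 = 1 ∧ u * ep d - e0 d * e1 d ∈ T 2 (p ^ N) (k + 1) := by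
    intro k
    induction k with
    | zero =>
      refine ⟨1, Polynomial.coeff_one_zero, fun d _ hs => ?_⟩
      have : d = 0 := by
        ext i
        have := Finset.single_le_sum (f := fun j => d j) (fun _ _ => Nat.zero_le _) (Finset.mem_univ i)
        simp only [Finsupp.zero_apply]
        omega
      subst this
      simp [u, ha]
    | succ k ih =>
      obtain ⟨d, hd, hdk⟩ := ih
      obtain ⟨d', hd'0, hd'⟩ := exists_inv p N hd
      have q0 := fun k => aeval_sub_one_mem p N hd' (X 0 : MvPolynomial (Fin 2) R) (X_pow_q_mem_T _ 0) k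
      have q1 := fun k => aeval_sub_one_mem p N hd' (X 1 : MvPolynomial (Fin 2) R) (X_pow_q_mem_T _ 1) k
      let w := u * (ep d * e0 d' * e1 d')
      have hw : w - 1 ∈ T 2 (p ^ N) (k + 1) := by
        have e : w - 1 = (u * ep d - e0 d * e1 d) * (e0 d' * e1 d') + (e1 d * e1 d') * (e0 d * e0 d' - 1) +
            (e1 d * e1 d' - 1) := by simp only [w]; ring
        rw [e]
        exact add_mem (add_mem (Ideal.mul_mem_right _ _ hdk) (Ideal.mul_mem_left _ _ (q0 _))) (q1 _)
      obtain ⟨D, hD0, hD⟩ := exists_step p N hF (Nat.succ_le_succ (Nat.zero_le k)) (hu.mul p N (isMC_cobdry p N hd')) hw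
      obtain ⟨D', hD'0, hD'⟩ := exists_inv p N hD0
      have r0 := aeval_sub_one_mem p N hD' (X 0 : MvPolynomial (Fin 2) R) (X_pow_q_mem_T _ 0) (k + 1 + 1)
      have r1 := aeval_sub_one_mem p N hD' (X 1 : MvPolynomial (Fin 2) R) (X_pow_q_mem_T _ 1) (k + 1 + 1)
      have rp := aeval_sub_one_mem p N hD' (X 0 + X 1 : MvPolynomial (Fin 2) R) (lin_pow_q_mem p N 0 1) (k + 1 + 1)
      refine ⟨d * D', by simp [hd, hD'0], ?_⟩
      have e : u * ep (d * D') - e0 (d * D') * e1 (d * D') =
          -(ep D' * e0 D' * e1 D' * (e0 d * e1 d)) * (ep D - e0 D * e1 D * w)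
          + (e0 d * e1 d * e0 D' * e1 D') * (ep D * ep D' - 1)
          - (ep D' * e0 d * e1 d * w * (e0 D * e0 D')) * (e1 D * e1 D' - 1)
          - (ep D' * e0 d * e1 d * w) * (e0 D * e0 D' - 1)
          - (u * ep d * ep D' * (e1 d * e1 d')) * (e0 d * e0 d' - 1)
          - (u * ep d * ep D') * (e1 d * e1 d' - 1) := by
        simp only [w, map_mul]; ring
      rw [e]
      exact sub_mem (sub_mem (sub_mem (sub_mem (add_mem (Ideal.mul_mem_left _ _ hD) (Ideal.mul_mem_left _ _ rp))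
        (Ideal.mul_mem_left _ _ r1)) (Ideal.mul_mem_left _ _ r0)) (Ideal.mul_mem_left _ _ (q0 _)))
        (Ideal.mul_mem_left _ _ (q1 _))
  obtain ⟨d, hd, hdk⟩ := key (top p N)
  refine ⟨Polynomial.C (c.coeff 0) * d, by simpa [hd] using hc0, ?_⟩
  have hdk' := T_mono _ (show top p N ≤ top p N + 1 by omega) hdk
  have hC : (MvPolynomial.C a : MvPolynomial (Fin 2) R) * MvPolynomial.C (c.coeff 0) = 1 := by
    rw [← map_mul, ha, map_one]
  have e : c * ep (Polynomial.C (c.coeff 0) * d) - e0 (Polynomial.C (c.coeff 0) * d) * e1 (Polynomial.C (c.coeff 0) * d) =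
      (MvPolynomial.C (c.coeff 0) * MvPolynomial.C (c.coeff 0)) * (u * ep d - e0 d * e1 d) := by
    simp only [u, map_mul, Polynomial.aeval_C, MvPolynomial.algebraMap_eq]
    linear_combination -(c * MvPolynomial.C (c.coeff 0) * ep d) * hC
  rw [e]
  exact Ideal.mul_mem_left _ _ hdk'

end Groth.GaDual.SymCocycleTrunc
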