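import Groth.Agent.GaDual.AlphaPts
import Groth.Agent.GaDual.LineSplit
import Groth.Agent.GaDual.SymCocycleTrunc
import Groth.Agent.GaDual.GaSplit

/-!
`Ext¹(α_{p^n}, G_m) = 0` over rings with surjective Frobenius.
-/

set_option autoImplicit false
set_option backward.isDefEq.respectTransparency false
set_option linter.style.haveILetI false
set_option linter.unusedSectionVars false
set_option maxHeartbeats 1000000

universe u

open CategoryTheory MonoidalCategory CartesianMonoidalCategory MonObj AlgebraicGeometry Opposite Limits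
open Groth.PicAux Groth.GaDual.AlphaPts

noncomputable section

namespace Groth.GaDual.AlphaExt

attribute [local instance] algT

lemma exists_iter_root {A : Type u} [CommRing A] (p : ℕ) [Fact p.Prime] [CharP A p]
    (hF : Function.Surjective (frobenius A p)) (n : ℕ) (a : A) : ∃ b, b ^ p ^ n = a := by
  induction n generalizing a with
  | zero => exact ⟨a, by simp⟩
  | succ n ih =>
    obtain ⟨b, rfl⟩ := hF a
    obtain ⟨c, hc⟩ := ih b
    exact ⟨c, by rw [frobenius_def, pow_succ, pow_mul, hc]⟩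

variable (p : ℕ) [hp : Fact p.Prime] {R : Type u} [CommRing R] [CharP R p]
  (hF : Function.Surjective (frobenius R p)) (n : ℕ)

include hF in
lemma exists_root_mod_nil (a : AlphaPn.A p n R) : ∃ c, IsNilpotent (a - c ^ p ^ n) := by
  obtain ⟨f, rfl⟩ := AlphaPn.mk_surjective p n R a
  obtain ⟨r, hr⟩ := exists_iter_root p hF n (f.coeff 0)
  refine ⟨algebraMap R _ r, ?_⟩
  conv => arg 1; arg 1; rw [← Polynomial.X_mul_divX_add f]
  rw [map_add, map_mul, AlphaPn.mk_X, ← map_pow, hr, ← Polynomial.algebraMap_eq, AlgHom.commutes,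
    add_sub_cancel_right]
  exact (Commute.all _ _).isNilpotent_mul_right ⟨_, AlphaPn.x_pow p n R⟩

lemma exists_approx {X : Scheme.{u}} [IsAffine X] (q : ℕ) (hq : q ≠ 0)
    (hB : ∀ b : Γ(X, ⊤), ∃ c, IsNilpotent (b - c ^ q)) (f : Γ(X, ⊤)) (T : Γ(X, X.basicOpen f)) (hT : IsUnit T) :
    ∃ u : (Γ(X, X.basicOpen f))ˣ, IsNilpotent ((u : Γ(X, X.basicOpen f)) ^ q - T) := by
  obtain ⟨m, a, ha⟩ := LineSplit.exists_num f T
  obtain ⟨k, rfl⟩ : ∃ k, q = k + 1 := ⟨q - 1, by omega⟩
  obtain ⟨c, hc⟩ := hB (a * f ^ (m * k))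
  obtain ⟨w, hw⟩ : IsUnit (resX X (X.basicOpen_le f) f) := RingedSpace.isUnit_res_basicOpen _ f
  let u₀ : Γ(X, X.basicOpen f) := resX X (X.basicOpen_le f) c * ((w⁻¹) ^ m : (Γ(X, X.basicOpen f))ˣ).val
  have h2 : IsNilpotent (u₀ ^ (k + 1) - T) := by
    have h3 := hc.map (resX X (X.basicOpen_le f))
    rw [map_sub, map_mul, map_pow, map_pow, ha, ← hw, _root_.mul_assoc, ← pow_add, add_comm m, ← Nat.mul_succ] at h3
    have h5 : ((w⁻¹) ^ (m * (k + 1)) : (Γ(X, X.basicOpen f))ˣ).val * w.val ^ (m * (k + 1)) = 1 := by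
      rw [Units.val_pow_eq_pow_val, ← mul_pow, Units.inv_mul, one_pow]
    have h4 : u₀ ^ (k + 1) - T = -((w⁻¹) ^ (m * (k + 1)) : (Γ(X, X.basicOpen f))ˣ).val *
        (T * w.val ^ (m * (k + 1)) - resX X (X.basicOpen_le f) c ^ (k + 1)) := by
      simp only [u₀, mul_pow, ← pow_mul, Units.val_pow_eq_pow_val] at h5 ⊢
      linear_combination T * h5
    rw [h4]
    exact (Commute.all _ _).isNilpotent_mul_left h3
  have hu : IsUnit u₀ := by
    rw [← isUnit_pow_iff (Nat.succ_ne_zero k), ← sub_add_cancel (u₀ ^ (k + 1)) T, add_comm]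
    exact h2.isUnit_add_left_of_commute hT (Commute.all _ _)
  exact ⟨hu.unit, h2⟩

lemma natCast_eq_zero (T : Over (Spec (CommRingCat.of R))) : (p : Γ(T.left, ⊤)) = 0 := by
  rw [← map_natCast (cr T), CharP.cast_eq_zero, map_zero]

include hF in
theorem unitSplit_alpha : UnitSplit (p ^ n) (alphaPn p n R) := by
  haveI : IsAffine (alphaPn p n R).left := inferInstanceAs (IsAffine (Spec (CommRingCat.of (AlphaPn.A p n R))))
  refine LineSplit.unitSplit_of_roots p _ n (fun V => ?_) fun κ f _ T hT _ k =>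
    exists_approx (p ^ n) (pow_ne_zero n hp.out.ne_zero) (fun b => ?_) (f k) (T k) (hT k)
  · rw [← map_natCast (resX (alphaPn p n R).left (le_top : V ≤ ⊤)), natCast_eq_zero p (alphaPn p n R), map_zero]
  · let e : AlphaPn.A p n R ≃+* Γ((alphaPn p n R).left, ⊤) :=
      (Scheme.ΓSpecIso (CommRingCat.of (AlphaPn.A p n R))).symm.commRingCatIsoToRingEquiv
    obtain ⟨c, hc⟩ := exists_root_mod_nil p hF n (e.symm b)
    refine ⟨e c, ?_⟩
    have := hc.map e
    rwa [map_sub, map_pow, e.apply_symm_apply] at this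

lemma nsmul_eq_zero (T : Over (Spec (CommRingCat.of R)))
    (y : (CGrpSh.pts Scheme.fppfPrecoverage (alphaPn p n R)).obj.obj (op T)) : p ^ n • y = 0 := by
  have key : ∀ (m : ℕ) (z : (CGrpSh.pts Scheme.fppfPrecoverage (alphaPn p n R)).obj.obj (op T)),
      co p n (m • z).down.toMul = (m : Γ(T.left, ⊤)) * co p n z.down.toMul := by
    intro m z
    induction m with
    | zero =>
      rw [zero_nsmul, Nat.cast_zero, zero_mul]
      exact co_one p n
    | succ m ih =>
      rw [succ_nsmul]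
      show co p n ((m • z).down.toMul * z.down.toMul) = _
      rw [co_mul, ih, Nat.cast_succ, add_mul]
      simp
  refine ULift.ext _ _ (congrArg Additive.ofMul (co_injective p n ?_))
  show co p n (p ^ n • y).down.toMul = co p n (1 : T ⟶ alphaPn p n R)
  rw [key, co_one, Nat.cast_pow, natCast_eq_zero p T]
  rcases Nat.eq_zero_or_pos n with hn | hn
  · subst hn
    have := co_pow p 0 y.down.toMul
    simp only [pow_zero, pow_one] at this
    rw [this, mul_zero]
  · rw [zero_pow hn.ne', zero_mul]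

/-- Truncated polynomials. -/
abbrev Qm (m : ℕ) : Type u :=
  MvPolynomial (Fin m) R ⧸ SymCocycleTrunc.T (R := R) m (p ^ n) (SymCocycleTrunc.top p n)

lemma eval_T_eq_zero {m : ℕ} (hm : m ≤ 3) {B : Type u} [CommRing B] [Algebra R B] (v : Fin m → B)
    (hv : ∀ i, v i ^ p ^ n = 0) {F : MvPolynomial (Fin m) R}
    (hmem : F ∈ SymCocycleTrunc.T (R := R) m (p ^ n) (SymCocycleTrunc.top p n)) : MvPolynomial.aeval v F = 0 := by
  classical
  rw [F.as_sum, map_sum]
  refine Finset.sum_eq_zero fun d hd => ?_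
  rw [MvPolynomial.aeval_monomial, Finsupp.prod_fintype _ _ (fun i => pow_zero _)]
  by_cases h : ∀ i, d i < p ^ n
  · refine absurd (hmem d h ?_) (MvPolynomial.mem_support_iff.mp hd)
    rcases Nat.eq_zero_or_pos m with hm0 | hm0
    · subst hm0
      simp only [Finset.univ_eq_empty, Finset.sum_empty]
      exact Nat.mul_pos (by norm_num) (pow_pos hp.out.pos n)
    · haveI : Nonempty (Fin m) := ⟨⟨0, hm0⟩⟩
      have hlt : ∑ i, d i < ∑ _i : Fin m, p ^ n := Finset.sum_lt_sum_of_nonempty Finset.univ_nonempty fun i _ => h i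
      rw [Finset.sum_const, Finset.card_univ, Fintype.card_fin, smul_eq_mul] at hlt
      exact hlt.trans_le (Nat.mul_le_mul_right _ hm)
  · push Not at h
    obtain ⟨i, hi⟩ := h
    rw [Finset.prod_eq_zero (Finset.mem_univ i) (show v i ^ d i = 0 from pow_eq_zero_of_le hi (hv i)), mul_zero]

variable {E : BigSite.Ab Scheme.fppfPrecoverage (Spec (CommRingCat.of R))}
  (ιE : CGrpSh2.Gm Scheme.fppfPrecoverage (Spec (CommRingCat.of R)) ⟶ E)
  (πE : E ⟶ CGrpSh.pts Scheme.fppfPrecoverage (alphaPn p n R))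
  (hι : ∀ T : Over (Spec (CommRingCat.of R)), Function.Injective (ιE.hom.app (op T)))
  (hπι : ∀ (T : Over (Spec (CommRingCat.of R)))
    (h : (CGrpSh2.Gm Scheme.fppfPrecoverage (Spec (CommRingCat.of R))).obj.obj (op T)),
    πE.hom.app (op T) (ιE.hom.app (op T) h) = 0)
  (hker : ∀ (T : Over (Spec (CommRingCat.of R))) (x : E.obj.obj (op T)), πE.hom.app (op T) x = 0 →
    ∃ h, ιE.hom.app (op T) h = x)
  (hepi : Sheaf.IsLocallySurjective πE)

include hF hι hπι hker hepi in
/-- Extensions of `α_{p^n}` by `G_m` split over a semiperfect base. -/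
theorem exists_section : ∃ s : CGrpSh.pts Scheme.fppfPrecoverage (alphaPn p n R) ⟶ E, s ≫ πE = 𝟙 _ := by
  let G := alphaPn p n R
  obtain ⟨e, he⟩ := exists_lift_of_split G ιE πE hι hπι hker hepi (p ^ n) (nsmul_eq_zero p n)
    (unitSplit_alpha p hF n) (ULift.up (Additive.ofMul (𝟙 G)))
  let s₀ : ∀ T : Over (Spec (CommRingCat.of R)), (T ⟶ G) → E.obj.obj (op T) := fun T x => E.obj.map x.op e
  have hπs : ∀ (T : Over (Spec (CommRingCat.of R))) (x : T ⟶ G),
      πE.hom.app (op T) (s₀ T x) = ULift.up (Additive.ofMul x) := by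
    intro T x
    refine (ConcreteCategory.congr_hom (πE.hom.naturality x.op) e).trans ?_
    refine (congrArg (fun q => (CGrpSh.pts Scheme.fppfPrecoverage G).obj.map x.op q) he).trans ?_
    exact ULift.ext _ _ (congrArg Additive.ofMul (Category.comp_id x))
  obtain ⟨h₀, hh₀⟩ := hker (G ⊗ G)
    (s₀ _ (fst G G * snd G G) - (s₀ _ (fst G G) + s₀ _ (snd G G))) (by
    rw [map_sub, map_add, hπs, hπs, hπs]
    exact sub_self _)
  let cc : ∀ (T : Over (Spec (CommRingCat.of R))), (T ⟶ G) → (T ⟶ G) →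
      (CGrpSh2.Gm Scheme.fppfPrecoverage (Spec (CommRingCat.of R))).obj.obj (op T) := fun T x y =>
    (CGrpSh2.Gm Scheme.fppfPrecoverage (Spec (CommRingCat.of R))).obj.map (lift x y).op h₀
  have hc : ∀ (T : Over (Spec (CommRingCat.of R))) (x y : T ⟶ G),
      s₀ T (x * y) = s₀ T x + s₀ T y + ιE.hom.app (op T) (cc T x y) := by
    intro T x y
    have h2 : ιE.hom.app (op T) (cc T x y) = E.obj.map (lift x y).op (ιE.hom.app (op (G ⊗ G)) h₀) :=
      ConcreteCategory.congr_hom (ιE.hom.naturality (lift x y).op) h₀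
    rw [h2, hh₀, map_sub, map_add]
    simp only [s₀, Groth.AbSchBiext.map_map, MonObj.comp_mul, lift_fst, lift_snd]
    abel
  have hcr : ∀ (m : ℕ) (r : R), cr (specQ (R := R) (Qm p (R := R) n m)) r =
      toF (R := R) (algebraMap R (Qm p (R := R) n m) r) := by
    intro m r
    show ((Scheme.ΓSpecIso (CommRingCat.of R)).inv ≫
      (Spec.map (CommRingCat.ofHom (algebraMap R (Qm p (R := R) n m)))).appTop) r = _
    rw [← Scheme.ΓSpecIso_inv_naturality]
    rfl
  let gen : ∀ (m : ℕ) (a : Qm p (R := R) n m), a ^ p ^ n = 0 → (specQ (R := R) (Qm p (R := R) n m) ⟶ G) :=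
    fun m a ha => mkPt p n (toF (R := R) a) (((map_pow (Scheme.ΓSpecIso (CommRingCat.of (Qm p (R := R) n m))).inv.hom a
      (p ^ n)).symm.trans (congrArg _ ha)).trans (map_zero (Scheme.ΓSpecIso (CommRingCat.of (Qm p (R := R) n m))).inv.hom))
  have hX : ∀ (m : ℕ) (i : Fin m),
      (Ideal.Quotient.mk _ (MvPolynomial.X i) : Qm p (R := R) n m) ^ p ^ n = 0 := fun m i => by
    rw [← map_pow, Ideal.Quotient.eq_zero_iff_mem]
    exact SymCocycleTrunc.X_pow_q_mem_T _ i _
  have hadd : ∀ (m : ℕ) (a b : Qm p (R := R) n m), a ^ p ^ n = 0 → b ^ p ^ n = 0 → (a + b) ^ p ^ n = 0 :=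
    fun m a b ha hb => AlphaPn.add_pow_eq_zero p n R (Commute.all a b) ha hb
  have hgen : ∀ (m : ℕ) (a b : Qm p (R := R) n m) (ha : a ^ p ^ n = 0) (hb : b ^ p ^ n = 0),
      gen m a ha * gen m b hb = gen m (a + b) (hadd m a b ha hb) := fun m a b ha hb =>
    co_injective p n (by rw [co_mul, co_mkPt, co_mkPt, co_mkPt]; exact (map_add _ a b).symm)
  let p2 : specQ (R := R) (Qm p (R := R) n 2) ⟶ G ⊗ G := lift (gen 2 _ (hX 2 0)) (gen 2 _ (hX 2 1))
  obtain ⟨c, hc'⟩ := Ideal.Quotient.mk_surjective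
    (I := SymCocycleTrunc.T (R := R) 2 (p ^ n) (SymCocycleTrunc.top p n))
    ((Scheme.ΓSpecIso (CommRingCat.of (Qm p (R := R) n 2))).hom (Red.gmFn (p2 ≫ h₀.down.toMul)))
  have hc0 : IsUnit (c.coeff 0) := by
    have hu : IsUnit (Ideal.Quotient.mk (SymCocycleTrunc.T (R := R) 2 (p ^ n) (SymCocycleTrunc.top p n)) c) := by
      rw [hc']
      exact (Reductive.isUnit_gmFn (p2 ≫ h₀.down.toMul)).map
        (Scheme.ΓSpecIso (CommRingCat.of (Qm p (R := R) n 2))).hom.hom
    let ev0 : Qm p (R := R) n 2 →ₐ[R] R := Ideal.Quotient.liftₐ _ (MvPolynomial.aeval fun _ => (0 : R))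
      fun F hFm => eval_T_eq_zero p n (by norm_num) _ (fun _ => zero_pow (pow_ne_zero n hp.out.ne_zero)) hFm
    have h := hu.map ev0
    change IsUnit ((MvPolynomial.aeval fun _ : Fin 2 => (0 : R)) c) at h
    simpa [MvPolynomial.constantCoeff_eq] using h
  have hp2 : toF (R := R) (Ideal.Quotient.mk _ c) = Red.gmFn (p2 ≫ h₀.down.toMul) := by
    rw [hc']
    exact congr($((Scheme.ΓSpecIso (CommRingCat.of (Qm p (R := R) n 2))).hom_inv_id) _)
  have hval : ∀ (T : Over (Spec (CommRingCat.of R))) (x y : T ⟶ G),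
      Red.gmFn (cc T x y).down.toMul = MvPolynomial.aeval ![co p n x, co p n y] c := by
    intro T x y
    show Red.gmFn (lift x y ≫ h₀.down.toMul) = _
    let ρ : Qm p (R := R) n 2 →ₐ[R] Γ(T.left, ⊤) := Ideal.Quotient.liftₐ _ (MvPolynomial.aeval ![co p n x, co p n y])
      fun F hFm => eval_T_eq_zero p n (by norm_num) _ (fun i => by fin_cases i <;> exact co_pow p n _) hFm
    have hlp : toSpecAlg ρ ≫ p2 = lift x y := by
      rw [comp_lift]
      congr 1 <;> refine co_injective p n ?_ <;> rw [co_comp, co_mkPt, toSpecAlg_appTop] <;>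
        exact MvPolynomial.aeval_X _ _
    rw [← hlp, Category.assoc, Reductive.gmFn_comp, ← hp2, toSpecAlg_appTop]
    rfl
  have hmul : ∀ (T : Over (Spec (CommRingCat.of R)))
      (a b : (CGrpSh2.Gm Scheme.fppfPrecoverage (Spec (CommRingCat.of R))).obj.obj (op T)),
      Red.gmFn (a + b).down.toMul = Red.gmFn a.down.toMul * Red.gmFn b.down.toMul := fun T a b =>
    Reductive.gmFn_mul a.down.toMul b.down.toMul
  have hev : ∀ (m : ℕ) (P P' : MvPolynomial (Fin m) R) (hP : (Ideal.Quotient.mk _ P : Qm p (R := R) n m) ^ p ^ n = 0)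
      (hP' : (Ideal.Quotient.mk _ P' : Qm p (R := R) n m) ^ p ^ n = 0),
      Red.gmFn (cc _ (gen m _ hP) (gen m _ hP')).down.toMul =
        toF (R := R) (Ideal.Quotient.mk _ (MvPolynomial.aeval ![P, P'] c) : Qm p (R := R) n m) := by
    intro m P P' hP hP'
    rw [hval, co_mkPt, co_mkPt]
    let θ : MvPolynomial (Fin m) R →ₐ[R] Γ((specQ (R := R) (Qm p (R := R) n m)).left, ⊤) :=
      { toRingHom := (Scheme.ΓSpecIso (CommRingCat.of (Qm p (R := R) n m))).inv.hom.comp (Ideal.Quotient.mk _)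
        commutes' := fun r => (hcr m r).symm }
    refine Eq.trans ?_ (AlgHom.congr_fun (MvPolynomial.comp_aeval (R := R) ![P, P'] θ) c).symm
    refine congrArg (fun v => MvPolynomial.aeval v c) (funext fun i => ?_)
    fin_cases i <;> rfl
  have hinj : ∀ (m : ℕ), Function.Injective (toF (R := R) : Qm p (R := R) n m → _) := fun m a b h =>
    (Scheme.ΓSpecIso (CommRingCat.of (Qm p (R := R) n m))).symm.commRingCatIsoToRingEquiv.injective h
  have hMC : SymCocycleTrunc.IsMC p n c := by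
    unfold SymCocycleTrunc.IsMC
    simp only [← Ideal.Quotient.eq_zero_iff_mem, map_sub, sub_eq_zero]
    refine ⟨hinj 2 ?_, hinj 3 ?_⟩
    · have h : cc _ (gen 2 _ (hX 2 1)) (gen 2 _ (hX 2 0)) = cc _ (gen 2 _ (hX 2 0)) (gen 2 _ (hX 2 1)) := by
        refine hι _ ?_
        have h1 := hc _ (gen 2 _ (hX 2 1)) (gen 2 _ (hX 2 0))
        have h2 := hc _ (gen 2 _ (hX 2 0)) (gen 2 _ (hX 2 1))
        have hcomm : gen 2 _ (hX 2 1) * gen 2 _ (hX 2 0) = gen 2 _ (hX 2 0) * gen 2 _ (hX 2 1) :=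
          co_injective p n (by rw [co_mul, co_mul, add_comm])
        rw [hcomm, h2, add_comm (s₀ _ (gen 2 _ (hX 2 1))) (s₀ _ (gen 2 _ (hX 2 0)))] at h1
        exact (add_left_cancel h1).symm
      have h' := congrArg (fun a => Red.gmFn a.down.toMul) h
      rw [← hev 2 (MvPolynomial.X 1) (MvPolynomial.X 0) (hX 2 1) (hX 2 0)]
      refine h'.trans ?_
      rw [hev]
      refine congrArg (fun a => toF (R := R) (Ideal.Quotient.mk _ a : Qm p (R := R) n 2)) ?_
      rw [show (![MvPolynomial.X 0, MvPolynomial.X 1] : Fin 2 → MvPolynomial (Fin 2) R) = MvPolynomial.X from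
        funext fun i => by fin_cases i <;> rfl, MvPolynomial.aeval_X_left_apply]
      all_goals exact hX 2 _
    · let x := gen 3 _ (hX 3 0)
      let y := gen 3 _ (hX 3 1)
      let z := gen 3 _ (hX 3 2)
      have h : cc _ x (y * z) + cc _ y z = cc _ (x * y) z + cc _ x y := by
        refine hι _ ?_
        rw [map_add, map_add]
        have h1 := hc _ x (y * z)
        rw [hc _ y z, ← _root_.mul_assoc, hc _ (x * y) z, hc _ x y] at h1
        refine add_left_cancel (a := s₀ _ x + s₀ _ y + s₀ _ z) ?_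
        convert h1.symm using 1 <;> abel
      have h' := congrArg (fun a => Red.gmFn a.down.toMul) h
      have hyz : y * z = gen 3 (Ideal.Quotient.mk _ (MvPolynomial.X 1 + MvPolynomial.X 2))
          (by rw [map_add]; exact hadd 3 _ _ (hX 3 1) (hX 3 2)) := by
        refine co_injective p n ?_
        rw [co_mul, co_mkPt, co_mkPt, co_mkPt]
        exact (map_add ((Scheme.ΓSpecIso (CommRingCat.of (Qm p (R := R) n 3))).inv.hom.comp (Ideal.Quotient.mk _)) _ _).symm
      have hxy : x * y = gen 3 (Ideal.Quotient.mk _ (MvPolynomial.X 0 + MvPolynomial.X 1))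
          (by rw [map_add]; exact hadd 3 _ _ (hX 3 0) (hX 3 1)) := by
        refine co_injective p n ?_
        rw [co_mul, co_mkPt, co_mkPt, co_mkPt]
        exact (map_add ((Scheme.ΓSpecIso (CommRingCat.of (Qm p (R := R) n 3))).inv.hom.comp (Ideal.Quotient.mk _)) _ _).symm
      have h'' := (hmul _ _ _).symm.trans (h'.trans (hmul _ _ _))
      rw [hyz, hxy, hev, hev, hev, hev] at h''
      rotate_left
      all_goals try first | exact hX 3 _ | (rw [map_add]; exact hadd 3 _ _ (hX 3 _) (hX 3 _))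
      refine (congrArg _ (map_mul (Ideal.Quotient.mk _) _ _)).trans ?_
      refine Eq.trans ?_ (congrArg _ (map_mul (Ideal.Quotient.mk _) _ _)).symm
      exact ((map_mul (Scheme.ΓSpecIso (CommRingCat.of (Qm p (R := R) n 3))).inv.hom _ _).trans h'').trans
        (map_mul (Scheme.ΓSpecIso (CommRingCat.of (Qm p (R := R) n 3))).inv.hom _ _).symm
  obtain ⟨d, hd, hdc⟩ := SymCocycleTrunc.exists_poly_trunc p n hF hc0 hMC
  have hdu : ∀ (T : Over (Spec (CommRingCat.of R))) (x : T ⟶ G), IsUnit (Polynomial.aeval (co p n x) d) := by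
    intro T x
    conv => arg 1; rw [← Polynomial.X_mul_divX_add d]
    rw [map_add, map_mul, Polynomial.aeval_X, Polynomial.aeval_C]
    exact IsNilpotent.isUnit_add_right_of_commute ((Commute.all _ _).isNilpotent_mul_right ⟨_, co_pow p n x⟩)
      (hd.map _) (Commute.all _ _)
  let κ : ∀ (T : Over (Spec (CommRingCat.of R))), (T ⟶ G) →
      (CGrpSh2.Gm Scheme.fppfPrecoverage (Spec (CommRingCat.of R))).obj.obj (op T) := fun T x =>
    ULift.up (Additive.ofMul (Reductive.gmMk T (hdu T x).unit))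
  have hκ : ∀ (T : Over (Spec (CommRingCat.of R))) (x : T ⟶ G),
      Red.gmFn (κ T x).down.toMul = Polynomial.aeval (co p n x) d := fun T x =>
    (Reductive.gmFn_gmMk _).trans (IsUnit.unit_spec _)
  have hκadd : ∀ (T : Over (Spec (CommRingCat.of R))) (x y : T ⟶ G),
      κ T (x * y) + cc T x y = κ T x + κ T y := by
    intro T x y
    refine ULift.ext _ _ (congrArg Additive.ofMul (Reductive.gmFn_injective ?_))
    show Red.gmFn (κ T (x * y) + cc T x y).down.toMul = Red.gmFn (κ T x + κ T y).down.toMul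
    rw [hmul, hmul, hκ, hκ, hκ, hval, co_mul, mul_comm]
    have h := eval_T_eq_zero p n (by norm_num) ![co p n x, co p n y]
      (fun i => by fin_cases i <;> exact co_pow p n _) hdc
    simp only [map_sub, map_mul, sub_eq_zero, ← Polynomial.aeval_algHom_apply, map_add, MvPolynomial.aeval_X] at h
    exact h
  refine ⟨ObjectProperty.homMk
    { app := fun T => AddCommGrpCat.ofHom (AddMonoidHom.mk'
        (fun z => s₀ (unop T) z.down.toMul + ιE.hom.app T (κ (unop T) z.down.toMul)) fun z z' => ?_)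
      naturality := fun T T' m => AddCommGrpCat.ext fun z => ?_ }, ?_⟩
  · show s₀ (unop T) (z.down.toMul * z'.down.toMul) +
      ιE.hom.app (op (unop T)) (κ (unop T) (z.down.toMul * z'.down.toMul)) = _
    rw [hc, add_assoc (s₀ _ _ + s₀ _ _), ← map_add, add_comm (cc _ _ _), hκadd, map_add]
    show _ + (ιE.hom.app T (κ (unop T) z.down.toMul) + ιE.hom.app T (κ (unop T) z'.down.toMul)) = _
    abel
  · show E.obj.map (m.unop ≫ z.down.toMul).op e + ιE.hom.app T' (κ (unop T') (m.unop ≫ z.down.toMul)) =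
      E.obj.map m (E.obj.map z.down.toMul.op e + ιE.hom.app T (κ (unop T) z.down.toMul))
    rw [map_add, show E.obj.map m (ιE.hom.app T (κ (unop T) z.down.toMul)) =
      ιE.hom.app T' ((CGrpSh2.Gm Scheme.fppfPrecoverage (Spec (CommRingCat.of R))).obj.map m
        (κ (unop T) z.down.toMul)) from
      (ConcreteCategory.congr_hom (ιE.hom.naturality m) _).symm]
    refine congrArg₂ (· + ·) (Groth.AbSchBiext.map_map E.obj z.down.toMul m.unop e).symm
      (congrArg (fun w => ιE.hom.app T' w) ?_)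
    refine ULift.ext _ _ (congrArg Additive.ofMul (Reductive.gmFn_injective ?_))
    show Red.gmFn (κ (unop T') (m.unop ≫ z.down.toMul)).down.toMul =
      Red.gmFn (m.unop ≫ (κ (unop T) z.down.toMul).down.toMul)
    rw [hκ, Reductive.gmFn_comp, hκ, Polynomial.aeval_def, Polynomial.aeval_def, Polynomial.hom_eval₂, co_comp]
    exact congrArg (fun f => Polynomial.eval₂ f _ d) (cr_comp m.unop).symm
  · refine Sheaf.hom_ext (NatTrans.ext (funext fun T => AddCommGrpCat.ext fun z => ?_))
    show πE.hom.app T (s₀ (unop T) z.down.toMul + ιE.hom.app T (κ (unop T) z.down.toMul)) = z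
    rw [map_add]
    refine (congrArg₂ (· + ·) (hπs (unop T) _) (hπι (unop T) _)).trans ?_
    exact add_zero _

include hF in
/-- `Ext¹(α_{p^n}, G_m) = 0` over a semiperfect base. -/
theorem subsingleton_ext_one :
    Subsingleton (Abelian.Ext (CGrpSh.pts Scheme.fppfPrecoverage (alphaPn p n R))
      (CGrpSh2.Gm Scheme.fppfPrecoverage (Spec (CommRingCat.of R))) 1) :=
  GaSplit.subsingleton_ext_one_of_split fun _ ιE πE hι hπι hker hepi =>
    exists_section p hF n ιE πE hι hπι hker hepi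

end Groth.GaDual.AlphaExt
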