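import Groth.Prelude.Def_AlphaPn
import Mathlib.AlgebraicGeometry.Group.Affine
import Mathlib.AlgebraicGeometry.GammaSpecAdjunction

/-!
Points of `α_{p^n}` as nilpotent functions.
-/

set_option autoImplicit false
set_option backward.isDefEq.respectTransparency false
set_option linter.unusedSectionVars false

universe u

open CategoryTheory MonoidalCategory CartesianMonoidalCategory MonObj AlgebraicGeometry

noncomputable section

namespace Groth.GaDual.AlphaPts

variable {R : Type u} [CommRing R]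

/-- The constants on an object over `Spec R`. -/
def cr (T : Over (Spec (CommRingCat.of R))) : R →+* Γ(T.left, ⊤) :=
  ((Scheme.ΓSpecIso (CommRingCat.of R)).inv ≫ T.hom.appTop).hom

/-- Functions as an algebra over the base. -/
@[instance_reducible]
def algT (T : Over (Spec (CommRingCat.of R))) : Algebra R Γ(T.left, ⊤) := (cr T).toAlgebra

attribute [local instance] algT

lemma cr_comp {T T' : Over (Spec (CommRingCat.of R))} (h : T' ⟶ T) :
    h.left.appTop.hom.comp (cr T) = cr T' := by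
  rw [cr, cr, ← CommRingCat.hom_comp, Category.assoc, ← Scheme.Hom.comp_appTop, Over.w h]

variable (Q : Type u) [CommRing Q] [Algebra R Q]

/-- The spectrum of an algebra over the base. -/
abbrev specQ : Over (Spec (CommRingCat.of R)) := (Spec (CommRingCat.of Q)).asOver (Spec (CommRingCat.of R))

variable {Q}

/-- The canonical morphism to the spectrum of global functions. -/
def toSp (T : Over (Spec (CommRingCat.of R))) : T ⟶ specQ (R := R) Γ(T.left, ⊤) :=
  Over.homMk T.left.toSpecΓ (by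
    show T.left.toSpecΓ ≫ Spec.map (CommRingCat.ofHom (cr T)) = T.hom
    rw [cr, CommRingCat.ofHom_hom, Spec.map_comp, ← Scheme.toSpecΓ_naturality_assoc, ← SpecMap_ΓSpecIso_hom,
      ← Spec.map_comp, Iso.inv_hom_id, Spec.map_id, Category.comp_id])

/-- The morphism of an algebra map. -/
def toSpecAlg {T : Over (Spec (CommRingCat.of R))} (ρ : Q →ₐ[R] Γ(T.left, ⊤)) : T ⟶ specQ (R := R) Q :=
  toSp T ≫ Over.homMk (Spec.map (CommRingCat.ofHom ρ.toRingHom)) (by
    show Spec.map _ ≫ Spec.map (CommRingCat.ofHom (algebraMap R Q)) = Spec.map (CommRingCat.ofHom (cr T))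
    rw [← Spec.map_comp, ← CommRingCat.ofHom_comp]
    exact congrArg (fun f => Spec.map (CommRingCat.ofHom f)) (AlgHom.comp_algebraMap ρ))

/-- An element of the algebra as a function on the spectrum. -/
abbrev toF (c : Q) : Γ((specQ (R := R) Q).left, ⊤) := (Scheme.ΓSpecIso (CommRingCat.of Q)).inv c

lemma toSpecAlg_left {T : Over (Spec (CommRingCat.of R))} (ρ : Q →ₐ[R] Γ(T.left, ⊤)) :
    (toSpecAlg ρ).left = T.left.toSpecΓ ≫ Spec.map (CommRingCat.ofHom ρ.toRingHom) := rfl

lemma toSpecAlg_appTop {T : Over (Spec (CommRingCat.of R))} (ρ : Q →ₐ[R] Γ(T.left, ⊤)) (c : Q) :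
    (toSpecAlg ρ).left.appTop (toF (R := R) c) = ρ c := by
  rw [toSpecAlg_left]
  show ((Scheme.ΓSpecIso (CommRingCat.of Q)).inv ≫
    (T.left.toSpecΓ ≫ Spec.map (CommRingCat.ofHom ρ.toRingHom)).appTop) c = ρ c
  rw [Scheme.Hom.comp_appTop, Scheme.toSpecΓ_appTop, ← Category.assoc, ← Scheme.ΓSpecIso_inv_naturality,
    Category.assoc, Iso.inv_hom_id, Category.comp_id]
  rfl

/-- The comorphism of a morphism to a spectrum. -/
def valAlg {T : Over (Spec (CommRingCat.of R))} (x : T ⟶ specQ (R := R) Q) : Q →ₐ[R] Γ(T.left, ⊤) where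
  toRingHom := ((Scheme.ΓSpecIso (CommRingCat.of Q)).inv ≫ x.left.appTop).hom
  commutes' r := by
    show ((Scheme.ΓSpecIso (CommRingCat.of Q)).inv ≫ x.left.appTop) (CommRingCat.ofHom (algebraMap R Q) r) = cr T r
    rw [← CommRingCat.comp_apply, ← Category.assoc, Scheme.ΓSpecIso_inv_naturality, Category.assoc,
      ← Scheme.Hom.comp_appTop]
    have e := Over.w x
    exact congrArg (fun f => ((Scheme.ΓSpecIso (CommRingCat.of R)).inv ≫ Scheme.Hom.appTop f) r) e

lemma toSpecAlg_valAlg {T : Over (Spec (CommRingCat.of R))} (x : T ⟶ specQ (R := R) Q) :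
    toSpecAlg (valAlg x) = x := by
  refine Over.OverMorphism.ext ?_
  rw [toSpecAlg_left]
  show T.left.toSpecΓ ≫ Spec.map (_ ≫ _) = _
  rw [Spec.map_comp, ← Scheme.toSpecΓ_naturality_assoc]
  show x.left ≫ (Spec (CommRingCat.of Q)).toSpecΓ ≫ Spec.map (Scheme.ΓSpecIso (CommRingCat.of Q)).inv = _
  rw [← SpecMap_ΓSpecIso_hom, ← Spec.map_comp, Iso.inv_hom_id, Spec.map_id]
  exact Category.comp_id x.left

lemma valAlg_toSpecAlg {T : Over (Spec (CommRingCat.of R))} (ρ : Q →ₐ[R] Γ(T.left, ⊤)) :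
    valAlg (toSpecAlg ρ) = ρ :=
  AlgHom.ext (toSpecAlg_appTop ρ)


variable (p : ℕ) [hp : Fact p.Prime] (n : ℕ) [CharP R p]

/-- `α_{p^n}` over `Spec R`. -/
abbrev alphaPn (R : Type u) [CommRing R] [CharP R p] : Over (Spec (CommRingCat.of R)) :=
  specQ (R := R) (AlphaPn.A p n R)

/-- The coordinate of a point. -/
def co {T : Over (Spec (CommRingCat.of R))} (x : T ⟶ alphaPn p n R) : Γ(T.left, ⊤) :=
  valAlg x (AlphaPn.x p n R)

lemma co_pow {T : Over (Spec (CommRingCat.of R))} (x : T ⟶ alphaPn p n R) : co p n x ^ p ^ n = 0 := by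
  rw [co, ← map_pow, AlphaPn.x_pow, map_zero]

lemma co_injective {T : Over (Spec (CommRingCat.of R))} {x y : T ⟶ alphaPn p n R} (h : co p n x = co p n y) :
    x = y := by
  rw [← toSpecAlg_valAlg x, ← toSpecAlg_valAlg y]
  exact congrArg toSpecAlg (AlphaPn.algHom_ext h)

/-- The point with given coordinate. -/
def mkPt {T : Over (Spec (CommRingCat.of R))} (a : Γ(T.left, ⊤)) (ha : a ^ p ^ n = 0) : T ⟶ alphaPn p n R :=
  toSpecAlg (AlphaPn.lift p n R a ha)

lemma co_mkPt {T : Over (Spec (CommRingCat.of R))} (a : Γ(T.left, ⊤)) (ha : a ^ p ^ n = 0) :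
    co p n (mkPt p n a ha) = a := by
  rw [co, mkPt, valAlg_toSpecAlg, AlphaPn.lift_x]

lemma co_comp {T T' : Over (Spec (CommRingCat.of R))} (g : T' ⟶ T) (x : T ⟶ alphaPn p n R) :
    co p n (g ≫ x) = g.left.appTop (co p n x) := rfl

lemma toSpecAlg_eq {T : Over (Spec (CommRingCat.of R))} (ρ : AlphaPn.A p n R →ₐ[R] Γ(T.left, ⊤)) :
    toSpecAlg ρ = toSp T ≫ Spec.mapMulEquiv (WithConv.toConv ρ) := rfl

lemma co_mul {T : Over (Spec (CommRingCat.of R))} (x y : T ⟶ alphaPn p n R) :
    co p n (x * y) = co p n x + co p n y := by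
  have h : valAlg (x * y) = (WithConv.toConv (valAlg x) * WithConv.toConv (valAlg y)).ofConv := by
    conv_lhs => rw [← toSpecAlg_valAlg x, ← toSpecAlg_valAlg y, toSpecAlg_eq, toSpecAlg_eq, ← MonObj.comp_mul,
      ← map_mul]
    exact valAlg_toSpecAlg (WithConv.toConv (valAlg x) * WithConv.toConv (valAlg y)).ofConv
  rw [co, h, AlgHom.convMul_def]
  simp [co]

lemma co_one {T : Over (Spec (CommRingCat.of R))} : co p n (1 : T ⟶ alphaPn p n R) = 0 := by
  have h := co_mul p n (1 : T ⟶ alphaPn p n R) 1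
  rw [show (1 : T ⟶ alphaPn p n R) * 1 = 1 from (_root_.mul_one (M := (T ⟶ alphaPn p n R)) 1)] at h
  simpa using h

end Groth.GaDual.AlphaPts
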