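import Groth.Prelude.Def_CGrpSh2
import Groth.Agent.Reductive.Points
import Groth.Agent.GrpschAbsch.GaGm
import Groth.Agent.MiscGeom.CechCohom
import Groth.Agent.MiscGeom.AdeqOps

/-!
Vanishing of the higher fppf cohomology of the additive group on affine schemes.
-/

set_option autoImplicit false
set_option backward.isDefEq.respectTransparency false

universe u

open CategoryTheory MonoidalCategory CartesianMonoidalCategory MonObj GrpObj AlgebraicGeometry Opposite
open Adeq Groth.MiscGeom.Adq Groth.MiscGeom.Adq.Cech
open scoped TensorProduct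

noncomputable section

namespace Groth.GaDual

variable {S : Scheme.{u}} {R : CommRingCat.{u}} (a : Spec R ⟶ S)

/-- `R` as a module, one universe up. -/
abbrev liftR (R : CommRingCat.{u}) : ModuleCat.{u + 1} R := ModuleCat.of R (ULift.{u + 1} R)

/-- `B ⊗ R = B`. -/
def unitEquiv (B : Alg R) : (B : Type u) ⊗[R] (liftR R : Type (u + 1)) ≃ₗ[R] (B : Type u) :=
  (TensorProduct.congr (LinearEquiv.refl R (B : Type u)) ULift.moduleEquiv).trans
    (TensorProduct.rid R (B : Type u))

/-- The coordinate of a point of `Ga` on an affine object. -/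
def coord (B : Alg R) (x : (specOver a).obj (op B) ⟶ Red.Ga S) : (B : Type u) :=
  (Scheme.ΓSpecIso (CommRingCat.of B)).hom (Red.gaFn x)

lemma coord_mul (B : Alg R) (x y : (specOver a).obj (op B) ⟶ Red.Ga S) :
    coord a B (x * y) = coord a B x + coord a B y := by
  rw [coord, Reductive.gaFn_mul]
  exact map_add (Scheme.ΓSpecIso (CommRingCat.of B)).hom.hom (Red.gaFn x) (Red.gaFn y)

lemma coord_map {B B' : Alg R} (f : B ⟶ B') (x : (specOver a).obj (op B) ⟶ Red.Ga S) :
    coord a B' ((specOver a).map f.op ≫ x) = f.hom (coord a B x) := by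
  rw [coord, Reductive.gaFn_comp]
  exact ConcreteCategory.congr_hom (Scheme.ΓSpecIso_naturality (CommRingCat.ofHom f.hom.toRingHom))
    (Red.gaFn x)

/-- The point with given coordinate. -/
def ofCoord (B : Alg R) (b : (B : Type u)) : (specOver a).obj (op B) ⟶ Red.Ga S :=
  Reductive.gaMk _ ((Scheme.ΓSpecIso (CommRingCat.of B)).inv b)

lemma coord_ofCoord (B : Alg R) (b : (B : Type u)) : coord a B (ofCoord a B b) = b := by
  rw [coord, ofCoord, Reductive.gaFn_gaMk]
  exact congr($((Scheme.ΓSpecIso (CommRingCat.of B)).inv_hom_id) b)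

lemma coord_injective (B : Alg R) : Function.Injective (coord a B) := fun x y h =>
  Reductive.gaFn_injective
    ((Scheme.ΓSpecIso (CommRingCat.of B)).commRingCatIsoToRingEquiv.injective h)

lemma ofCoord_add (B : Alg R) (b b' : (B : Type u)) :
    ofCoord a B (b + b') = ofCoord a B b * ofCoord a B b' :=
  coord_injective a B (by rw [coord_mul, coord_ofCoord, coord_ofCoord, coord_ofCoord])

lemma ofCoord_map {B B' : Alg R} (f : B ⟶ B') (b : (B : Type u)) :
    (specOver a).map f.op ≫ ofCoord a B b = ofCoord a B' (f.hom b) :=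
  coord_injective a B' (by rw [coord_map, coord_ofCoord, coord_ofCoord])

lemma unitEquiv_map {B B' : Alg R} (f : B ⟶ B') (z : (B : Type u) ⊗[R] (liftR R : Type (u + 1))) :
    unitEquiv B' (f.hom.toLinearMap.rTensor _ z) = f.hom (unitEquiv B z) := by
  induction z using TensorProduct.induction_on with
  | zero => simp
  | tmul b m => simp [unitEquiv]
  | add x y hx hy => rw [map_add, map_add, map_add, map_add, hx, hy]

/-- Points of `Ga` on affine objects as the module valued functor of `R`. -/
def toUnderline : affF a (CGrpSh.ptsPre (Red.Ga S)) ⟶ abF ((underline R).obj (liftR R)) where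
  app B := AddCommGrpCat.ofHom (AddMonoidHom.mk'
    (fun x => (unitEquiv B).symm (coord a B x.down.toMul)) fun x y =>
      (congrArg (unitEquiv B).symm (coord_mul a B x.down.toMul y.down.toMul)).trans
        (map_add (unitEquiv B).symm _ _))
  naturality B B' f := AddCommGrpCat.ext fun x => (unitEquiv B').injective (by
    change unitEquiv B' ((unitEquiv B').symm (coord a B' ((specOver a).map f.op ≫ x.down.toMul))) =
      unitEquiv B' (f.hom.toLinearMap.rTensor _ ((unitEquiv B).symm (coord a B x.down.toMul)))
    rw [LinearEquiv.apply_symm_apply, unitEquiv_map, LinearEquiv.apply_symm_apply, coord_map])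

/-- The inverse of `toUnderline`. -/
def ofUnderline : abF ((underline R).obj (liftR R)) ⟶ affF a (CGrpSh.ptsPre (Red.Ga S)) where
  app B := AddCommGrpCat.ofHom (AddMonoidHom.mk'
    (fun z => ULift.up (Additive.ofMul (ofCoord a B (unitEquiv B z)))) fun z w =>
      ULift.ext _ _ (congrArg Additive.ofMul
        ((congrArg (ofCoord a B) (map_add (unitEquiv B) z w)).trans (ofCoord_add a B _ _))))
  naturality B B' f := AddCommGrpCat.ext fun z => ULift.ext _ _ (congrArg Additive.ofMul (by
    change ofCoord a B' (unitEquiv B' (f.hom.toLinearMap.rTensor _ z)) =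
      (specOver a).map f.op ≫ ofCoord a B (unitEquiv B z)
    rw [unitEquiv_map, ofCoord_map]))

variable (S) in
/-- The additive group is Čech acyclic on the big fppf site. -/
theorem cechAcyclic_Ga :
    CechAcyclic (@Flat ⊓ @LocallyOfFinitePresentation) (CGrpSh2.Ga Scheme.fppfPrecoverage S).obj := by
  intro R a V hV hs n
  haveI : BigSite.OSh (Scheme.precoverage (@Flat ⊓ @LocallyOfFinitePresentation : MorphismProperty Scheme.{u})) :=
    inferInstanceAs (BigSite.OSh Scheme.fppfPrecoverage.{u})
  haveI := faithfullyFlat_of_cover goodProp_fppf V hV hs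
  refine isExact_retract (toUnderline a) (ofUnderline a) (fun B x => ?_)
    (isExact_adequate (V : Type u) n (adequate_U _))
  refine ULift.ext _ _ (congrArg Additive.ofMul (coord_injective a B ?_))
  change coord a B (ofCoord a B (unitEquiv B ((unitEquiv B).symm (coord a B x.down.toMul)))) =
    coord a B x.down.toMul
  rw [LinearEquiv.apply_symm_apply, coord_ofCoord]

/-- `H^i_fppf(X, G_a) = 0` for `i > 0` and affine `X`. -/
theorem subsingleton_H_Ga (X : Scheme.{u}) [IsAffine X] (i : ℕ) (hi : 0 < i) :
    Subsingleton (BigSite.H Scheme.fppfPrecoverage X (CGrpSh2.Ga Scheme.fppfPrecoverage X) i) := by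
  obtain ⟨q, rfl⟩ := Nat.exists_eq_succ_of_ne_zero hi.ne'
  exact Groth.MiscGeom.Adq.Cech.subsingleton_H (P := @Flat ⊓ @LocallyOfFinitePresentation)
    goodProp_fppf stableProd_fppf q _ (cechAcyclic_Ga X)

/-- Vanishing of `Ext` on the outer terms of a short exact sequence gives it on the middle one. -/
lemma subsingleton_ext_X₂ {C : Type*} [Category* C] [Abelian C] [HasExt C] {T : ShortComplex C}
    (hT : T.ShortExact) (X : C) (i : ℕ) (h₁ : Subsingleton (Abelian.Ext X T.X₁ i))
    (h₃ : Subsingleton (Abelian.Ext X T.X₃ i)) : Subsingleton (Abelian.Ext X T.X₂ i) :=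
  subsingleton_of_forall_eq 0 fun x => by
    obtain ⟨y, rfl⟩ := Abelian.Ext.covariant_sequence_exact₂ _ hT x (Subsingleton.elim _ _)
    rw [Subsingleton.elim y 0, Abelian.Ext.zero_comp]

end Groth.GaDual
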