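import Groth.Agent.GaDual.GaSplit
import Groth.Agent.PicAux.UFDSpec

/-!
`Ext¹(G_a, G_m) = 0` over a field.
-/

set_option autoImplicit false
set_option backward.isDefEq.respectTransparency false
set_option linter.style.haveILetI false
set_option maxHeartbeats 1000000

universe u

open CategoryTheory MonoidalCategory CartesianMonoidalCategory MonObj AlgebraicGeometry Opposite Limits
open Polynomial

noncomputable section

namespace Groth.GaDual.GaField

variable (R : CommRingCat.{u})

/-- The affine base as an object over itself. -/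
abbrev base : Over (Spec R) := Over.mk (𝟙 (Spec R))

instance : IsAffine (base R).left := inferInstanceAs (IsAffine (Spec R))

/-- The coordinate ring of the affine line. -/
abbrev lineRing : Type u := Γ((base R).left, ⊤)[X]

/-- The affine line is the spectrum of the polynomial ring. -/
theorem nonempty_specObj_iso : Nonempty (specObj (base R) (lineRing R) ≅ Red.Ga (Spec R)) := by
  haveI : IsAffine (specObj (base R) (lineRing R)).left :=
    inferInstanceAs (IsAffine (Spec (CommRingCat.of (lineRing R))))
  let p : specObj (base R) (lineRing R) ⟶ Red.Ga (Spec R) :=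
    Reductive.gaMk _ (toΓ (base R) (lineRing R) Polynomial.X)
  let g : Red.Ga (Spec R) ⟶ base R := Over.homMk (Red.Ga (Spec R)).hom (Category.comp_id _)
  obtain ⟨k, hk, hρ⟩ := exists_toSpecObj (base R) (lineRing R) g
    (eval₂RingHom g.left.appTop.hom (Red.gaFn (𝟙 (Red.Ga (Spec R))))) fun c => eval₂_C _ _
  have h1 : k ≫ p = 𝟙 _ := Reductive.gaFn_injective (by
    rw [Reductive.gaFn_comp, Reductive.gaFn_gaMk, hρ]
    exact eval₂_X _ _)
  have hto : p ≫ g = specTo (base R) (lineRing R) := by
    refine Over.OverMorphism.ext ?_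
    have h := (Over.w (p ≫ g)).trans (Over.w (specTo (base R) (lineRing R))).symm
    exact (Category.comp_id _).symm.trans (h.trans (Category.comp_id _))
  have h2 : p ≫ k = 𝟙 _ := by
    refine Over.OverMorphism.ext (ext_of_isAffine (CommRingCat.hom_ext ?_))
    have e : ∀ c, (p ≫ k).left.appTop (toΓ (base R) (lineRing R) c) = toΓ (base R) (lineRing R) c := by
      refine fun c => RingHom.congr_fun (f := (p ≫ k).left.appTop.hom.comp (toΓ _ _)) (g := toΓ _ _) ?_ c
      refine Polynomial.ringHom_ext (fun b => ?_) ?_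
      · show (p ≫ k).left.appTop (toΓ _ _ (algebraMap _ (lineRing R) b)) = toΓ _ _ (algebraMap _ (lineRing R) b)
        rw [← specTo_appTop, ← CommRingCat.comp_apply, ← Scheme.Hom.comp_appTop, ← Over.comp_left,
          Category.assoc, hk, hto]
      · show (p ≫ k).left.appTop (toΓ _ _ Polynomial.X) = _
        rw [Over.comp_left, Scheme.Hom.comp_appTop, CommRingCat.comp_apply, hρ]
        rw [coe_eval₂RingHom, eval₂_X, ← Reductive.gaFn_comp, Category.comp_id, Reductive.gaFn_gaMk]
    refine RingHom.ext fun z => ?_
    rw [← toΓ_ofΓ (base R) (lineRing R) z]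
    refine (e _).trans ?_
    rw [Over.id_left, Scheme.Hom.id_appTop]
    rfl
  exact ⟨⟨p, k, h2, h1⟩⟩

/-- `Ext¹(G_a, G_m) = 0` over a field. -/
theorem subsingleton_ext_one_Ga_Gm (k : Type u) [Field k] :
    Subsingleton (Abelian.Ext (CGrpSh2.Ga Scheme.fppfPrecoverage (Spec (CommRingCat.of k)))
      (CGrpSh2.Gm Scheme.fppfPrecoverage (Spec (CommRingCat.of k))) 1) := by
  obtain ⟨φ⟩ := nonempty_specObj_iso (CommRingCat.of k)
  haveI : IsAffine (base (CommRingCat.of k)).left := inferInstanceAs (IsAffine (Spec (CommRingCat.of k)))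
  haveI : AlgebraicGeometry.IsReduced (Spec (CommRingCat.of k)) := inferInstance
  let F := Γ((base (CommRingCat.of k)).left, ⊤)
  have hF : IsField F := MulEquiv.isField (Field.toIsField k)
    (Scheme.ΓSpecIso (CommRingCat.of k)).commRingCatIsoToRingEquiv.toMulEquiv
  letI : Field F := hF.toField
  let C : CommRingCat.{u} := CommRingCat.of (lineRing (CommRingCat.of k))
  let T := specObj (base (CommRingCat.of k)) (lineRing (CommRingCat.of k))
  let ψ : Over.mk ((⊤ : (Spec C).Opens).ι ≫ T.hom) ≅ T := Over.isoMk (Spec C).topIso rfl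
  exact GaSplit.subsingleton_ext_one_Ga_Gm_of_iso (ψ ≪≫ φ) fun L hL => PicAux.trivial_of_open_spec C ⊤ L hL

end Groth.GaDual.GaField
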