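import Groth.Agent.GrpschAbsch.WittEnd
import Groth.Agent.AlgGrp1.Basic
import Groth.Agent.MiscGeom.AdeqAmitsur
import Mathlib.AlgebraicGeometry.Morphisms.Flat

/-!
Extensions by Witt groups lift points with values in affine schemes.
-/

set_option backward.isDefEq.respectTransparency.types false

universe u

open CategoryTheory CategoryTheory.Limits MonoidalCategory CartesianMonoidalCategory MonObj GrpObj
  AlgebraicGeometry

open scoped TensorProduct

namespace Groth.GaDual.GaLift

section Pts

variable {S : Scheme.{u}} {K : Type u} [CommRing K] (t : Spec (CommRingCat.of K) ⟶ S)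

/-- The affine object of a `K`-algebra. -/
noncomputable abbrev sp (B : Type u) [CommRing B] [Algebra K B] : Over S :=
  Over.mk (Spec.map (CommRingCat.ofHom (algebraMap K B)) ≫ t)

variable {t}

/-- The morphism of affine objects of an algebra map. -/
noncomputable abbrev sph {B C : Type u} [CommRing B] [Algebra K B] [CommRing C] [Algebra K C] (f : B →ₐ[K] C) :
    sp t C ⟶ sp t B :=
  Over.homMk (Spec.map (CommRingCat.ofHom f.toRingHom)) (by
    show Spec.map _ ≫ Spec.map _ ≫ t = Spec.map _ ≫ t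
    rw [← Spec.map_comp_assoc, ← CommRingCat.ofHom_comp,
      show f.toRingHom.comp (algebraMap K B) = algebraMap K C from RingHom.ext f.commutes])

/-- The coordinates of a point of a Witt group. -/
noncomputable def fn {p : ℕ} [Fact p.Prime] {n : ℕ} {B : Type u} [CommRing B] [Algebra K B]
    (z : sp t B ⟶ WittGrp.W p n S) : TruncatedWittVector p n B :=
  WittGrp.truncMap p n (Scheme.ΓSpecIso (CommRingCat.of B)).hom.hom
    (WittGrp.pts p (sp t B) (Additive.ofMul z))

variable {p : ℕ} [Fact p.Prime] {n : ℕ}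

theorem fn_injective {B : Type u} [CommRing B] [Algebra K B] {z w : sp t B ⟶ WittGrp.W p n S}
    (h : fn z = fn w) : z = w :=
  WittGrp.pts_injective p _ (TruncatedWittVector.ext fun i =>
    (Scheme.ΓSpecIso (CommRingCat.of B)).commRingCatIsoToRingEquiv.injective (by
      have := congrArg (TruncatedWittVector.coeff i) h
      simp only [fn, WittGrp.coeff_truncMap] at this
      exact this))

theorem fn_surjective {B : Type u} [CommRing B] [Algebra K B] (b : TruncatedWittVector p n B) :
    ∃ z : sp t B ⟶ WittGrp.W p n S, fn z = b := by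
  refine ⟨(WittGrp.ptsMul p _).symm (Multiplicative.ofAdd
    (WittGrp.truncMap p n (Scheme.ΓSpecIso (CommRingCat.of B)).inv.hom b)), ?_⟩
  refine (congrArg _ (Groth.GrpschAbsch.WittEnd.pts_symm p _ _)).trans
    (TruncatedWittVector.ext fun i => ?_)
  rw [WittGrp.coeff_truncMap, WittGrp.coeff_truncMap]
  exact congr($((Scheme.ΓSpecIso (CommRingCat.of B)).inv_hom_id) (b.coeff i))

theorem fn_mul {B : Type u} [CommRing B] [Algebra K B] (z w : sp t B ⟶ WittGrp.W p n S) :
    fn (z * w) = fn z + fn w :=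
  (congrArg _ (WittGrp.pts_mul p _ z w)).trans (map_add _ _ _)

theorem fn_comp {B C : Type u} [CommRing B] [Algebra K B] [CommRing C] [Algebra K C] (f : B →ₐ[K] C)
    (z : sp t B ⟶ WittGrp.W p n S) :
    fn (sph f ≫ z) = WittGrp.truncMap p n f.toRingHom (fn z) := by
  refine (congrArg _ (WittGrp.pts_comp p _ _)).trans (TruncatedWittVector.ext fun i => ?_)
  rw [WittGrp.coeff_truncMap, WittGrp.coeff_truncMap, fn, WittGrp.coeff_truncMap, WittGrp.coeff_truncMap]
  exact congr($(Scheme.ΓSpecIso_naturality (CommRingCat.ofHom f.toRingHom))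
    ((WittGrp.pts p (sp t B) (Additive.ofMul z)).coeff i))

end Pts

/-- Additive cocycles of a faithfully flat algebra are coboundaries. -/
theorem exists_coboundary_flat {K L : Type u} [CommRing K] [CommRing L] [Algebra K L]
    [Module.FaithfullyFlat K L] (c : L ⊗[K] L)
    (hc : Algebra.TensorProduct.map (AlgHom.id K L) Algebra.TensorProduct.includeRight c =
      Algebra.TensorProduct.map (AlgHom.id K L) Algebra.TensorProduct.includeLeft c +
        (Algebra.TensorProduct.includeRight : L ⊗[K] L →ₐ[K] L ⊗[K] (L ⊗[K] L)) c) :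
    ∃ b : L, c = (1 : L) ⊗ₜ[K] b - b ⊗ₜ[K] (1 : L) := by
  let d : L →ₗ[K] L ⊗[K] L := TensorProduct.mk K L L 1 - (TensorProduct.mk K L L).flip 1
  have hd0 : ∀ b, d b = (1 : L) ⊗ₜ[K] b - b ⊗ₜ[K] (1 : L) := fun b => rfl
  have hd : Groth.MiscGeom.Adq.amNext d ∘ₗ d = 0 := by
    refine LinearMap.ext fun b => ?_
    simp only [LinearMap.comp_apply, LinearMap.zero_apply]
    simp only [hd0, map_sub, Groth.MiscGeom.Adq.amNext, LinearMap.sub_apply, TensorProduct.mk_apply,
      LinearMap.lTensor_tmul, TensorProduct.tmul_sub]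
    abel
  have key : ∀ z : L ⊗[K] L, Groth.MiscGeom.Adq.amNext d z =
      (Algebra.TensorProduct.includeRight : L ⊗[K] L →ₐ[K] L ⊗[K] (L ⊗[K] L)) z -
        Algebra.TensorProduct.map (AlgHom.id K L) Algebra.TensorProduct.includeRight z +
        Algebra.TensorProduct.map (AlgHom.id K L) Algebra.TensorProduct.includeLeft z := by
    intro z
    induction z using TensorProduct.induction_on with
    | zero => simp
    | tmul x y =>
      simp [Groth.MiscGeom.Adq.amNext, hd0, TensorProduct.tmul_sub]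
      abel
    | add x y hx hy => simp only [map_add, hx, hy]; abel
  obtain ⟨b, hb⟩ := (Groth.MiscGeom.Adq.amNext_exact d hd c).1 (by rw [key, hc]; abel)
  exact ⟨b, hb.symm.trans (hd0 b)⟩

section Witt

variable {p : ℕ} [Fact p.Prime] {K L : Type u} [CommRing K] [CommRing L] [Algebra K L]
  [Module.FaithfullyFlat K L]

/-- The three maps of `L ⊗ L` into `L ⊗ L ⊗ L` on Witt vectors. -/
noncomputable abbrev W12 (n : ℕ) :=
  WittGrp.truncMap p n (Algebra.TensorProduct.map (AlgHom.id K L)
    (Algebra.TensorProduct.includeLeft : L →ₐ[K] L ⊗[K] L)).toRingHom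

/-- See `W12`. -/
noncomputable abbrev W13 (n : ℕ) :=
  WittGrp.truncMap p n (Algebra.TensorProduct.map (AlgHom.id K L)
    (Algebra.TensorProduct.includeRight : L →ₐ[K] L ⊗[K] L)).toRingHom

/-- See `W12`. -/
noncomputable abbrev W23 (n : ℕ) :=
  WittGrp.truncMap p n (Algebra.TensorProduct.includeRight : L ⊗[K] L →ₐ[K] L ⊗[K] (L ⊗[K] L)).toRingHom

/-- Witt vector valued cocycles of a faithfully flat algebra are coboundaries. -/
theorem exists_coboundary_witt : ∀ (n : ℕ) (c : TruncatedWittVector p n (L ⊗[K] L)),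
    W13 (p := p) (K := K) (L := L) n c = W12 (p := p) (K := K) (L := L) n c + W23 (p := p) (K := K) (L := L) n c →
    ∃ b : TruncatedWittVector p n L,
      c + WittGrp.truncMap p n (Algebra.TensorProduct.includeLeft : L →ₐ[K] L ⊗[K] L).toRingHom b =
        WittGrp.truncMap p n (Algebra.TensorProduct.includeRight : L →ₐ[K] L ⊗[K] L).toRingHom b
  | 0, c, _ => ⟨0, TruncatedWittVector.ext fun i => i.elim0⟩
  | n + 1, c, hc => by
    let h : n ≤ n + 1 := Nat.le_succ n
    obtain ⟨b₀, hb₀⟩ := exists_coboundary_flat (K := K) (c.coeff ⟨0, n.succ_pos⟩) (by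
      have := congrArg (TruncatedWittVector.coeff ⟨0, n.succ_pos⟩) hc
      rwa [Groth.GrpschAbsch.WittOp.coeff_add_zero, WittGrp.coeff_truncMap, WittGrp.coeff_truncMap,
        WittGrp.coeff_truncMap] at this)
    let B₀ : TruncatedWittVector p (n + 1) L := TruncatedWittVector.mk p fun _ => b₀
    let iL := WittGrp.truncMap p (n + 1) (Algebra.TensorProduct.includeLeft : L →ₐ[K] L ⊗[K] L).toRingHom
    let iR := WittGrp.truncMap p (n + 1) (Algebra.TensorProduct.includeRight : L →ₐ[K] L ⊗[K] L).toRingHom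
    let c' := c + iL B₀ - iR B₀
    have hz : c'.coeff ⟨0, n.succ_pos⟩ = 0 := by
      have := Groth.GrpschAbsch.WittOp.coeff_add_zero p c' (iR B₀) n.succ_pos
      rw [sub_add_cancel, Groth.GrpschAbsch.WittOp.coeff_add_zero] at this
      simp only [iL, iR, B₀, WittGrp.coeff_truncMap, TruncatedWittVector.coeff_mk, hb₀] at this
      simpa using this.symm
    obtain ⟨w, hw⟩ : ∃ w, WittGrp.shift p h w = c' := by
      refine ⟨TruncatedWittVector.mk p fun i => c'.coeff ⟨(i : ℕ) + 1, by omega⟩, ?_⟩
      ext i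
      rw [WittGrp.coeff_shift]
      split_ifs with hi
      · rw [TruncatedWittVector.coeff_mk]
        congr 1
        ext; simp; omega
      · obtain rfl : i = ⟨0, n.succ_pos⟩ := Fin.ext (show (i : ℕ) = 0 by omega)
        exact hz.symm
    have hcob : ∀ (x : TruncatedWittVector p (n + 1) L),
        W13 (K := K) (L := L) (n + 1) (iR x - iL x) =
          W12 (K := K) (L := L) (n + 1) (iR x - iL x) + W23 (K := K) (L := L) (n + 1) (iR x - iL x) := by
      intro x
      have e : ∀ (f : L ⊗[K] L →ₐ[K] L ⊗[K] (L ⊗[K] L)) (g : L →ₐ[K] L ⊗[K] L),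
          WittGrp.truncMap p (n + 1) f.toRingHom (WittGrp.truncMap p (n + 1) g.toRingHom x) =
            WittGrp.truncMap p (n + 1) (f.comp g).toRingHom x := fun f g =>
        TruncatedWittVector.ext fun i => by simp
      simp only [map_sub, iL, iR, e]
      rw [show (Algebra.TensorProduct.map (AlgHom.id K L) (Algebra.TensorProduct.includeRight : L →ₐ[K] L ⊗[K] L)).comp
          Algebra.TensorProduct.includeLeft =
        (Algebra.TensorProduct.map (AlgHom.id K L) (Algebra.TensorProduct.includeLeft : L →ₐ[K] L ⊗[K] L)).comp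
          Algebra.TensorProduct.includeLeft from AlgHom.ext fun a => by simp,
        show (Algebra.TensorProduct.map (AlgHom.id K L) (Algebra.TensorProduct.includeLeft : L →ₐ[K] L ⊗[K] L)).comp
          Algebra.TensorProduct.includeRight =
        (Algebra.TensorProduct.includeRight : L ⊗[K] L →ₐ[K] L ⊗[K] (L ⊗[K] L)).comp
          Algebra.TensorProduct.includeLeft from AlgHom.ext fun a => by simp,
        show (Algebra.TensorProduct.map (AlgHom.id K L) (Algebra.TensorProduct.includeRight : L →ₐ[K] L ⊗[K] L)).comp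
          Algebra.TensorProduct.includeRight =
        (Algebra.TensorProduct.includeRight : L ⊗[K] L →ₐ[K] L ⊗[K] (L ⊗[K] L)).comp
          Algebra.TensorProduct.includeRight from AlgHom.ext fun a => by simp]
      abel
    have hc' : c' = c - (iR B₀ - iL B₀) := by simp only [c']; abel
    obtain ⟨b, hb⟩ := exists_coboundary_witt n w (by
      have hs : Function.Injective (WittGrp.shift (R := L ⊗[K] (L ⊗[K] L)) p h) := fun x y hxy => by
        ext i
        have := congrArg (TruncatedWittVector.coeff ⟨(i : ℕ) + 1, by omega⟩) hxy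
        rw [WittGrp.coeff_shift, WittGrp.coeff_shift, dif_pos (by simp), dif_pos (by simp)] at this
        convert this using 2 <;> ext <;> simp
      refine hs ?_
      rw [map_add, W13, W12, W23, ← WittGrp.truncMap_shift, ← WittGrp.truncMap_shift,
        ← WittGrp.truncMap_shift, hw, hc', map_sub, map_sub, map_sub]
      have h1 := hcob B₀
      simp only [W13, W12, W23, map_sub] at h1 hc
      rw [hc, h1]
      simp only [map_sub, map_add]
      abel)
    refine ⟨B₀ + WittGrp.shift p h b, ?_⟩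
    have := congrArg (WittGrp.shift p h) hb
    rw [map_add, hw, ← WittGrp.truncMap_shift, ← WittGrp.truncMap_shift, hc'] at this
    rw [map_add, map_add, ← this]
    simp only [iL, iR]
    abel

end Witt

variable {S : Scheme.{u}} {G Q : Over S} [GrpObj G] [GrpObj Q] (q : G ⟶ Q) [IsMonHom q] [IsCommMonObj G]
  {p : ℕ} [Fact p.Prime] {n : ℕ} (i : WittGrp.W p n S ⟶ G) [IsMonHom i]

/-- A quasi-compact scheme has a flat affine cover of finite presentation. -/
theorem exists_affine_cover (P : Scheme.{u}) [CompactSpace P] : ∃ (L : CommRingCat.{u}) (c : Spec L ⟶ P),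
    Flat c ∧ LocallyOfFinitePresentation c ∧ Surjective c := by
  let 𝒰 : P.OpenCover := P.affineCover.finiteSubcover
  have : IsAffine (∐ 𝒰.X) := inferInstance
  have h1 : Flat (Sigma.desc 𝒰.f) := IsZariskiLocalAtSource.sigmaDesc (P := @Flat.{u}) fun _ => inferInstance
  have h2 : LocallyOfFinitePresentation (Sigma.desc 𝒰.f) :=
    IsZariskiLocalAtSource.sigmaDesc (P := @LocallyOfFinitePresentation.{u}) fun _ => inferInstance
  have h3 : Surjective (Sigma.desc 𝒰.f) :=
    Surjective.sigmaDesc_of_union_range_eq_univ 𝒰.iUnion_range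
  exact ⟨_, (∐ 𝒰.X).isoSpec.inv ≫ Sigma.desc 𝒰.f, inferInstance, inferInstance, inferInstance⟩

/-- A point over a ring of the quotient by a Witt group lifts. -/
theorem exists_lift_spec {K : Type u} [CommRing K] (t : Spec (CommRingCat.of K) ⟶ S)
    (hq : Groth.AlgGrp1.IsCover q) [QuasiCompact q.left] (hker : AlgGrp.IsKernel i q)
    (y : Over.mk t ⟶ Q) : ∃ x : Over.mk t ⟶ G, x ≫ q = y := by
  have := Groth.AlgGrp1.IsKernel.mono hker
  have := hq.flat; have := hq.surj; have := hq.lfp
  obtain ⟨y₀, hy₀⟩ : ∃ y₀ : Spec (CommRingCat.of K) ⟶ Q.left, y₀ = y.left := ⟨_, rfl⟩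
  have hyt : y₀ ≫ Q.hom = t := by rw [hy₀]; exact Over.w y
  have : CompactSpace ↥(pullback y₀ q.left) :=
    QuasiCompact.compactSpace_of_compactSpace (pullback.fst y₀ q.left)
  obtain ⟨L₀, c₀, h₁, h₂, h₃⟩ := exists_affine_cover (pullback y₀ q.left)
  let L : Type u := L₀
  let m : Spec (CommRingCat.of L) ⟶ Spec (CommRingCat.of K) := c₀ ≫ pullback.fst y₀ q.left
  obtain ⟨alg, hm⟩ : ∃ a : Algebra K L, Spec.map (CommRingCat.ofHom (@algebraMap K L _ _ a)) = m :=
    ⟨(Spec.preimage m).hom.toAlgebra, Spec.map_preimage m⟩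
  let pc : sp t L ⟶ Over.mk t := Over.homMk (Spec.map (CommRingCat.ofHom (algebraMap K L))) rfl
  have hfl : Flat (Spec.map (CommRingCat.ofHom (algebraMap K L))) := by rw [hm]; infer_instance
  have hsu : Surjective (Spec.map (CommRingCat.ofHom (algebraMap K L))) := by rw [hm]; infer_instance
  have : Module.FaithfullyFlat K L := RingHom.faithfullyFlat_algebraMap_iff.1
    ((flat_and_surjective_SpecMap_iff _).1 ⟨hfl, hsu⟩)
  have hp : Groth.AlgGrp1.IsCover pc := by
    refine ⟨hfl, hsu, ?_⟩
    show LocallyOfFinitePresentation (Spec.map _)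
    rw [hm]; infer_instance
  obtain ⟨x, hxq⟩ : ∃ x : sp t L ⟶ G, x ≫ q = pc ≫ y := by
    refine ⟨Over.homMk (c₀ ≫ pullback.snd y₀ q.left) ?_, ?_⟩
    · show (c₀ ≫ pullback.snd y₀ q.left) ≫ G.hom = Spec.map _ ≫ t
      rw [hm, ← Over.w q, ← hyt]
      simp only [m, Category.assoc, pullback.condition_assoc]
    · refine Over.OverMorphism.ext ?_
      show (c₀ ≫ pullback.snd y₀ q.left) ≫ q.left = Spec.map _ ≫ y.left
      rw [hm, ← hy₀]
      simp only [m, Category.assoc, pullback.condition]
  let d₁ : sp t (L ⊗[K] L) ⟶ sp t L := sph Algebra.TensorProduct.includeLeft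
  let d₂ : sp t (L ⊗[K] L) ⟶ sp t L := sph Algebra.TensorProduct.includeRight
  have hd : d₁ ≫ pc = d₂ ≫ pc := by
    ext1
    show Spec.map _ ≫ Spec.map _ = Spec.map _ ≫ Spec.map _
    rw [← Spec.map_comp, ← Spec.map_comp, ← CommRingCat.ofHom_comp, ← CommRingCat.ofHom_comp]
    congr 2
    ext r
    exact (Algebra.TensorProduct.includeLeft.commutes r).trans (Algebra.TensorProduct.includeRight.commutes r).symm
  obtain ⟨z, hz⟩ := Groth.AlgGrp1.IsKernel.exists_lift hker ((d₁ ≫ x) / (d₂ ≫ x))
    (by rw [GrpObj.div_comp, Category.assoc, Category.assoc, hxq, ← Category.assoc, hd, Category.assoc, div_self'])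
  let g₁₂ : L ⊗[K] L →ₐ[K] L ⊗[K] (L ⊗[K] L) :=
    Algebra.TensorProduct.map (AlgHom.id K L) Algebra.TensorProduct.includeLeft
  let g₁₃ : L ⊗[K] L →ₐ[K] L ⊗[K] (L ⊗[K] L) :=
    Algebra.TensorProduct.map (AlgHom.id K L) Algebra.TensorProduct.includeRight
  let g₂₃ : L ⊗[K] L →ₐ[K] L ⊗[K] (L ⊗[K] L) := Algebra.TensorProduct.includeRight
  have hsph : ∀ {B C D : Type u} [CommRing B] [Algebra K B] [CommRing C] [Algebra K C] [CommRing D] [Algebra K D]
      (f : B →ₐ[K] C) (g : C →ₐ[K] D), (sph g : sp t D ⟶ sp t C) ≫ sph f = sph (g.comp f) := by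
    intros
    ext1
    exact (Spec.map_comp _ _).symm
  have hz3 : sph g₁₃ ≫ z = (sph g₁₂ ≫ z) * (sph g₂₃ ≫ z) := by
    rw [← cancel_mono i, MonObj.mul_comp, Category.assoc, Category.assoc, Category.assoc, hz,
      GrpObj.comp_div, GrpObj.comp_div, GrpObj.comp_div]
    simp only [d₁, d₂, ← Category.assoc, hsph]
    have e1 : g₁₃.comp Algebra.TensorProduct.includeLeft = g₁₂.comp Algebra.TensorProduct.includeLeft := by
      ext a; simp [g₁₂, g₁₃]
    have e2 : g₁₂.comp Algebra.TensorProduct.includeRight = g₂₃.comp Algebra.TensorProduct.includeLeft := by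
      ext a; simp [g₁₂, g₂₃]
    have e3 : g₁₃.comp Algebra.TensorProduct.includeRight = g₂₃.comp Algebra.TensorProduct.includeRight := by
      ext a; simp [g₁₃, g₂₃]
    rw [e1, e2, e3, div_mul_div_cancel]
  have hcoc : W13 (p := p) (K := K) (L := L) n (fn z) =
      W12 (p := p) (K := K) (L := L) n (fn z) + W23 (p := p) (K := K) (L := L) n (fn z) := by
    rw [W13, W12, W23, ← fn_comp, ← fn_comp, ← fn_comp, ← fn_mul]
    exact congrArg fn hz3
  obtain ⟨b, hb⟩ := exists_coboundary_witt n (fn z) hcoc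
  obtain ⟨zb, hzb⟩ := fn_surjective (t := t) b
  let x₂ := x * (zb ≫ i)
  have hx₂ : x₂ ≫ q = pc ≫ y := by
    rw [MonObj.mul_comp, hxq, Category.assoc, Groth.AlgGrp1.IsKernel.comp_eq_one hker, MonObj.comp_one, _root_.mul_one]
  have heq : d₁ ≫ x₂ = d₂ ≫ x₂ := by
    have hzz : z * (d₁ ≫ zb) = d₂ ≫ zb := fn_injective (by
      rw [fn_mul, fn_comp, fn_comp, hzb, hb])
    rw [MonObj.comp_mul, MonObj.comp_mul, ← Category.assoc, ← Category.assoc, ← hzz, MonObj.mul_comp, hz,
      ← _root_.mul_assoc, mul_div_cancel]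
  obtain ⟨x₀, hx₀⟩ := hp.exists_desc x₂ fun T a a' haa => by
    let l : T.left ⟶ Spec (CommRingCat.of (L ⊗[K] L)) :=
      pullback.lift a.left a'.left (congrArg CommaMorphism.left haa) ≫ (pullbackSpecIso K L L).hom
    have h1 : l ≫ d₁.left = a.left := by
      refine (Category.assoc _ _ _).trans ?_
      erw [pullbackSpecIso_hom_fst]
      exact pullback.lift_fst _ _ _
    have h2 : l ≫ d₂.left = a'.left := by
      refine (Category.assoc _ _ _).trans ?_
      erw [pullbackSpecIso_hom_snd]
      exact pullback.lift_snd _ _ _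
    let lo : T ⟶ sp t (L ⊗[K] L) := Over.homMk l (by
      rw [← Over.w d₁, reassoc_of% h1]; exact Over.w a)
    rw [show a = lo ≫ d₁ from Over.OverMorphism.ext h1.symm, show a' = lo ≫ d₂ from Over.OverMorphism.ext h2.symm,
      Category.assoc, Category.assoc, heq]
  exact ⟨x₀, hp.cancel (by rw [← Category.assoc, hx₀, hx₂])⟩


end Groth.GaDual.GaLift
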