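import Groth.Agent.GaDual.TruncExp
import Mathlib.RingTheory.MvPolynomial.Ideal
import Mathlib.Algebra.MvPolynomial.Nilpotent
import Mathlib.RingTheory.Polynomial.Nilpotent
import Mathlib.RingTheory.Noetherian.Nilpotent

/-!
Multiplicative symmetric cocycles over rings with surjective Frobenius are coboundaries.
-/

set_option autoImplicit false
set_option linter.unusedSectionVars false
set_option linter.style.haveILetI false
set_option maxHeartbeats 400000

universe u

open MvPolynomial Groth.GrpschAbsch Groth.GrpschAbsch.Char Groth.GrpschAbsch.Cocycle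

noncomputable section

namespace Groth.GaDual.SymCocycle

variable {R : Type u} [CommRing R]

/-- Multiplicative symmetric two-cocycles. -/
def IsMC (F : MvPolynomial (Fin 2) R) : Prop :=
  aeval ![X 1, X 0] F = F ∧
    aeval ![(X 0 : MvPolynomial (Fin 3) R), X 1 + X 2] F * aeval ![X 1, X 2] F =
      aeval ![(X 0 + X 1 : MvPolynomial (Fin 3) R), X 2] F * aeval ![X 0, X 1] F

/-- Substitution of the sum. -/
abbrev ep : Polynomial R →ₐ[R] MvPolynomial (Fin 2) R := Polynomial.aeval (X 0 + X 1)
/-- Substitution of the first variable. -/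
abbrev e0 : Polynomial R →ₐ[R] MvPolynomial (Fin 2) R := Polynomial.aeval (X 0)
/-- Substitution of the second variable. -/
abbrev e1 : Polynomial R →ₐ[R] MvPolynomial (Fin 2) R := Polynomial.aeval (X 1)

lemma IsMC.mul {F G : MvPolynomial (Fin 2) R} (hF : IsMC F) (hG : IsMC G) : IsMC (F * G) := by
  refine ⟨by rw [map_mul, hF.1, hG.1], ?_⟩
  simp only [map_mul]
  linear_combination (aeval ![(X 0 : MvPolynomial (Fin 3) R), X 1 + X 2] G * aeval ![X 1, X 2] G) * hF.2 +
    (aeval ![(X 0 + X 1 : MvPolynomial (Fin 3) R), X 2] F * aeval ![X 0, X 1] F) * hG.2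

lemma IsMC.C (a : R) : IsMC (MvPolynomial.C a) := by simp [IsMC]

lemma map_aeval_eq {S : Type u} [CommRing S] (f : R →+* S) {n m : ℕ} (v : Fin n → MvPolynomial (Fin m) R)
    (F : MvPolynomial (Fin n) R) :
    MvPolynomial.map f (aeval v F) = aeval (fun i => MvPolynomial.map f (v i)) (MvPolynomial.map f F) := by
  induction F using MvPolynomial.induction_on with
  | C a => simp
  | add F G hF hG => simp [hF, hG]
  | mul_X F i hF => simp [hF]

lemma IsMC.map {S : Type u} [CommRing S] (f : R →+* S) {F : MvPolynomial (Fin 2) R} (hF : IsMC F) :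
    IsMC (MvPolynomial.map f F) := by
  have h1 := congrArg (MvPolynomial.map f) hF.1
  have h2 := congrArg (MvPolynomial.map f) hF.2
  rw [map_aeval_eq] at h1
  rw [map_mul, map_mul, map_aeval_eq, map_aeval_eq, map_aeval_eq, map_aeval_eq] at h2
  refine ⟨?_, ?_⟩
  · convert h1 using 3
    ext i; fin_cases i <;> simp
  · convert h2 using 4 <;> (ext i; fin_cases i <;> simp)

/-- A coboundary is a cocycle. -/
lemma isMC_cobdry {d d' : Polynomial R} (h : d * d' = 1) : IsMC (ep d * e0 d' * e1 d') := by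
  have e : ∀ (n : ℕ) (v : Fin 2 → MvPolynomial (Fin n) R),
      aeval v (ep d * e0 d' * e1 d') =
        Polynomial.aeval (v 0 + v 1) d * Polynomial.aeval (v 0) d' * Polynomial.aeval (v 1) d' := by
    intro n v
    simp [← Polynomial.aeval_algHom_apply]
  refine ⟨?_, ?_⟩
  · rw [e]
    simp [add_comm (X 1 : MvPolynomial (Fin 2) R)]
    ring
  · simp only [e, Matrix.cons_val_zero, Matrix.cons_val_one, Matrix.cons_val_fin_one]
    rw [add_assoc (X 0 : MvPolynomial (Fin 3) R)]
    have h12 : Polynomial.aeval (X 1 + X 2 : MvPolynomial (Fin 3) R) d *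
        Polynomial.aeval (X 1 + X 2 : MvPolynomial (Fin 3) R) d' = 1 := by rw [← map_mul, h, map_one]
    have h01 : Polynomial.aeval (X 0 + X 1 : MvPolynomial (Fin 3) R) d *
        Polynomial.aeval (X 0 + X 1 : MvPolynomial (Fin 3) R) d' = 1 := by rw [← map_mul, h, map_one]
    linear_combination (Polynomial.aeval (X 0 + (X 1 + X 2) : MvPolynomial (Fin 3) R) d *
      Polynomial.aeval (X 0 : MvPolynomial (Fin 3) R) d' * Polynomial.aeval (X 1 : MvPolynomial (Fin 3) R) d' *
      Polynomial.aeval (X 2 : MvPolynomial (Fin 3) R) d') * h12 -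
      (Polynomial.aeval (X 0 + (X 1 + X 2) : MvPolynomial (Fin 3) R) d *
      Polynomial.aeval (X 0 : MvPolynomial (Fin 3) R) d' * Polynomial.aeval (X 1 : MvPolynomial (Fin 3) R) d' *
      Polynomial.aeval (X 2 : MvPolynomial (Fin 3) R) d') * h01

variable {I : Ideal R}

lemma mapC_mul_eq_zero (hI : I * I = ⊥) {σ : Type*} {a b : MvPolynomial σ R}
    (ha : a ∈ Ideal.map MvPolynomial.C I) (hb : b ∈ Ideal.map MvPolynomial.C I) : a * b = 0 := by
  have h := Ideal.mul_mem_mul ha hb
  rwa [← Ideal.map_mul, hI, Ideal.map_bot, Ideal.mem_bot] at h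

lemma polyAeval_mem {A : Type u} [CommRing A] [Algebra R A] (x : A) {G : Polynomial R}
    (hG : ∀ n, G.coeff n ∈ I) : Polynomial.aeval x G ∈ Ideal.map (algebraMap R A) I := by
  have h := Ideal.mem_map_of_mem (Polynomial.aeval x).toRingHom (Ideal.mem_map_C_iff.mpr hG)
  rw [Ideal.map_map] at h
  rwa [show ((Polynomial.aeval x).toRingHom.comp Polynomial.C) = algebraMap R A from
    RingHom.ext fun r => Polynomial.aeval_C x r] at h

lemma aeval_mem {n m : ℕ} (v : Fin n → MvPolynomial (Fin m) R) {F : MvPolynomial (Fin n) R}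
    (hF : F ∈ Ideal.map MvPolynomial.C I) : aeval v F ∈ Ideal.map MvPolynomial.C I := by
  have h := Ideal.mem_map_of_mem (aeval v).toRingHom hF
  rw [Ideal.map_map] at h
  rwa [show ((aeval v).toRingHom.comp MvPolynomial.C) = MvPolynomial.C from
    RingHom.ext fun r => aeval_C v r] at h

lemma isSC_of_isMC {φ : MvPolynomial (Fin 2) R} (hI : I * I = ⊥) (hφ : φ ∈ Ideal.map MvPolynomial.C I)
    (h : IsMC (1 + φ)) : IsSC φ := by
  refine ⟨by simpa using h.1, ?_⟩
  have h2 := h.2
  simp only [map_add, map_one] at h2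
  have z1 := mapC_mul_eq_zero hI (aeval_mem ![(X 0 : MvPolynomial (Fin 3) R), X 1 + X 2] hφ)
    (aeval_mem ![(X 1 : MvPolynomial (Fin 3) R), X 2] hφ)
  have z2 := mapC_mul_eq_zero hI (aeval_mem ![(X 0 + X 1 : MvPolynomial (Fin 3) R), X 2] hφ)
    (aeval_mem ![(X 0 : MvPolynomial (Fin 3) R), X 1] hφ)
  simp only [delta]
  linear_combination h2 - z1 + z2

variable (p : ℕ) [hp : Fact p.Prime] [CharP R p]

/-- The decomposition of a cocycle with coefficients in an ideal. -/
lemma exists_decomp_mem {φ : MvPolynomial (Fin 2) R} (hφ : φ ∈ Ideal.map MvPolynomial.C I) (hF : IsSC φ) :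
    ∃ (G : Polynomial R) (N : ℕ) (r : ℕ → R), (∀ n, G.coeff n ∈ I) ∧ (∀ i < N, r i ∈ I) ∧
      φ = cobdry G + ∑ i ∈ Finset.range N, MvPolynomial.C (r i) * SPow p i := by
  classical
  obtain ⟨G, N, r, hdec⟩ := exists_decomp p hF
  have hp1 := hp.out.one_lt
  have hc : ∀ i j, φ.coeff (pair i j) ∈ I := fun i j => MvPolynomial.mem_map_C_iff.mp hφ _
  have htop : ∀ s d, p ^ s < d → d ≤ p ^ (s + 1) → φ.coeff (pair (p ^ s) (d - p ^ s)) =
      (d.choose (p ^ s) : R) * G.coeff d + ∑ i ∈ Finset.range N, if d = p ^ (i + 1) then r i else 0 := by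
    intro s d h1 h2
    have hs : 0 < p ^ s := pow_pos hp.out.pos s
    rw [hdec, coeff_add, coeff_cobdry, coeff_sum, if_neg (by omega), if_neg (by omega), sub_zero, sub_zero,
      Nat.add_sub_cancel' h1.le]
    refine congrArg _ (Finset.sum_congr rfl fun i _ => ?_)
    rw [coeff_C_mul, coeff_SPow p h1 h2, mul_ite, mul_one, mul_zero]
  have hr : ∀ i < N, r i ∈ I := by
    intro i hi
    have h := htop i (p ^ (i + 1)) (Nat.pow_lt_pow_right hp1 (Nat.lt_succ_self i)) le_rfl
    rw [choose_pow_eq_div p, pow_succ', Nat.mul_div_cancel _ (pow_pos hp.out.pos i), CharP.cast_eq_zero,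
      zero_mul, zero_add] at h
    simp only [← pow_succ', Nat.pow_right_injective hp.out.two_le |>.eq_iff, Nat.add_right_cancel_iff,
      Finset.sum_ite_eq, Finset.mem_range, if_pos hi] at h
    rw [← h]
    exact hc _ _
  let G' : Polynomial R := ∑ d ∈ G.support.filter (fun d => ∀ s, d ≠ p ^ s), Polynomial.monomial d (G.coeff d)
  have hG' : ∀ d, G'.coeff d = if ∀ s, d ≠ p ^ s then G.coeff d else 0 := by
    intro d
    simp only [G', Polynomial.finsetSum_coeff, Polynomial.coeff_monomial, Finset.sum_ite_eq', Finset.mem_filter,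
      Polynomial.mem_support_iff]
    split_ifs <;> simp_all
  have hGG : cobdry G' = cobdry G := by
    have hsub : ∀ H : Polynomial R, (∀ d, H.coeff d ≠ 0 → ∃ s, d = p ^ s) → cobdry H = 0 := by
      intro H hH
      rw [cobdry, H.as_sum_support, map_sum, map_sum, map_sum, ← Finset.sum_sub_distrib, ← Finset.sum_sub_distrib]
      refine Finset.sum_eq_zero fun d hd => ?_
      obtain ⟨s, rfl⟩ := hH d (Polynomial.mem_support_iff.mp hd)
      simp only [Polynomial.aeval_monomial, add_pow_char_pow]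
      ring
    have h := hsub (G - G') fun d hd => by
      rw [Polynomial.coeff_sub, hG'] at hd
      by_contra hcon
      push Not at hcon
      rw [if_pos hcon, sub_self] at hd
      exact hd rfl
    simp only [cobdry, map_sub] at h ⊢
    linear_combination -h
  refine ⟨G', N, r, fun d => ?_, hr, by rw [hGG]; exact hdec⟩
  rw [hG']
  split_ifs with hd
  swap
  · exact I.zero_mem
  rcases Nat.eq_zero_or_pos d with rfl | hd0
  · have h := congrArg (MvPolynomial.coeff (pair 0 0)) hdec
    rw [coeff_add, coeff_cobdry, coeff_sum] at h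
    simp [coeff_C_mul, coeff_zero_SPow] at h
    simpa [h] using I.neg_mem (hc 0 0)
  obtain ⟨s, hs⟩ : ∃ s, Nat.log p d = s := ⟨_, rfl⟩
  have a : p ^ s ≤ d := hs ▸ Nat.pow_log_le_self p hd0.ne'
  have b : d < p ^ (s + 1) := hs ▸ Nat.lt_pow_succ_log_self hp1 d
  have a' : p ^ s < d := lt_of_le_of_ne a (hd s).symm
  have h := htop s d a' b.le
  rw [Finset.sum_eq_zero fun i _ => if_neg (hd (i + 1)), add_zero] at h
  exact (Submodule.smul_mem_iff_of_isUnit I (isUnit_choose_pow p a b)).mp
    (by rw [smul_eq_mul, ← h]; exact hc _ _)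

lemma S_smul {B : Type u} [CommRing B] (t u v : B) : S p (t * u) (t * v) = t ^ p * S p u v := by
  rw [S, S, Finset.mul_sum]
  refine Finset.sum_congr rfl fun j hj => ?_
  rw [Finset.mem_Ioo] at hj
  rw [mul_pow, mul_pow, show t ^ p = t ^ j * t ^ (p - j) by rw [← pow_add, Nat.add_sub_cancel' hj.2.le]]
  ring

variable (hF : Function.Surjective (frobenius R p))

include hF in
/-- Every `1 + r S` with `r` square zero is a coboundary. -/
lemma exists_unit_SPow (i : ℕ) (r : R) (hr : r * r = 0) :
    ∃ E : Polynomial R, IsUnit E ∧ ep E = e0 E * e1 E * (1 + MvPolynomial.C r * SPow p i) := by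
  obtain ⟨b, hb⟩ := hF r
  rw [frobenius_def] at hb
  obtain ⟨P, hP0, hP⟩ := TruncExp.exists_poly p R
  have hb2 : b ^ (2 * p) = 0 := by rw [two_mul, pow_add, hb, hr]
  refine ⟨Polynomial.aeval (Polynomial.C b * Polynomial.X ^ p ^ i) P, ?_, ?_⟩
  · conv => arg 1; rw [← Polynomial.X_mul_divX_add P]
    rw [map_add, map_mul, Polynomial.aeval_X, Polynomial.aeval_C, hP0, map_one]
    exact IsNilpotent.isUnit_add_one ⟨2 * p, by rw [mul_pow, mul_pow, ← Polynomial.C_pow, hb2, map_zero,
      zero_mul, zero_mul]⟩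
  · simp only [ep, e0, e1, ← Polynomial.aeval_algHom_apply]
    simp only [map_mul, map_pow, Polynomial.aeval_C, Polynomial.aeval_X, algebraMap_eq, add_pow_char_pow, mul_add]
    rw [hP, S_smul, ← map_pow, hb]
    · rw [SPow]; ring
    intro a c hac
    rw [mul_pow, mul_pow, mul_mul_mul_comm, ← pow_add, ← map_pow,
      pow_eq_zero_of_le hac hb2, map_zero, zero_mul]

include hF in
lemma exists_unit_sum (hI : I * I = ⊥) (s : Finset ℕ) (r : ℕ → R) (hr : ∀ i ∈ s, r i ∈ I) :
    ∃ E : Polynomial R, IsUnit E ∧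
      ep E = e0 E * e1 E * (1 + ∑ i ∈ s, MvPolynomial.C (r i) * SPow p i) := by
  classical
  induction s using Finset.induction_on with
  | empty => exact ⟨1, isUnit_one, by simp⟩
  | insert a s ha ih =>
    obtain ⟨E, hE, hE'⟩ := ih fun i hi => hr i (Finset.mem_insert_of_mem hi)
    have ham := hr a (Finset.mem_insert_self a s)
    obtain ⟨E₁, hE₁, hE₁'⟩ := exists_unit_SPow p hF a (r a) (by
      rw [← Ideal.mem_bot, ← hI]; exact Ideal.mul_mem_mul ham ham)
    refine ⟨E₁ * E, hE₁.mul hE, ?_⟩
    have z : (MvPolynomial.C (r a) * SPow p a) * ∑ i ∈ s, MvPolynomial.C (r i) * SPow p i = 0 :=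
      mapC_mul_eq_zero hI (Ideal.mul_mem_right _ _ (Ideal.mem_map_of_mem _ ham))
        (sum_mem fun i hi => Ideal.mul_mem_right _ _ (Ideal.mem_map_of_mem _ (hr i (Finset.mem_insert_of_mem hi))))
    rw [map_mul, map_mul, map_mul, hE₁', hE', Finset.sum_insert ha]
    linear_combination (e0 E₁ * e1 E₁ * (e0 E * e1 E)) * z

include hF in
/-- The square-zero step. -/
lemma exists_unit_step (hI : I * I = ⊥) {w : MvPolynomial (Fin 2) R}
    (hw : w - 1 ∈ Ideal.map MvPolynomial.C I) (h : IsMC w) :
    ∃ D : Polynomial R, IsUnit D ∧ ep D = e0 D * e1 D * w := by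
  obtain ⟨G, N, r, hG, hr, hdec⟩ := exists_decomp_mem p hw
    (isSC_of_isMC hI hw (by rw [add_sub_cancel]; exact h))
  obtain ⟨E, hE, hE'⟩ := exists_unit_sum p hF hI (Finset.range N) r fun i hi => hr i (Finset.mem_range.mp hi)
  have hGm : ∀ x : MvPolynomial (Fin 2) R, Polynomial.aeval x G ∈ Ideal.map MvPolynomial.C I := fun x =>
    polyAeval_mem x hG
  have hGG : G * G = 0 := by
    have := Ideal.mul_mem_mul (Ideal.mem_map_C_iff.mpr hG) (Ideal.mem_map_C_iff.mpr hG)
    rwa [← Ideal.map_mul, hI, Ideal.map_bot, Ideal.mem_bot] at this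
  refine ⟨(1 + G) * E, (IsNilpotent.isUnit_one_add ⟨2, by rw [pow_two, hGG]⟩).mul hE, ?_⟩
  have hcob : cobdry G ∈ Ideal.map MvPolynomial.C I := by
    unfold cobdry
    exact sub_mem (sub_mem (hGm _) (hGm _)) (hGm _)
  have z1 : cobdry G * (w - 1 - cobdry G) = 0 := mapC_mul_eq_zero hI hcob (sub_mem hw hcob)
  have z2 := mapC_mul_eq_zero hI (hGm (X 0)) (hGm (X 1))
  have z3 := mapC_mul_eq_zero hI (hGm (X 0)) hcob
  have z4 := mapC_mul_eq_zero hI (hGm (X 1)) hcob
  have hsum : (1 : MvPolynomial (Fin 2) R) + ∑ i ∈ Finset.range N, MvPolynomial.C (r i) * SPow p i =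
      1 + (w - 1 - cobdry G) := by rw [hdec]; ring
  have hep : ep (1 + G) = e0 (1 + G) * e1 (1 + G) * (1 + cobdry G) := by
    have hc : ep G = e0 G + e1 G + cobdry G := by rw [cobdry]; ring
    simp only [map_add, map_one, hc]
    linear_combination -(1 + cobdry G) * z2 - z3 - z4
  rw [map_mul, map_mul, map_mul, hE', hep, hsum]
  linear_combination (e0 (1 + G) * e1 (1 + G) * (e0 E * e1 E)) * z1

lemma map_ep {S : Type u} [CommRing S] (f : R →+* S) (d : Polynomial R) :
    MvPolynomial.map f (ep d) = ep (d.map f) ∧ MvPolynomial.map f (e0 d) = e0 (d.map f) ∧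
      MvPolynomial.map f (e1 d) = e1 (d.map f) := by
  have key : ∀ x : MvPolynomial (Fin 2) R,
      MvPolynomial.map f (Polynomial.aeval x d) = Polynomial.aeval (MvPolynomial.map f x) (d.map f) := by
    intro x
    induction d using Polynomial.induction_on' with
    | add a b ha hb => simp [ha, hb]
    | monomial n a => simp
  refine ⟨?_, ?_, ?_⟩ <;> simp [ep, e0, e1, key]

lemma isUnit_of_map {S : Type u} [CommRing S] (f : R →+* S) (hf : ∀ x, f x = 0 → IsNilpotent x)
    {d : Polynomial R} (hd : IsUnit (d.map f)) (hs : Function.Surjective f) : IsUnit d := by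
  rw [Polynomial.isUnit_iff_coeff_isUnit_isNilpotent] at hd ⊢
  simp only [Polynomial.coeff_map] at hd
  refine ⟨?_, fun i hi => ?_⟩
  · obtain ⟨b, hb⟩ := hd.1.exists_right_inv
    obtain ⟨b, rfl⟩ := hs b
    obtain ⟨n, hn⟩ := hf (d.coeff 0 * b - 1) (by rw [map_sub, map_mul, hb, map_one, sub_self])
    have := IsNilpotent.isUnit_add_one (⟨n, hn⟩ : IsNilpotent (d.coeff 0 * b - 1))
    rw [sub_add_cancel] at this
    exact isUnit_of_mul_isUnit_left this
  · obtain ⟨n, hn⟩ := hd.2 i hi
    rw [← map_pow] at hn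
    obtain ⟨m, hm⟩ := hf _ hn
    exact ⟨n * m, by rw [pow_mul, hm]⟩

include hF in
/-- Unit symmetric cocycles are coboundaries. -/
theorem exists_unit_poly {c : MvPolynomial (Fin 2) R} (hc : IsUnit c) (h : IsMC c) :
    ∃ d : Polynomial R, IsUnit d ∧ c * ep d = e0 d * e1 d := by
  classical
  obtain ⟨hc0, hcn⟩ := MvPolynomial.isUnit_iff.mp hc
  obtain ⟨a, ha⟩ := hc0.exists_left_inv
  let u : MvPolynomial (Fin 2) R := MvPolynomial.C a * c
  have hu : IsMC u := (IsMC.C a).mul h
  let J : Ideal R := Ideal.span ((u - 1).support.image (MvPolynomial.coeff · (u - 1)) : Set R)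
  have hJu : u - 1 ∈ Ideal.map MvPolynomial.C J := by
    refine MvPolynomial.mem_map_C_iff.mpr fun d => ?_
    by_cases hd : d ∈ (u - 1).support
    · exact Ideal.subset_span (Finset.mem_coe.mpr (Finset.mem_image_of_mem _ hd))
    · rw [MvPolynomial.notMem_support_iff.mp hd]; exact J.zero_mem
  have hJn : J ≤ nilradical R := by
    refine Ideal.span_le.mpr fun x hx => ?_
    obtain ⟨d, hd, rfl⟩ := Finset.mem_image.mp (Finset.mem_coe.mp hx)
    rw [SetLike.mem_coe, mem_nilradical]
    rcases eq_or_ne d 0 with rfl | hd0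
    · exact absurd (by simp [u, ha]) (MvPolynomial.mem_support_iff.mp hd)
    · rw [MvPolynomial.coeff_sub, MvPolynomial.coeff_one, if_neg hd0.symm, sub_zero,
        MvPolynomial.coeff_C_mul]
      exact (Commute.all a _).isNilpotent_mul_left (hcn d hd0)
  obtain ⟨N, hN⟩ := (Ideal.FG.isNilpotent_iff_le_nilradical ⟨_, rfl⟩).mpr hJn
  have key : ∀ k, ∃ d : Polynomial R, IsUnit d ∧ u * ep d - e0 d * e1 d ∈ Ideal.map MvPolynomial.C (J ^ (k + 1)) := by
    intro k
    induction k with
    | zero => exact ⟨1, isUnit_one, by rw [zero_add, pow_one, map_one, map_one, map_one, mul_one, one_mul]; exact hJu⟩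
    | succ k ih =>
      obtain ⟨d, hd, hdk⟩ := ih
      let K := J ^ (k + 1 + 1)
      let π := Ideal.Quotient.mk K
      have hKn : ∀ x, π x = 0 → IsNilpotent x := fun x hx => by
        rw [← mem_nilradical]
        exact hJn (Ideal.pow_le_self (Nat.succ_ne_zero _) (Ideal.Quotient.eq_zero_iff_mem.mp hx))
      haveI : Nontrivial R := CharP.nontrivial_of_char_ne_one (v := p) hp.out.ne_one
      haveI : Nontrivial (R ⧸ K) := Ideal.Quotient.nontrivial_iff.mpr fun htop => by
        obtain ⟨n, hn⟩ := hKn 1 (Ideal.Quotient.eq_zero_iff_mem.mpr (htop ▸ Submodule.mem_top))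
        rw [one_pow] at hn
        exact one_ne_zero hn
      haveI : CharP (R ⧸ K) p := (CharP.charP_iff_prime_eq_zero hp.out).mpr (by
        rw [← map_natCast π, CharP.cast_eq_zero, map_zero])
      have hFS : Function.Surjective (frobenius (R ⧸ K) p) := by
        intro x
        obtain ⟨x, rfl⟩ := Ideal.Quotient.mk_surjective x
        obtain ⟨y, rfl⟩ := hF x
        exact ⟨π y, by rw [frobenius_def, frobenius_def, map_pow]⟩
      let I := (J ^ (k + 1)).map π
      have hI : I * I = ⊥ := by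
        rw [← Ideal.map_mul, ← pow_add, eq_bot_iff]
        exact (Ideal.map_mono (Ideal.pow_le_pow_right (by omega))).trans (Ideal.map_quotient_self K).le
      obtain ⟨dd, hdd⟩ := (hd.map (Polynomial.mapRingHom π)).exists_right_inv
      rw [Polynomial.coe_mapRingHom] at hdd
      have hdk' : MvPolynomial.map π u * ep (d.map π) - e0 (d.map π) * e1 (d.map π) ∈
          Ideal.map MvPolynomial.C I := by
        have := Ideal.mem_map_of_mem (MvPolynomial.map π) hdk
        rw [Ideal.map_map, show ((MvPolynomial.map π).comp MvPolynomial.C) =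
          (MvPolynomial.C.comp π : R →+* MvPolynomial (Fin 2) (R ⧸ K)) from
          RingHom.ext fun r => MvPolynomial.map_C π r, ← Ideal.map_map] at this
        simpa only [map_sub, map_mul, (map_ep π d).1, (map_ep π d).2.1, (map_ep π d).2.2] using this
      have q0 : e0 (d.map π) * e0 dd = 1 := by rw [← map_mul, hdd, map_one]
      have q1 : e1 (d.map π) * e1 dd = 1 := by rw [← map_mul, hdd, map_one]
      let w := MvPolynomial.map π u * (ep (d.map π) * e0 dd * e1 dd)
      have hw : w - 1 ∈ Ideal.map MvPolynomial.C I := by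
        have : w - 1 = (MvPolynomial.map π u * ep (d.map π) - e0 (d.map π) * e1 (d.map π)) * (e0 dd * e1 dd) := by
          linear_combination (e1 (d.map π) * e1 dd) * q0 + q1
        rw [this]
        exact Ideal.mul_mem_right _ _ hdk'
      obtain ⟨D, hD, hDw⟩ := exists_unit_step p hFS hI hw ((hu.map π).mul (isMC_cobdry hdd))
      obtain ⟨D', hD'⟩ := hD.exists_right_inv
      have r0 : e0 D * e0 D' = 1 := by rw [← map_mul, hD', map_one]
      have r1 : e1 D * e1 D' = 1 := by rw [← map_mul, hD', map_one]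
      have rp : ep D * ep D' = 1 := by rw [← map_mul, hD', map_one]
      obtain ⟨n, hn⟩ := Polynomial.map_surjective π Ideal.Quotient.mk_surjective (d.map π * D')
      have hnu : IsUnit (n.map π) := by
        rw [hn]
        exact (hd.map (Polynomial.mapRingHom π)).mul (IsUnit.of_mul_eq_one_right _ hD')
      refine ⟨n, isUnit_of_map π hKn hnu Ideal.Quotient.mk_surjective, ?_⟩
      have hzero : MvPolynomial.map π u * ep (n.map π) - e0 (n.map π) * e1 (n.map π) = 0 := by
        rw [hn, map_mul ep, map_mul e0, map_mul e1]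
        have key : MvPolynomial.map π u * ep (d.map π) * (e0 D * e1 D) =
            ep D * (e0 (d.map π) * e1 (d.map π)) := by
          rw [hDw]
          linear_combination -(e0 D * e1 D * MvPolynomial.map π u * ep (d.map π) * e1 (d.map π) * e1 dd) * q0 -
            (e0 D * e1 D * MvPolynomial.map π u * ep (d.map π)) * q1
        linear_combination (ep D' * e0 D' * e1 D') * key +
          (e0 (d.map π) * e1 (d.map π) * e0 D' * e1 D') * rp -
          (MvPolynomial.map π u * ep (d.map π) * ep D' * e1 D * e1 D') * r0 -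
          (MvPolynomial.map π u * ep (d.map π) * ep D') * r1
      refine MvPolynomial.mem_map_C_iff.mpr fun m => ?_
      have := congrArg (MvPolynomial.coeff m) hzero
      rw [← (map_ep π n).1, ← (map_ep π n).2.1, ← (map_ep π n).2.2, ← map_mul, ← map_mul, ← map_sub,
        MvPolynomial.coeff_map, MvPolynomial.coeff_zero] at this
      exact Ideal.Quotient.eq_zero_iff_mem.mp this
  obtain ⟨d, hd, hdN⟩ := key N
  rw [pow_succ, hN, zero_mul, Ideal.zero_eq_bot, Ideal.map_bot, Ideal.mem_bot, sub_eq_zero] at hdN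
  refine ⟨Polynomial.C (c.coeff 0) * d, (hc0.map Polynomial.C).mul hd, ?_⟩
  simp only [map_mul, Polynomial.aeval_C, MvPolynomial.algebraMap_eq]
  have hC : (MvPolynomial.C a : MvPolynomial (Fin 2) R) * MvPolynomial.C (c.coeff 0) = 1 := by
    rw [← map_mul, ha, map_one]
  calc c * (MvPolynomial.C (c.coeff 0) * ep d)
      = MvPolynomial.C (c.coeff 0) * MvPolynomial.C (c.coeff 0) * (u * ep d) := by
        simp only [u]; linear_combination -(c * MvPolynomial.C (c.coeff 0) * ep d) * hC
    _ = _ := by rw [hdN]; ring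

end Groth.GaDual.SymCocycle
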