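import Groth.Agent.GaDual.LineSplit
import Groth.Agent.GaDual.SymCocycle
import Groth.Agent.GaDual.GaField

/-!
`Ext¹(G_a, G_m) = 0` over rings with surjective Frobenius.
-/

set_option autoImplicit false
set_option backward.isDefEq.respectTransparency false
set_option linter.style.haveILetI false
set_option linter.unusedSectionVars false
set_option maxHeartbeats 1000000

universe u

open CategoryTheory MonoidalCategory CartesianMonoidalCategory MonObj AlgebraicGeometry Opposite Limits

noncomputable section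

namespace Groth.GaDual.GaSemiperfect

variable (p : ℕ) [hp : Fact p.Prime] (R : CommRingCat.{u})

/-- The ring of the base. -/
abbrev BR : Type u := Γ((GaField.base R).left, ⊤)

/-- The structure map to the base. -/
abbrev str (T : Over (Spec R)) : T ⟶ GaField.base R := Over.homMk T.hom (Category.comp_id _)

/-- The constants on an object. -/
abbrev cst (T : Over (Spec R)) : BR R →+* Γ(T.left, ⊤) := (str R T).left.appTop.hom

lemma str_unique {T : Over (Spec R)} (g : T ⟶ GaField.base R) : g = str R T := by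
  refine Over.OverMorphism.ext ?_
  exact (Category.comp_id _).symm.trans ((Over.w g).trans rfl)

lemma cst_comp {T T' : Over (Spec R)} (h : T' ⟶ T) :
    h.left.appTop.hom.comp (cst R T) = cst R T' := by
  have e := congrArg (fun m : T' ⟶ GaField.base R => m.left.appTop.hom) (str_unique R (h ≫ str R T))
  simp only [Over.comp_left, Scheme.Hom.comp_appTop, CommRingCat.hom_comp] at e
  exact e

lemma toΓ_aeval {n m : ℕ} (v : Fin n → MvPolynomial (Fin m) (BR R)) (c : MvPolynomial (Fin n) (BR R)) :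
    MvPolynomial.eval₂ (cst R (specObj (GaField.base R) (MvPolynomial (Fin m) (BR R))))
      (fun i => toΓ (GaField.base R) (MvPolynomial (Fin m) (BR R)) (v i)) c =
    toΓ (GaField.base R) (MvPolynomial (Fin m) (BR R)) (MvPolynomial.aeval v c) := by
  rw [MvPolynomial.aeval_def, ← MvPolynomial.coe_eval₂Hom, ← MvPolynomial.coe_eval₂Hom, MvPolynomial.map_eval₂Hom]
  refine congrArg (fun f => MvPolynomial.eval₂Hom f _ c) (RingHom.ext fun b => ?_)
  rw [RingHom.comp_apply, ← specTo_appTop]
  exact congrArg (fun g => g.left.appTop.hom b) (str_unique R (specTo (GaField.base R) (MvPolynomial (Fin m) (BR R)))).symm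

variable [CharP R p]

lemma charP_BR : CharP (BR R) p :=
  charP_of_injective_ringHom (f := (Scheme.ΓSpecIso R).inv.hom)
    (Scheme.ΓSpecIso R).symm.commRingCatIsoToRingEquiv.injective p

lemma natCast_eq_zero (T : Over (Spec R)) : (p : Γ(T.left, ⊤)) = 0 := by
  haveI := charP_BR p R
  rw [← map_natCast (cst R T), CharP.cast_eq_zero, map_zero]

variable (hF : Function.Surjective (frobenius R p))

include hF in
lemma surjective_frobenius_BR :
    haveI := charP_BR p R
    Function.Surjective (frobenius (BR R) p) := by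
  haveI := charP_BR p R
  intro x
  let e := (Scheme.ΓSpecIso R).symm.commRingCatIsoToRingEquiv
  obtain ⟨y, hy⟩ := hF (e.symm x)
  refine ⟨e y, ?_⟩
  rw [frobenius_def] at hy ⊢
  exact ((map_pow e y p).symm.trans (congrArg e hy)).trans (e.apply_symm_apply x)

lemma nsmul_Ga_eq_zero (T : Over (Spec R))
    (y : (CGrpSh2.Ga Scheme.fppfPrecoverage (Spec R)).obj.obj (op T)) : p • y = 0 := by
  have key : ∀ (n : ℕ) (z : (CGrpSh2.Ga Scheme.fppfPrecoverage (Spec R)).obj.obj (op T)),
      Red.gaFn (n • z).down.toMul = (n : Γ(T.left, ⊤)) * Red.gaFn z.down.toMul := by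
    intro n z
    induction n with
    | zero =>
      rw [zero_nsmul, Nat.cast_zero, zero_mul]
      exact Reductive.gaFn_one
    | succ n ih =>
      rw [succ_nsmul]
      show Red.gaFn ((n • z).down.toMul * z.down.toMul) = _
      rw [Reductive.gaFn_mul, ih, Nat.cast_succ, add_mul]
      simp
  refine ULift.ext _ _ (congrArg Additive.ofMul (Reductive.gaFn_injective ?_))
  show Red.gaFn (p • y).down.toMul = Red.gaFn (1 : T ⟶ Red.Ga (Spec R))
  rw [key, natCast_eq_zero p R T, zero_mul, Reductive.gaFn_one]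

variable {E : BigSite.Ab Scheme.fppfPrecoverage (Spec R)}
  (ιE : CGrpSh2.Gm Scheme.fppfPrecoverage (Spec R) ⟶ E) (πE : E ⟶ CGrpSh2.Ga Scheme.fppfPrecoverage (Spec R))
  (hι : ∀ T : Over (Spec R), Function.Injective (ιE.hom.app (op T)))
  (hπι : ∀ (T : Over (Spec R)) (h : (CGrpSh2.Gm Scheme.fppfPrecoverage (Spec R)).obj.obj (op T)),
    πE.hom.app (op T) (ιE.hom.app (op T) h) = 0)
  (hker : ∀ (T : Over (Spec R)) (x : E.obj.obj (op T)), πE.hom.app (op T) x = 0 →
    ∃ h, ιE.hom.app (op T) h = x)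
  (hepi : Sheaf.IsLocallySurjective πE)

include hF hι hπι hker hepi in
/-- Extensions of `G_a` by `G_m` split over a semiperfect base. -/
theorem exists_section : ∃ s : CGrpSh2.Ga Scheme.fppfPrecoverage (Spec R) ⟶ E, s ≫ πE = 𝟙 _ := by
  haveI := charP_BR p R
  have hFB := surjective_frobenius_BR p R hF
  obtain ⟨φ⟩ := GaField.nonempty_specObj_iso R
  let G' := specObj (GaField.base R) (GaField.lineRing R)
  haveI : IsAffine G'.left := inferInstanceAs (IsAffine (Spec (CommRingCat.of (GaField.lineRing R))))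
  let eR : Polynomial (BR R) ≃+* Γ(G'.left, ⊤) :=
    (Scheme.ΓSpecIso (CommRingCat.of (GaField.lineRing R))).symm.commRingCatIsoToRingEquiv
  obtain ⟨e', he'⟩ := exists_lift_of_split G' ιE πE hι hπι hker hepi p (nsmul_Ga_eq_zero p R)
    (LineSplit.unitSplit p hFB G' eR) (ULift.up (Additive.ofMul φ.hom))
  obtain ⟨e, he⟩ : ∃ e, πE.hom.app (op (Red.Ga (Spec R))) e =
      ULift.up (Additive.ofMul (𝟙 (Red.Ga (Spec R)))) := by
    refine ⟨E.obj.map φ.inv.op e', (ConcreteCategory.congr_hom (πE.hom.naturality φ.inv.op) e').trans ?_⟩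
    refine (congrArg (fun q => (CGrpSh2.Ga Scheme.fppfPrecoverage (Spec R)).obj.map φ.inv.op q) he').trans ?_
    exact ULift.ext _ _ (congrArg Additive.ofMul φ.inv_hom_id)
  let s₀ : ∀ T : Over (Spec R), (T ⟶ Red.Ga (Spec R)) → E.obj.obj (op T) := fun T x => E.obj.map x.op e
  have hπs : ∀ (T : Over (Spec R)) (x : T ⟶ Red.Ga (Spec R)),
      πE.hom.app (op T) (s₀ T x) = ULift.up (Additive.ofMul x) := by
    intro T x
    refine (ConcreteCategory.congr_hom (πE.hom.naturality x.op) e).trans ?_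
    refine (congrArg (fun q => (CGrpSh2.Ga Scheme.fppfPrecoverage (Spec R)).obj.map x.op q) he).trans ?_
    exact ULift.ext _ _ (congrArg Additive.ofMul (Category.comp_id x))
  obtain ⟨h₀, hh₀⟩ := hker (Red.Ga (Spec R) ⊗ Red.Ga (Spec R))
    (s₀ _ (fst (Red.Ga (Spec R)) (Red.Ga (Spec R)) * snd (Red.Ga (Spec R)) (Red.Ga (Spec R))) -
      (s₀ _ (fst (Red.Ga (Spec R)) (Red.Ga (Spec R))) + s₀ _ (snd (Red.Ga (Spec R)) (Red.Ga (Spec R))))) (by
    rw [map_sub, map_add, hπs, hπs, hπs]
    exact sub_self _)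
  let cc : ∀ (T : Over (Spec R)), (T ⟶ Red.Ga (Spec R)) → (T ⟶ Red.Ga (Spec R)) →
      (CGrpSh2.Gm Scheme.fppfPrecoverage (Spec R)).obj.obj (op T) := fun T x y =>
    (CGrpSh2.Gm Scheme.fppfPrecoverage (Spec R)).obj.map (lift x y).op h₀
  have hc : ∀ (T : Over (Spec R)) (x y : T ⟶ Red.Ga (Spec R)),
      s₀ T (x * y) = s₀ T x + s₀ T y + ιE.hom.app (op T) (cc T x y) := by
    intro T x y
    have h2 : ιE.hom.app (op T) (cc T x y) =
        E.obj.map (lift x y).op (ιE.hom.app (op (Red.Ga (Spec R) ⊗ Red.Ga (Spec R))) h₀) :=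
      ConcreteCategory.congr_hom (ιE.hom.naturality (lift x y).op) h₀
    rw [h2, hh₀, map_sub, map_add]
    simp only [s₀, Groth.AbSchBiext.map_map, MonObj.comp_mul, lift_fst, lift_snd]
    abel
  let p2 : specObj (GaField.base R) (MvPolynomial (Fin 2) (BR R)) ⟶ Red.Ga (Spec R) ⊗ Red.Ga (Spec R) :=
    lift (Reductive.gaMk _ (toΓ _ _ (MvPolynomial.X 0))) (Reductive.gaMk _ (toΓ _ _ (MvPolynomial.X 1)))
  let cpol : MvPolynomial (Fin 2) (BR R) :=
    ofΓ (GaField.base R) (MvPolynomial (Fin 2) (BR R)) (Red.gmFn (p2 ≫ h₀.down.toMul))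
  have hcpol : IsUnit cpol := (Reductive.isUnit_gmFn _).map _
  have hval : ∀ (T : Over (Spec R)) (x y : T ⟶ Red.Ga (Spec R)),
      Red.gmFn (cc T x y).down.toMul = MvPolynomial.eval₂ (cst R T) ![Red.gaFn x, Red.gaFn y] cpol := by
    intro T x y
    show Red.gmFn (lift x y ≫ h₀.down.toMul) = _
    obtain ⟨l, hl, hρ⟩ := exists_toSpecObj (GaField.base R) (MvPolynomial (Fin 2) (BR R)) (str R T)
      (MvPolynomial.eval₂Hom (cst R T) ![Red.gaFn x, Red.gaFn y]) fun b => MvPolynomial.eval₂_C _ _ b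
    have hlp : l ≫ p2 = lift x y := by
      rw [comp_lift]
      congr 1 <;> refine Reductive.gaFn_injective ?_ <;>
        rw [Reductive.gaFn_comp, Reductive.gaFn_gaMk, hρ, MvPolynomial.eval₂Hom_X'] <;> rfl
    rw [← hlp, Category.assoc, Reductive.gmFn_comp,
      ← toΓ_ofΓ (GaField.base R) (MvPolynomial (Fin 2) (BR R)) (Red.gmFn (p2 ≫ h₀.down.toMul)), hρ]
    rfl
  have hmul : ∀ (T : Over (Spec R)) (a b : (CGrpSh2.Gm Scheme.fppfPrecoverage (Spec R)).obj.obj (op T)),
      Red.gmFn (a + b).down.toMul = Red.gmFn a.down.toMul * Red.gmFn b.down.toMul := fun T a b =>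
    Reductive.gmFn_mul a.down.toMul b.down.toMul
  let ga := fun (n : ℕ) (P : MvPolynomial (Fin n) (BR R)) =>
    Reductive.gaMk (specObj (GaField.base R) (MvPolynomial (Fin n) (BR R))) (toΓ (GaField.base R) _ P)
  have hga : ∀ (n : ℕ) (P Q : MvPolynomial (Fin n) (BR R)), ga n P * ga n Q = ga n (P + Q) := fun n P Q =>
    Reductive.gaFn_injective (by
      rw [Reductive.gaFn_mul, Reductive.gaFn_gaMk, Reductive.gaFn_gaMk, Reductive.gaFn_gaMk]
      exact (map_add _ P Q).symm)
  have hev : ∀ (n : ℕ) (P Q : MvPolynomial (Fin n) (BR R)),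
      Red.gmFn (cc _ (ga n P) (ga n Q)).down.toMul =
        toΓ (GaField.base R) (MvPolynomial (Fin n) (BR R)) (MvPolynomial.aeval ![P, Q] cpol) := by
    intro n P Q
    rw [hval, Reductive.gaFn_gaMk, Reductive.gaFn_gaMk, ← toΓ_aeval]
    refine congrArg (fun v => MvPolynomial.eval₂ _ v cpol) (funext fun i => ?_)
    fin_cases i <;> rfl
  have hinj : ∀ (n : ℕ), Function.Injective (toΓ (GaField.base R) (MvPolynomial (Fin n) (BR R))) :=
    fun n a b h => by simpa only [ofΓ_toΓ] using congrArg (ofΓ (GaField.base R) (MvPolynomial (Fin n) (BR R))) h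
  have hMC : SymCocycle.IsMC cpol := by
    refine ⟨hinj 2 ?_, hinj 3 ?_⟩
    · have h : cc _ (ga 2 (MvPolynomial.X 1)) (ga 2 (MvPolynomial.X 0)) =
          cc _ (ga 2 (MvPolynomial.X 0)) (ga 2 (MvPolynomial.X 1)) := by
        refine hι _ ?_
        have h1 := hc _ (ga 2 (MvPolynomial.X 1)) (ga 2 (MvPolynomial.X 0))
        rw [hga, add_comm (MvPolynomial.X 1), ← hga, hc,
          add_comm (s₀ _ (ga 2 (MvPolynomial.X 1))) (s₀ _ (ga 2 (MvPolynomial.X 0)))] at h1
        exact (add_left_cancel h1).symm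
      have h' := congrArg (fun a => Red.gmFn a.down.toMul) h
      simp only [hev] at h'
      rw [h']
      refine congrArg (toΓ (GaField.base R) _) ?_
      rw [show (![MvPolynomial.X 0, MvPolynomial.X 1] : Fin 2 → MvPolynomial (Fin 2) (BR R)) = MvPolynomial.X from
        funext fun i => by fin_cases i <;> rfl, MvPolynomial.aeval_X_left_apply]
    · let x := ga 3 (MvPolynomial.X 0)
      let y := ga 3 (MvPolynomial.X 1)
      let z := ga 3 (MvPolynomial.X 2)
      have h : cc _ x (y * z) + cc _ y z = cc _ (x * y) z + cc _ x y := by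
        refine hι _ ?_
        rw [map_add, map_add]
        have h1 := hc _ x (y * z)
        rw [hc _ y z, ← _root_.mul_assoc, hc _ (x * y) z, hc _ x y] at h1
        refine add_left_cancel (a := s₀ _ x + s₀ _ y + s₀ _ z) ?_
        convert h1.symm using 1 <;> abel
      have h' := congrArg (fun a => Red.gmFn a.down.toMul) h
      rw [map_mul, map_mul, ← hev, ← hev, ← hev, ← hev, ← hga, ← hga]
      exact (hmul _ _ _).symm.trans (h'.trans (hmul _ _ _))
  obtain ⟨d, hd, hdc⟩ := SymCocycle.exists_unit_poly p hFB hcpol hMC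
  have hdu : ∀ (T : Over (Spec R)) (a : Γ(T.left, ⊤)), IsUnit (d.eval₂ (cst R T) a) := fun T a =>
    hd.map (Polynomial.eval₂RingHom (cst R T) a)
  let κ : ∀ (T : Over (Spec R)), (T ⟶ Red.Ga (Spec R)) →
      (CGrpSh2.Gm Scheme.fppfPrecoverage (Spec R)).obj.obj (op T) := fun T x =>
    ULift.up (Additive.ofMul (Reductive.gmMk T (hdu T (Red.gaFn x)).unit))
  have hκ : ∀ (T : Over (Spec R)) (x : T ⟶ Red.Ga (Spec R)),
      Red.gmFn (κ T x).down.toMul = d.eval₂ (cst R T) (Red.gaFn x) := fun T x =>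
    (Reductive.gmFn_gmMk _).trans (IsUnit.unit_spec _)
  have hκadd : ∀ (T : Over (Spec R)) (x y : T ⟶ Red.Ga (Spec R)),
      κ T (x * y) + cc T x y = κ T x + κ T y := by
    intro T x y
    refine ULift.ext _ _ (congrArg Additive.ofMul (Reductive.gmFn_injective ?_))
    show Red.gmFn (κ T (x * y) + cc T x y).down.toMul = Red.gmFn (κ T x + κ T y).down.toMul
    rw [hmul, hmul, hκ, hκ, hκ, hval, Reductive.gaFn_mul, mul_comm]
    have h := congrArg (MvPolynomial.eval₂Hom (cst R T) ![Red.gaFn x, Red.gaFn y]) hdc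
    simp only [map_mul] at h
    have e : ∀ q : MvPolynomial (Fin 2) (BR R),
        MvPolynomial.eval₂Hom (cst R T) ![Red.gaFn x, Red.gaFn y] (Polynomial.aeval q d) =
          d.eval₂ (cst R T) (MvPolynomial.eval₂Hom (cst R T) ![Red.gaFn x, Red.gaFn y] q) := by
      intro q
      rw [Polynomial.aeval_def, Polynomial.hom_eval₂]
      exact congrArg (fun f => d.eval₂ f _) (RingHom.ext fun b => MvPolynomial.eval₂_C _ _ b)
    simp only [e, map_add, MvPolynomial.eval₂Hom_X'] at h
    exact h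
  refine ⟨ObjectProperty.homMk
    { app := fun T => AddCommGrpCat.ofHom (AddMonoidHom.mk'
        (fun z => s₀ (unop T) z.down.toMul + ιE.hom.app T (κ (unop T) z.down.toMul)) fun z z' => ?_)
      naturality := fun T T' m => AddCommGrpCat.ext fun z => ?_ }, ?_⟩
  · show s₀ (unop T) (z.down.toMul * z'.down.toMul) +
      ιE.hom.app (op (unop T)) (κ (unop T) (z.down.toMul * z'.down.toMul)) = _
    rw [hc, add_assoc (s₀ _ _ + s₀ _ _), ← map_add, add_comm (cc _ _ _), hκadd, map_add]
    show _ + (ιE.hom.app T (κ (unop T) z.down.toMul) + ιE.hom.app T (κ (unop T) z'.down.toMul)) = _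
    abel
  · show E.obj.map (m.unop ≫ z.down.toMul).op e + ιE.hom.app T' (κ (unop T') (m.unop ≫ z.down.toMul)) =
      E.obj.map m (E.obj.map z.down.toMul.op e + ιE.hom.app T (κ (unop T) z.down.toMul))
    rw [map_add, show E.obj.map m (ιE.hom.app T (κ (unop T) z.down.toMul)) =
      ιE.hom.app T' ((CGrpSh2.Gm Scheme.fppfPrecoverage (Spec R)).obj.map m (κ (unop T) z.down.toMul)) from
      (ConcreteCategory.congr_hom (ιE.hom.naturality m) _).symm]
    refine congrArg₂ (· + ·) (Groth.AbSchBiext.map_map E.obj z.down.toMul m.unop e).symm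
      (congrArg (fun w => ιE.hom.app T' w) ?_)
    refine ULift.ext _ _ (congrArg Additive.ofMul (Reductive.gmFn_injective ?_))
    show Red.gmFn (κ (unop T') (m.unop ≫ z.down.toMul)).down.toMul =
      Red.gmFn (m.unop ≫ (κ (unop T) z.down.toMul).down.toMul)
    rw [hκ, Reductive.gmFn_comp, hκ, Polynomial.hom_eval₂, cst_comp, Reductive.gaFn_comp]
  · refine Sheaf.hom_ext (NatTrans.ext (funext fun T => AddCommGrpCat.ext fun z => ?_))
    show πE.hom.app T (s₀ (unop T) z.down.toMul + ιE.hom.app T (κ (unop T) z.down.toMul)) = z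
    rw [map_add]
    refine (congrArg₂ (· + ·) (hπs (unop T) _) (hπι (unop T) _)).trans ?_
    exact add_zero _

include hF in
/-- `Ext¹(G_a, G_m) = 0` over a semiperfect base. -/
theorem subsingleton_ext_one_Ga_Gm :
    Subsingleton (Abelian.Ext (CGrpSh2.Ga Scheme.fppfPrecoverage (Spec R))
      (CGrpSh2.Gm Scheme.fppfPrecoverage (Spec R)) 1) :=
  GaSplit.subsingleton_ext_one_of_split fun _ ιE πE hι hπι hker hepi =>
    exists_section p R hF ιE πE hι hπι hker hepi

end Groth.GaDual.GaSemiperfect
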