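import Groth.Agent.AbSchBiext.Main
import Mathlib.CategoryTheory.Sites.SheafCohomology.Basic

/-!
`H¹(𝓗om(F, G))` vanishes when `Ext¹(F, G)` does.
-/

set_option autoImplicit false
set_option backward.isDefEq.respectTransparency false
set_option linter.style.haveILetI false
set_option linter.unusedSectionVars false
set_option maxHeartbeats 1000000

universe u

open CategoryTheory Opposite Limits Groth.AbSchBiext

noncomputable section

namespace Groth.GaDual.HomTorsor

variable {C : Type (u + 1)} [Category.{u} C] {J : GrothendieckTopology C}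
  [HasSheafify J AddCommGrpCat.{u + 1}] [J.WEqualsLocallyBijective AddCommGrpCat.{u + 1}]

/-- The presheaf of integers. -/
abbrev ZP (C : Type (u + 1)) [Category.{u} C] : Cᵒᵖ ⥤ AddCommGrpCat.{u + 1} :=
  (Functor.const Cᵒᵖ).obj (AddCommGrpCat.of (ULift.{u + 1} ℤ))

/-- The constant sheaf of integers. -/
abbrev ZS (J : GrothendieckTopology C) [HasSheafify J AddCommGrpCat.{u + 1}] :
    Sheaf J AddCommGrpCat.{u + 1} :=
  (constantSheaf J AddCommGrpCat.{u + 1}).obj (AddCommGrpCat.of (ULift.{u + 1} ℤ))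

/-- Sections of the constant presheaf in the constant sheaf. -/
def cst (T : C) : (ZP C).obj (op T) →+ (ZS J).obj.obj (op T) :=
  ((toSheafify J (ZP C)).app (op T)).hom

/-- The section one. -/
def one (T : C) : (ZS J).obj.obj (op T) := cst T (ULift.up 1)

lemma zsmul_one (T : C) (n : ℤ) : n • one (J := J) T = cst T (ULift.up n) := by
  rw [one, ← map_zsmul]
  exact congrArg _ (ULift.ext _ _ (show n • (1 : ℤ) = n by simp))

lemma map_cst {T U : C} (f : U ⟶ T) (n : ULift.{u + 1} ℤ) :
    (ZS J).obj.map f.op (cst T n) = cst U n :=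
  (ConcreteCategory.congr_hom ((toSheafify J (ZP C)).naturality f.op) n).symm

lemma map_one {T U : C} (f : U ⟶ T) : (ZS J).obj.map f.op (one T) = one U := map_cst f _

lemma eq_locally {T : C} {n m : ℤ} (h : n • one (J := J) T = m • one T) :
    ∃ R ∈ J T, ∀ ⦃U : C⦄ (f : U ⟶ T), R f → n = m := by
  rw [zsmul_one, zsmul_one] at h
  exact ⟨Presheaf.equalizerSieve (F := ZP C) (X := op T) (ULift.up n) (ULift.up m),
    Presheaf.equalizerSieve_mem J (toSheafify J (ZP C)) (X := op T) (ULift.up n) (ULift.up m) h,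
    fun U f hf => congrArg ULift.down (show (ULift.up.{u + 1} n) = ULift.up m from hf)⟩

lemma exists_zsmul_one {T : C} (z : (ZS J).obj.obj (op T)) :
    ∃ R ∈ J T, ∀ ⦃U : C⦄ (f : U ⟶ T), R f → ∃ n : ℤ, (ZS J).obj.map f.op z = n • one U := by
  refine ⟨_, Presheaf.imageSieve_mem J (toSheafify J (ZP C)) z, fun U f hf => ?_⟩
  obtain ⟨m, hm⟩ := hf
  refine ⟨m.down, ?_⟩
  rw [zsmul_one]
  exact hm.symm

lemma val_zsmul {Q X : Sheaf J AddCommGrpCat.{u + 1}} {T : C} (φ : Q.over T ⟶ X.over T) (U : C)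
    (f : U ⟶ T) (n : ℤ) (q : Q.obj.obj (op U)) : val φ U f (n • q) = n • val φ U f q :=
  map_zsmul (φ.hom.app (op (Over.mk f))).hom n q

variable {H E G : Sheaf J AddCommGrpCat.{u + 1}} (ι : H ⟶ E) (π : E ⟶ ZS J)
  (hι : ∀ T : C, Function.Injective (ι.hom.app (op T)))
  (hπι : ∀ (T : C) (h : H.obj.obj (op T)), π.hom.app (op T) (ι.hom.app (op T) h) = 0)
  (hker : ∀ (T : C) (x : E.obj.obj (op T)), π.hom.app (op T) x = 0 → ∃ h, ι.hom.app (op T) h = x)
  (hepi : Sheaf.IsLocallySurjective π)

include hι hπι hker in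
/-- Extending a local morphism by a value on a lift of one. -/
theorem exists_ext_hom {T : C} (e : E.obj.obj (op T)) (he : π.hom.app (op T) e = one T)
    (φ : H.over T ⟶ G.over T) (g₀ : G.obj.obj (op T)) :
    ∃ ψ : E.over T ⟶ G.over T,
      (∀ (U : C) (f : U ⟶ T) h, val ψ U f (ι.hom.app (op U) h) = val φ U f h) ∧
      ∀ (U : C) (f : U ⟶ T), val ψ U f (E.obj.map f.op e) = G.obj.map f.op g₀ := by
  let p : ∀ {U : C} (f : U ⟶ T), E.obj.obj (op U) → G.obj.obj (op U) → Prop := fun {U} f x y =>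
    ∃ (h : H.obj.obj (op U)) (n : ℤ), x = ι.hom.app (op U) h + n • E.obj.map f.op e ∧
      y = val φ U f h + n • G.obj.map f.op g₀
  have hπmap : ∀ {U V : C} (g : V ⟶ U) (x : E.obj.obj (op U)),
      π.hom.app (op V) (E.obj.map g.op x) = (ZS J).obj.map g.op (π.hom.app (op U) x) := fun g x =>
    ConcreteCategory.congr_hom (π.hom.naturality g.op) x
  have hιmap : ∀ {U V : C} (g : V ⟶ U) (h : H.obj.obj (op U)),
      ι.hom.app (op V) (H.obj.map g.op h) = E.obj.map g.op (ι.hom.app (op U) h) := fun g h =>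
    ConcreteCategory.congr_hom (ι.hom.naturality g.op) h
  have hπe : ∀ {U : C} (f : U ⟶ T), π.hom.app (op U) (E.obj.map f.op e) = one U := fun f => by
    rw [hπmap, he, map_one]
  have hres : ∀ {U V : C} (g : V ⟶ U) (f : U ⟶ T) x y, p f x y →
      p (g ≫ f) (E.obj.map g.op x) (G.obj.map g.op y) := by
    rintro U V g f x y ⟨h, n, rfl, rfl⟩
    refine ⟨H.obj.map g.op h, n, ?_, ?_⟩
    · rw [map_add, map_zsmul, ← hιmap, map_map]
    · rw [map_add, map_zsmul, val_map, map_map]
  have huniq : ∀ {U : C} (f : U ⟶ T) x y y', p f x y → p f x y' → y = y' := by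
    rintro U f x y y' ⟨h, n, hx, rfl⟩ ⟨h', n', hx', rfl⟩
    have e1 : n • one (J := J) U = n' • one U := by
      have := congrArg (π.hom.app (op U)) (hx.symm.trans hx')
      simpa only [map_add, map_zsmul, hπι, zero_add, hπe] using this
    obtain ⟨R, hR, hn⟩ := eq_locally e1
    refine ab_ext_of_cover G hR fun V g hg => ?_
    obtain rfl := hn g hg
    have e2 : h = h' := hι U (add_right_cancel (hx.symm.trans hx'))
    rw [e2]
  have hex : ∀ {U : C} (f : U ⟶ T) (x : E.obj.obj (op U)),
      ∃ y, ∃ R ∈ J U, ∀ ⦃V : C⦄ (g : V ⟶ U), R g → p (g ≫ f) (E.obj.map g.op x) (G.obj.map g.op y) := by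
    intro U f x
    obtain ⟨R, hR, hn⟩ := exists_zsmul_one (π.hom.app (op U) x)
    obtain ⟨y, hy⟩ := exists_glue_unique (Biext.uSh J G) (T := U)
      (fun V g z => p (g ≫ f) (E.obj.map g.op x) z)
      (fun V W g' g z hz => by
        have := hres g' (g ≫ f) _ _ hz
        rw [map_map, ← Category.assoc] at this
        exact this)
      (fun V g z z' hz hz' => huniq (g ≫ f) _ _ _ hz hz') R hR (fun V g hg => by
        obtain ⟨n, hn⟩ := hn g hg
        obtain ⟨h, hh⟩ := hker V (E.obj.map g.op x - n • E.obj.map (g ≫ f).op e) (by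
          rw [map_sub, map_zsmul, hπmap, hn, hπe, sub_self])
        exact ⟨_, h, n, by rw [hh, sub_add_cancel], rfl⟩)
    exact ⟨y, R, hR, hy⟩
  choose v R hR hv using @hex
  have hchar : ∀ {U : C} (f : U ⟶ T) x y, p f x y → v f x = y := fun {U} f x y hy =>
    ab_ext_of_cover G (hR f x) fun V g hg => huniq (g ≫ f) _ _ _ (hv f x g hg) (hres g f x y hy)
  refine ⟨mkHom (fun U f x => v f x) ?_ ?_, fun U f h => ?_, fun U f => ?_⟩
  · intro U f x x'
    refine ab_ext_of_cover G (J.intersection_covering (J.intersection_covering (hR f x) (hR f x'))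
      (hR f (x + x'))) ?_
    rintro V g ⟨⟨h1, h2⟩, h3⟩
    refine huniq (g ≫ f) _ _ _ (hv f (x + x') g h3) ?_
    obtain ⟨a, n, ha, ha'⟩ := hv f x g h1
    obtain ⟨b, m, hb, hb'⟩ := hv f x' g h2
    refine ⟨a + b, n + m, ?_, ?_⟩
    · rw [map_add (E.obj.map g.op).hom, map_add, add_zsmul, ha, hb]; abel
    · rw [map_add (G.obj.map g.op).hom, val_add, add_zsmul, ha', hb']; abel
  · intro U V g f x
    refine ab_ext_of_cover G (J.intersection_covering (J.pullback_stable g (hR f x)) (hR (g ≫ f) (E.obj.map g.op x))) ?_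
    rintro W k ⟨h1, h2⟩
    refine huniq (k ≫ g ≫ f) (E.obj.map k.op (E.obj.map g.op x)) _ _ ?_ (hv (g ≫ f) _ k h2)
    have := hv f x (k ≫ g) h1
    rw [Category.assoc, ← map_map E.obj g k, ← map_map G.obj g k] at this
    exact this
  · rw [val_mkHom]
    exact hchar f _ _ ⟨h, 0, by rw [zero_smul, add_zero], by rw [zero_smul, add_zero]⟩
  · rw [val_mkHom]
    exact hchar f _ _ ⟨0, 1, by rw [map_zero, one_smul, zero_add],
      by rw [show val φ U f 0 = 0 from map_zero (φ.hom.app (op (Over.mk f))).hom, one_smul, zero_add]⟩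

include hι hπι hker hepi in
/-- A morphism is determined by its restriction and its values on lifts of one. -/
theorem hom_ext {T : C} (ψ ψ' : E.over T ⟶ G.over T)
    (h1 : ∀ (U : C) (f : U ⟶ T) h, val ψ U f (ι.hom.app (op U) h) = val ψ' U f (ι.hom.app (op U) h))
    (h2 : ∀ (U : C) (f : U ⟶ T) (e : E.obj.obj (op U)), π.hom.app (op U) e = one U →
      val ψ U f e = val ψ' U f e) : ψ = ψ' := by
  refine val_ext fun U f x => ?_
  obtain ⟨R, hR, hn⟩ := exists_zsmul_one (π.hom.app (op U) x)
  obtain ⟨R', hR', he⟩ : ∃ R' ∈ J U, ∀ ⦃V : C⦄ (g : V ⟶ U), R' g → ∃ e, π.hom.app (op V) e = one V :=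
    ⟨_, Presheaf.imageSieve_mem J π.hom (one U), fun V g ⟨e, he⟩ => ⟨e, he.trans (map_one g)⟩⟩
  refine ab_ext_of_cover G (J.intersection_covering hR hR') ?_
  rintro V g ⟨hg, hg'⟩
  obtain ⟨n, hn⟩ := hn g hg
  obtain ⟨e, he⟩ := he g hg'
  obtain ⟨h, hh⟩ := hker V (E.obj.map g.op x - n • e) (by
    rw [map_sub, map_zsmul, he, sub_eq_zero]
    exact (ConcreteCategory.congr_hom (π.hom.naturality g.op) x).trans hn)
  rw [val_map, val_map, eq_add_of_sub_eq hh.symm, val_add, val_add, h1, val_zsmul, val_zsmul]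
  exact congrArg (fun z => val ψ' V (g ≫ f) (ι.hom.app (op V) h) + n • z) (h2 V (g ≫ f) e he)

include hι hπι hker hepi in
/-- The morphism killing `H` with a prescribed value on lifts of one. -/
theorem exists_lam (T : C) (g : G.obj.obj (op T)) :
    ∃ ψ : E.over T ⟶ G.over T, (∀ (U : C) (f : U ⟶ T) h, val ψ U f (ι.hom.app (op U) h) = 0) ∧
      ∀ (U : C) (f : U ⟶ T) (e : E.obj.obj (op U)), π.hom.app (op U) e = one U →
        val ψ U f e = G.obj.map f.op g := by
  let P : ∀ ⦃U : C⦄, (U ⟶ T) → (E.over U ⟶ G.over U) → Prop := fun U f ψ =>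
    (∀ (V : C) (k : V ⟶ U) h, val ψ V k (ι.hom.app (op V) h) = 0) ∧
      ∀ (V : C) (k : V ⟶ U) (e : E.obj.obj (op V)), π.hom.app (op V) e = one V →
        val ψ V k e = G.obj.map (k ≫ f).op g
  have hmem : Presheaf.imageSieve π.hom (one T) ∈ J T := Presheaf.imageSieve_mem J π.hom (one T)
  obtain ⟨ψ, hψ⟩ := exists_glue_unique (Biext.uSh J (HomSh.homSh J E G)) (T := T) P
    (fun U V k f ψ hψ => ⟨fun W l h => hψ.1 W (l ≫ k) h, fun W l e he =>
      (hψ.2 W (l ≫ k) e he).trans (by rw [Category.assoc])⟩)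
    (fun U f ψ ψ' hψ hψ' => hom_ext ι π hι hπι hker hepi ψ ψ'
      (fun V k h => (hψ.1 V k h).trans (hψ'.1 V k h).symm)
      (fun V k e he => (hψ.2 V k e he).trans (hψ'.2 V k e he).symm))
    _ hmem (fun U f hf => by
      obtain ⟨e, he⟩ := hf
      replace he : π.hom.app (op U) e = one U := he.trans (map_one f)
      obtain ⟨ψ, h1, h2⟩ := exists_ext_hom ι π hι hπι hker e he (0 : H.over U ⟶ G.over U)
        (G.obj.map f.op g)
      refine ⟨ψ, fun V k h => (h1 V k h).trans rfl, fun V k e' he' => ?_⟩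
      obtain ⟨h, hh⟩ := hker V (e' - E.obj.map k.op e) (by
        rw [map_sub, he', sub_eq_zero]
        refine ((ConcreteCategory.congr_hom (π.hom.naturality k.op) e).trans ?_).symm
        show (ZS J).obj.map k.op (π.hom.app (op U) e) = one V
        rw [he, map_one])
      rw [eq_add_of_sub_eq hh.symm, val_add, h1, h2, map_map]
      exact zero_add _)
  refine ⟨ψ, fun U f h => ?_, fun U f e he => ?_⟩
  · refine ab_ext_of_cover G (J.pullback_stable f hmem) fun V k hk => ?_
    refine ((val_map (ψ : E.over T ⟶ G.over T) k f (ι.hom.app (op U) h)).trans ?_).trans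
      (map_zero (G.obj.map k.op).hom).symm
    refine (congrArg (val (ψ : E.over T ⟶ G.over T) V (k ≫ f))
      (ConcreteCategory.congr_hom (ι.hom.naturality k.op) h).symm).trans ?_
    exact (val_eq_of_eq (ψ : E.over T ⟶ G.over T) (Category.id_comp (k ≫ f)).symm _).trans
      ((hψ (k ≫ f) hk).1 V (𝟙 V) _)
  · refine ab_ext_of_cover G (J.pullback_stable f hmem) fun V k hk => ?_
    refine ((val_map (ψ : E.over T ⟶ G.over T) k f e).trans ?_).trans (map_map G.obj f k g).symm
    refine (val_eq_of_eq (ψ : E.over T ⟶ G.over T) (Category.id_comp (k ≫ f)).symm _).trans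
      (((hψ (k ≫ f) hk).2 V (𝟙 V) _ ?_).trans (by rw [Category.id_comp]))
    show π.hom.app (op V) (E.obj.map k.op e) = one V
    rw [show π.hom.app (op V) (E.obj.map k.op e) = (ZS J).obj.map k.op (π.hom.app (op U) e) from
      ConcreteCategory.congr_hom (π.hom.naturality k.op) e, he, map_one]

/-- The morphism killing `H` with a prescribed value on lifts of one, as a morphism of sheaves. -/
def lam : G ⟶ HomSh.homSh J E G :=
  ObjectProperty.homMk
    { app := fun T => AddCommGrpCat.ofHom (AddMonoidHom.mk'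
        (fun g => (exists_lam ι π hι hπι hker hepi (G := G) (unop T) g).choose) fun g g' => by
          have s := (exists_lam ι π hι hπι hker hepi (G := G) (unop T) g).choose_spec
          have s' := (exists_lam ι π hι hπι hker hepi (G := G) (unop T) g').choose_spec
          have s2 := (exists_lam ι π hι hπι hker hepi (G := G) (unop T) (g + g')).choose_spec
          refine hom_ext ι π hι hπι hker hepi (T := unop T) _ _ (fun U f h => ?_) fun U f e he => ?_
          · rw [val_add_hom, s2.1, s.1, s'.1, add_zero]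
          · rw [val_add_hom, s2.2 U f e he, s.2 U f e he, s'.2 U f e he, map_add])
      naturality := fun T T' k => AddCommGrpCat.ext fun g => by
        have s := (exists_lam ι π hι hπι hker hepi (G := G) (unop T) g).choose_spec
        have s' := (exists_lam ι π hι hπι hker hepi (G := G) (unop T') (G.obj.map k g)).choose_spec
        refine hom_ext ι π hι hπι hker hepi (T := unop T') _ _ (fun U f h => ?_) fun U f e he => ?_
        · exact (s'.1 U f h).trans (s.1 U (f ≫ k.unop) h).symm
        · exact (s'.2 U f e he).trans ((map_map G.obj k.unop f g).trans (s.2 U (f ≫ k.unop) e he).symm) }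

theorem lam_spec (T : C) (g : G.obj.obj (op T)) :
    (∀ (U : C) (f : U ⟶ T) h,
      val ((lam ι π hι hπι hker hepi).hom.app (op T) g : E.over T ⟶ G.over T) U f
        (ι.hom.app (op U) h) = 0) ∧
    ∀ (U : C) (f : U ⟶ T) (e : E.obj.obj (op U)), π.hom.app (op U) e = one U →
      val ((lam ι π hι hπι hker hepi).hom.app (op T) g : E.over T ⟶ G.over T) U f e =
        G.obj.map f.op g :=
  (exists_lam ι π hι hπι hker hepi (G := G) T g).choose_spec

theorem lam_comp : lam ι π hι hπι hker hepi (G := G) ≫ HomSh.homShMap J ι (𝟙 G) = 0 :=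
  Sheaf.hom_ext (NatTrans.ext (funext fun T => AddCommGrpCat.ext fun g =>
    val_ext (T := unop T) fun U f h => (lam_spec ι π hι hπι hker hepi (unop T) g).1 U f h))

include hι hπι hker hepi in
/-- The sequence `0 → G → 𝓗om(E, G) → 𝓗om(H, G) → 0` is short exact. -/
theorem dualSeq_shortExact :
    (ShortComplex.mk (lam ι π hι hπι hker hepi (G := G)) (HomSh.homShMap J ι (𝟙 G))
      (lam_comp ι π hι hπι hker hepi)).ShortExact := by
  have hlift : ∀ T : C, ∃ R ∈ J T, ∀ ⦃U : C⦄ (f : U ⟶ T), R f → ∃ e, π.hom.app (op U) e = one U :=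
    fun T => ⟨_, Presheaf.imageSieve_mem J π.hom (one T), fun U f ⟨e, he⟩ => ⟨e, he.trans (map_one f)⟩⟩
  refine Groth.AbSchBiext.shortExact_of_sections _ _ _ (fun T g g' hgg => ?_) (fun T ψ hψ => ?_) fun T φ => ?_
  · obtain ⟨R, hR, he⟩ := hlift T
    refine ab_ext_of_cover G hR fun U f hf => ?_
    obtain ⟨e, he⟩ := he f hf
    exact ((lam_spec ι π hι hπι hker hepi T g).2 U f e he).symm.trans
      ((congrArg (fun ψ : E.over T ⟶ G.over T => val ψ U f e) hgg).trans
        ((lam_spec ι π hι hπι hker hepi T g').2 U f e he))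
  · have h0 : ∀ (U : C) (f : U ⟶ T) h, val (ψ : E.over T ⟶ G.over T) U f (ι.hom.app (op U) h) = 0 :=
      fun U f h => congrArg (fun φ : H.over T ⟶ G.over T => val φ U f h) hψ
    obtain ⟨R, hR, he⟩ := hlift T
    -- the common value on lifts of one
    obtain ⟨g, hg⟩ := exists_glue_unique (Biext.uSh J G) (T := T)
      (fun U f z => ∀ (V : C) (k : V ⟶ U) (e : E.obj.obj (op V)), π.hom.app (op V) e = one V →
        val (ψ : E.over T ⟶ G.over T) V (k ≫ f) e = G.obj.map k.op z)
      (fun U V k f z hz W l e he => by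
        rw [← Category.assoc]
        exact (hz W (l ≫ k) e he).trans (map_map G.obj k l z).symm)
      (fun U f z z' hz hz' => by
        obtain ⟨R', hR', he'⟩ := hlift U
        refine ab_ext_of_cover G hR' fun V k hk => ?_
        obtain ⟨e, he⟩ := he' k hk
        exact (hz V k e he).symm.trans (hz' V k e he))
      R hR (fun U f hf => by
        obtain ⟨e, he⟩ := he f hf
        refine ⟨val (ψ : E.over T ⟶ G.over T) U f e, fun V k e' he' => ?_⟩
        show _ = G.obj.map k.op (val (ψ : E.over T ⟶ G.over T) U f e)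
        rw [val_map]
        obtain ⟨h, hh⟩ := hker V (e' - E.obj.map k.op e) (by
          rw [map_sub, he', sub_eq_zero]
          refine ((ConcreteCategory.congr_hom (π.hom.naturality k.op) e).trans ?_).symm
          show (ZS J).obj.map k.op (π.hom.app (op U) e) = one V
          rw [he, map_one])
        rw [eq_add_of_sub_eq hh.symm, val_add, h0, zero_add])
    refine ⟨g, hom_ext ι π hι hπι hker hepi _ _
      (fun U f h => ((lam_spec ι π hι hπι hker hepi T g).1 U f h).trans (h0 U f h).symm)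
      fun U f e he => ?_⟩
    rw [(lam_spec ι π hι hπι hker hepi T g).2 U f e he]
    refine ab_ext_of_cover G (J.pullback_stable f hR) fun V k hk => ?_
    rw [val_map, map_map]
    refine Eq.trans ?_ ((val_eq_of_eq _ (Category.id_comp (k ≫ f)).symm _).trans
      (hg (k ≫ f) hk V (𝟙 V) (E.obj.map k.op e) ?_)).symm
    · exact ((map_map G.obj (k ≫ f) (𝟙 V) g).trans (by rw [Category.id_comp])).symm
    · show π.hom.app (op V) (E.obj.map k.op e) = one V
      rw [show π.hom.app (op V) (E.obj.map k.op e) = (ZS J).obj.map k.op (π.hom.app (op U) e) from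
        ConcreteCategory.congr_hom (π.hom.naturality k.op) e, he, map_one]
  · obtain ⟨R, hR, he⟩ := hlift T
    refine ⟨R, hR, fun U f hf => ?_⟩
    obtain ⟨e, he⟩ := he f hf
    obtain ⟨ψ, h1, -⟩ := exists_ext_hom ι π hι hπι hker e he
      ((HomSh.homSh J H G).obj.map f.op φ : H.over U ⟶ G.over U) 0
    exact ⟨ψ, val_ext (T := U) fun V k h => h1 V k h⟩

section Main

variable [HasExt.{u + 1} (Sheaf J AddCommGrpCat.{u + 1})]

/-- An extension of the integers by an internal Hom splits when `Ext¹` vanishes. -/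
theorem exists_retraction {F : Sheaf J AddCommGrpCat.{u + 1}}
    (hFG : Subsingleton (Abelian.Ext.{u + 1} F G 1))
    {E : Sheaf J AddCommGrpCat.{u + 1}} (ι : HomSh.homSh J F G ⟶ E) (π : E ⟶ ZS J)
    (hι : ∀ T : C, Function.Injective (ι.hom.app (op T)))
    (hπι : ∀ (T : C) (h : (HomSh.homSh J F G).obj.obj (op T)), π.hom.app (op T) (ι.hom.app (op T) h) = 0)
    (hker : ∀ (T : C) (x : E.obj.obj (op T)), π.hom.app (op T) x = 0 → ∃ h, ι.hom.app (op T) h = x)
    (hepi : Sheaf.IsLocallySurjective π) :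
    ∃ r : E ⟶ HomSh.homSh J F G, ι ≫ r = 𝟙 _ := by
  have hS := dualSeq_shortExact ι π hι hπι hker hepi (G := G)
  obtain ⟨σ₀, hσ₀⟩ := Abelian.Ext.covariant_sequence_exact₃ F hS
    (Abelian.Ext.mk₀ (HomSh.bidualMap J F G)) (zero_add 1) (Subsingleton.elim _ _)
  obtain ⟨σ, rfl⟩ := (Abelian.Ext.mk₀_bijective _ _).2 σ₀
  rw [Abelian.Ext.mk₀_comp_mk₀] at hσ₀
  have hσ : σ ≫ HomSh.homShMap J ι (𝟙 G) = HomSh.bidualMap J F G :=
    (Abelian.Ext.mk₀_bijective _ _).1 hσ₀
  refine ⟨HomSh.bidualMap J E G ≫ HomSh.homShMap J σ (𝟙 G), ?_⟩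
  refine Sheaf.hom_ext (NatTrans.ext (funext fun T => AddCommGrpCat.ext fun h => ?_))
  refine val_ext (T := unop T) fun U f q => ?_
  have hq := congrArg (fun m : F ⟶ HomSh.homSh J (HomSh.homSh J F G) G =>
    val (m.hom.app (op U) q : (HomSh.homSh J F G).over U ⟶ G.over U) U (𝟙 U)
      ((HomSh.homSh J F G).obj.map f.op h)) hσ
  refine Eq.trans ?_ (hq.trans ((val_res f h U (𝟙 U) _).trans (?_)))
  · change val (σ.hom.app (op U) q : E.over U ⟶ G.over U) U (𝟙 U)
        (E.obj.map f.op (ι.hom.app T h)) = _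
    rw [← show ι.hom.app (op U) ((HomSh.homSh J F G).obj.map f.op h) = E.obj.map f.op (ι.hom.app T h) from
      ConcreteCategory.congr_hom (ι.hom.naturality f.op) h]
    rfl
  · refine (val_eq_of_eq (h : F.over (unop T) ⟶ G.over (unop T)) (Category.id_comp f) _).trans ?_
    refine congrArg (val (h : F.over (unop T) ⟶ G.over (unop T)) U f) ?_
    show F.obj.map (𝟙 U).op q = q
    rw [op_id, F.obj.map_id]
    rfl

/-- `H¹` of an internal Hom vanishes when `Ext¹` does. -/
theorem subsingleton_H_one [EnoughInjectives (Sheaf J AddCommGrpCat.{u + 1})]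
    (F : Sheaf J AddCommGrpCat.{u + 1}) (hFG : Subsingleton (Abelian.Ext.{u + 1} F G 1)) :
    Subsingleton (Sheaf.H (HomSh.homSh J F G) 1) := by
  let H := HomSh.homSh J F G
  let i := Injective.ι H
  let T := ShortComplex.mk i (cokernel.π i) (cokernel.condition i)
  have hT : T.ShortExact := { exact := ShortComplex.exact_cokernel _ }
  haveI : Injective T.X₂ := inferInstanceAs (Injective (Injective.under H))
  refine subsingleton_of_forall_eq 0 fun x => ?_
  obtain ⟨a₀, rfl⟩ := Abelian.Ext.covariant_sequence_exact₁ _ hT x (Abelian.Ext.eq_zero_of_injective _) (zero_add 1)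
  obtain ⟨a, rfl⟩ := (Abelian.Ext.mk₀_bijective _ _).2 a₀
  suffices ∃ b, b ≫ cokernel.π i = a by
    obtain ⟨b, rfl⟩ := this
    rw [← Abelian.Ext.mk₀_comp_mk₀, Abelian.Ext.comp_assoc_of_second_deg_zero, hT.comp_extClass,
      Abelian.Ext.comp_zero]
  let π : pullback a (cokernel.π i) ⟶ ZS J := pullback.fst _ _
  let ι : H ⟶ pullback a (cokernel.π i) := pullback.lift 0 i (by rw [zero_comp, cokernel.condition])
  have w : ι ≫ π = 0 := pullback.lift_fst _ _ _
  haveI : Mono ι := mono_of_mono_fac (pullback.lift_snd _ _ _ : ι ≫ pullback.snd _ _ = i)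
  have hk : IsLimit (KernelFork.ofι ι w) := KernelFork.IsLimit.ofι' ι w fun {Z} k hk => by
    have hk2 : (k ≫ pullback.snd _ _) ≫ cokernel.π i = 0 := by
      rw [Category.assoc, ← pullback.condition, ← Category.assoc]
      simp only [show k ≫ pullback.fst a (cokernel.π i) = 0 from hk, zero_comp]
    refine ⟨hT.exact.lift _ hk2, ?_⟩
    apply pullback.hom_ext
    · rw [Category.assoc]
      exact ((congrArg _ w).trans comp_zero).trans hk.symm
    · rw [Category.assoc, pullback.lift_snd]
      exact hT.exact.lift_f _ hk2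
  have hι : ∀ U : C, Function.Injective (ι.hom.app (op U)) := fun U => by
    haveI : Mono ((sheafToPresheaf J AddCommGrpCat.{u + 1} ⋙
      (evaluation Cᵒᵖ AddCommGrpCat.{u + 1}).obj (op U)).map ι) := inferInstance
    exact (AddCommGrpCat.mono_iff_injective _).1 this
  haveI : Epi π := Abelian.epi_pullback_of_epi_g _ _
  obtain ⟨r, hr⟩ := exists_retraction hFG ι π hι
    (fun U h => ConcreteCategory.congr_hom (congrArg (fun m : H ⟶ ZS J => m.hom.app (op U)) w) h)
    (fun U x hx => Groth.AbSchBiext.exists_section_of_isKernel w hk U x hx)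
    ((Sheaf.isLocallySurjective_iff_epi' (A := AddCommGrpCat.{u + 1}) π).2 inferInstance)
  have hS : (ShortComplex.mk ι π w).ShortExact :=
    { exact := ShortComplex.exact_of_f_is_kernel _ hk }
  let s := ShortComplex.Splitting.ofExactOfRetraction _ hS.exact r hr hS.epi_g
  refine ⟨s.s ≫ pullback.snd _ _, ?_⟩
  have hs : s.s ≫ π = 𝟙 _ := s.s_g
  rw [Category.assoc, ← pullback.condition, ← Category.assoc]
  exact (congrArg (· ≫ a) hs).trans (Category.id_comp a)

end Main

end Groth.GaDual.HomTorsor
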