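import Mathlib.RingTheory.Polynomial.Nilpotent
import Mathlib.Algebra.CharP.Frobenius
import Mathlib.Algebra.Polynomial.Derivative
import Mathlib.Algebra.Polynomial.Splits
import Mathlib.FieldTheory.IsAlgClosed.AlgebraicClosure
import Mathlib.RingTheory.Localization.FractionRing
import Mathlib.RingTheory.Nilpotent.Lemmas
import Mathlib.Algebra.CharP.Two
import Mathlib.Algebra.Field.ZMod

/-!
Polynomials whose divisor is divisible by `p` are `p`th powers up to nilpotents.
-/

set_option autoImplicit false
set_option linter.unusedSectionVars false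

universe u

open Polynomial

noncomputable section

namespace Groth.GaDual.LineRoots

variable (p : ℕ) [hp : Fact p.Prime] {R : Type u} [CommRing R] [CharP R p]

lemma isUnit_natCast {m : ℕ} (h : ¬ p ∣ m) : IsUnit (m : R) := by
  have : IsUnit (m : ZMod p) := (isUnit_iff_ne_zero (a := (m : ZMod p))).mpr fun h0 => h ((CharP.cast_eq_zero_iff (ZMod p) p m).mp h0)
  simpa using this.map (ZMod.castHom (dvd_refl p) R)

/-- A polynomial with nilpotent derivative is a `p`th power up to nilpotents. -/
theorem exists_pth_mod_nilpotent (hF : Function.Surjective (frobenius R p)) {a : R[X]}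
    (h : IsNilpotent (derivative a)) : ∃ v : R[X], IsNilpotent (a - v ^ p) := by
  classical
  choose root hroot using hF
  refine ⟨∑ m ∈ a.support.filter (p ∣ ·), monomial (m / p) (root (a.coeff m)), ?_⟩
  have hv : (∑ m ∈ a.support.filter (p ∣ ·), monomial (m / p) (root (a.coeff m))) ^ p =
      ∑ m ∈ a.support.filter (p ∣ ·), monomial m (a.coeff m) := by
    rw [sum_pow_char]
    refine Finset.sum_congr rfl fun m hm => ?_
    rw [monomial_pow, Nat.div_mul_cancel (Finset.mem_filter.mp hm).2, ← frobenius_def, hroot]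
  have ha : a = (∑ m ∈ a.support.filter (p ∣ ·), monomial m (a.coeff m)) +
      ∑ m ∈ a.support.filter (fun m => ¬ p ∣ m), monomial m (a.coeff m) := by
    rw [Finset.sum_filter_add_sum_filter_not]
    exact a.as_sum_support
  rw [hv]
  nth_rw 1 [ha]
  rw [add_sub_cancel_left]
  refine isNilpotent_sum fun m hm => ?_
  rw [Finset.mem_filter] at hm
  obtain ⟨k, rfl⟩ : ∃ k, m = k + 1 :=
    ⟨m - 1, by have : m ≠ 0 := fun h0 => hm.2 (h0 ▸ dvd_zero p); omega⟩
  have hk := (Polynomial.isNilpotent_iff.mp h) k
  rw [coeff_derivative, ← Nat.cast_succ] at hk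
  have hu := isUnit_natCast p (R := R) hm.2
  rw [Polynomial.isNilpotent_monomial_iff]
  exact (hu.isNilpotent_mul_unit_of_commute_iff (Commute.all _ _)).mp hk

/-- Over a field, the derivative vanishes when all root multiplicities are divisible by `p`. -/
theorem derivative_eq_zero {K : Type u} [Field K] [DecidableEq K] [IsAlgClosed K] (hK : (p : K) = 0) {A : K[X]}
    (h : ∀ r, p ∣ A.roots.count r) : derivative A = 0 := by
  have hA : A = C A.leadingCoeff * (∏ r ∈ A.roots.toFinset, (X - C r) ^ (A.roots.count r / p)) ^ p := by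
    conv_lhs => rw [(IsAlgClosed.splits A).eq_prod_roots, Finset.prod_multiset_map_count]
    rw [← Finset.prod_pow]
    refine congrArg _ (Finset.prod_congr rfl fun r _ => ?_)
    rw [← pow_mul, Nat.div_mul_cancel (h r)]
  rw [hA, derivative_C_mul, derivative_pow, hK, map_zero, zero_mul, zero_mul, mul_zero]

/-- The divisor argument. -/
theorem isNilpotent_derivative_mul {ι : Type*} (a b f : ι → R[X]) (m N : ι → ℕ)
    (hab : ∀ i, a i * b i = f i ^ N i) (hspan : Ideal.span (Set.range f) = ⊤)
    (hrel : ∀ i j, ∃ (h : R[X]) (M l : ℕ),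
      (f i * f j) ^ M * (a i * f j ^ (p * m j) * (f i * f j) ^ (p * l)) =
        (f i * f j) ^ M * (a j * f i ^ (p * m i) * h ^ p)) (i : ι) :
    IsNilpotent (derivative (a i) * f i) := by
  classical
  refine Polynomial.isNilpotent_iff.mpr fun n => ?_
  rw [nilpotent_iff_mem_prime]
  intro P hP
  let φ : R →+* AlgebraicClosure (FractionRing (R ⧸ P)) :=
    ((algebraMap (FractionRing (R ⧸ P)) (AlgebraicClosure (FractionRing (R ⧸ P)))).comp
      (algebraMap (R ⧸ P) (FractionRing (R ⧸ P)))).comp (Ideal.Quotient.mk P)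
  suffices (derivative (a i) * f i).map φ = 0 by
    have h0 := congrArg (coeff · n) this
    simp only [coeff_map, coeff_zero] at h0
    exact Ideal.Quotient.eq_zero_iff_mem.mp (IsFractionRing.injective (R ⧸ P) (FractionRing (R ⧸ P))
      (((algebraMap (FractionRing (R ⧸ P)) (AlgebraicClosure (FractionRing (R ⧸ P)))).injective
        (h0.trans (map_zero _).symm)).trans (map_zero _).symm))
  rw [Polynomial.map_mul, ← derivative_map]
  by_cases hi : (f i).map φ = 0
  · rw [hi, mul_zero]
  have hK : (p : AlgebraicClosure (FractionRing (R ⧸ P))) = 0 := by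
    rw [← map_natCast φ, CharP.cast_eq_zero, map_zero]
  rw [derivative_eq_zero p hK, zero_mul]
  intro r
  obtain ⟨j, hj⟩ : ∃ j, ((f j).map φ).eval r ≠ 0 := by
    by_contra hcon
    push Not at hcon
    have h1 : Ideal.span (Set.range f) ≤ RingHom.ker (eval₂RingHom φ r) :=
      Ideal.span_le.mpr fun _ ⟨j, hj⟩ => by
        rw [SetLike.mem_coe, RingHom.mem_ker, coe_eval₂RingHom, ← hj, ← eval_map]
        exact hcon j
    rw [hspan] at h1
    have := h1 (Submodule.mem_top : (1 : R[X]) ∈ _)
    rw [RingHom.mem_ker, map_one] at this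
    exact one_ne_zero this
  have hj0 : (f j).map φ ≠ 0 := fun h0 => hj (by rw [h0, eval_zero])
  have hnz : ∀ k, (f k).map φ ≠ 0 → (a k).map φ ≠ 0 := fun k hk h0 => by
    have h1 := congrArg (Polynomial.map φ) (hab k)
    rw [Polynomial.map_mul, h0, zero_mul, Polynomial.map_pow] at h1
    exact pow_ne_zero _ hk h1.symm
  have haj : ((a j).map φ).eval r ≠ 0 := fun h0 => by
    have h1 := congrArg (fun q => (q.map φ).eval r) (hab j)
    simp only [Polynomial.map_mul, eval_mul, h0, zero_mul, Polynomial.map_pow, eval_pow] at h1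
    exact pow_ne_zero _ hj h1.symm
  obtain ⟨H, M, l, hH⟩ := hrel i j
  have e := congrArg (Polynomial.map φ) hH
  simp only [Polynomial.map_mul, Polynomial.map_pow] at e
  replace e := mul_left_cancel₀ (pow_ne_zero _ (mul_ne_zero hi hj0)) e
  have hl := mul_ne_zero (mul_ne_zero (hnz i hi) (pow_ne_zero (p * m j) hj0)) (pow_ne_zero (p * l) (mul_ne_zero hi hj0))
  have hr := e ▸ hl
  have hH0 : H.map φ ≠ 0 := fun h0 => hr (by rw [h0, zero_pow hp.out.ne_zero, mul_zero])
  have hc := congrArg (fun q : (AlgebraicClosure (FractionRing (R ⧸ P)))[X] => q.roots.count r) e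
  have z : ∀ q : (AlgebraicClosure (FractionRing (R ⧸ P)))[X], q.eval r ≠ 0 → q.roots.count r = 0 :=
    fun q hq => Multiset.count_eq_zero.mpr fun hmem => hq (isRoot_of_mem_roots hmem)
  rw [mul_pow] at hc
  simp only [roots_mul hr, roots_mul (mul_ne_zero (hnz j hj0) (pow_ne_zero (p * m i) hi)),
    roots_mul (mul_ne_zero (mul_ne_zero (hnz i hi) (pow_ne_zero (p * m j) hj0))
      (mul_ne_zero (pow_ne_zero (p * l) hi) (pow_ne_zero (p * l) hj0))),
    roots_mul (mul_ne_zero (hnz i hi) (pow_ne_zero (p * m j) hj0)),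
    roots_mul (mul_ne_zero (pow_ne_zero (p * l) hi) (pow_ne_zero (p * l) hj0)),
    roots_pow, Multiset.count_add, Multiset.count_nsmul, z _ hj, z _ haj, mul_zero, add_zero, zero_add] at hc
  have hd : p ∣ ((a i).map φ).roots.count r + p * l * ((f i).map φ).roots.count r := by
    rw [hc]
    exact dvd_add (dvd_mul_of_dvd_left (dvd_mul_right _ _) _) (dvd_mul_right _ _)
  exact (Nat.dvd_add_left (dvd_mul_of_dvd_left (dvd_mul_right _ _) _)).mp hd

end Groth.GaDual.LineRoots
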