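import Groth.Agent.GaDual.GaCohomology
import Groth.Agent.MiscGeom.AdeqGlobal
import Groth.Agent.S6005

/-!
Extensions by `G_m` on the big fppf site have Zariski local sections (Hilbert 90).
-/

set_option autoImplicit false
set_option backward.isDefEq.respectTransparency false
set_option linter.style.haveILetI false

universe u

open CategoryTheory MonoidalCategory CartesianMonoidalCategory MonObj GrpObj AlgebraicGeometry Opposite
open Adeq Groth.MiscGeom.Adq Groth.MiscGeom.Adq.Cech
open scoped TensorProduct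

noncomputable section

namespace Groth.GaDual

variable {S : Scheme.{u}} {R : CommRingCat.{u}} (a : Spec R ⟶ S)

/-- The fppf property. -/
abbrev Pf : MorphismProperty Scheme.{u} := @Flat ⊓ @LocallyOfFinitePresentation

/-- The section of `G_m` with prescribed coordinate on an affine object. -/
def unitSec (B : Alg R) (b : (B : Type u)ˣ) : (affF a (CGrpSh.ptsPre (Red.Gm S))).obj B :=
  ULift.up (Additive.ofMul (Reductive.gmMk ((specOver a).obj (op B))
    (Units.map (Scheme.ΓSpecIso (CommRingCat.of B)).inv.hom.toMonoidHom b)))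

/-- The coordinate of a section of `G_m` on an affine object. -/
def unitCoord (B : Alg R) (x : (affF a (CGrpSh.ptsPre (Red.Gm S))).obj B) : (B : Type u) :=
  (Scheme.ΓSpecIso (CommRingCat.of B)).hom (Red.gmFn x.down.toMul)

lemma unitCoord_unitSec (B : Alg R) (b : (B : Type u)ˣ) : unitCoord a B (unitSec a B b) = b := by
  show (Scheme.ΓSpecIso (CommRingCat.of B)).hom
    (Red.gmFn (Reductive.gmMk ((specOver a).obj (op B)) _) : Γ(Spec (CommRingCat.of B), ⊤)) = _
  rw [Reductive.gmFn_gmMk]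
  exact congr($((Scheme.ΓSpecIso (CommRingCat.of B)).inv_hom_id) (b : (B : Type u)))

lemma unitCoord_add (B : Alg R) (x y : (affF a (CGrpSh.ptsPre (Red.Gm S))).obj B) :
    unitCoord a B (x + y) = unitCoord a B x * unitCoord a B y := by
  show (Scheme.ΓSpecIso (CommRingCat.of B)).hom (Red.gmFn (x.down.toMul * y.down.toMul)) = _
  rw [Reductive.gmFn_mul]
  exact map_mul (Scheme.ΓSpecIso (CommRingCat.of B)).hom.hom _ _

lemma unitCoord_injective (B : Alg R) : Function.Injective (unitCoord a B) := fun x y h =>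
  ULift.ext _ _ (congrArg Additive.ofMul (Reductive.gmFn_injective
    ((Scheme.ΓSpecIso (CommRingCat.of B)).commRingCatIsoToRingEquiv.injective h)))

lemma unitCoord_map {B B' : Alg R} (f : B ⟶ B') (x : (affF a (CGrpSh.ptsPre (Red.Gm S))).obj B) :
    unitCoord a B' ((affF a (CGrpSh.ptsPre (Red.Gm S))).map f x) = f.hom (unitCoord a B x) := by
  show (Scheme.ΓSpecIso (CommRingCat.of B')).hom (Red.gmFn ((specOver a).map f.op ≫ x.down.toMul)) = _
  rw [Reductive.gmFn_comp]
  exact ConcreteCategory.congr_hom (Scheme.ΓSpecIso_naturality (CommRingCat.ofHom f.hom.toRingHom))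
    (Red.gmFn x.down.toMul)

lemma isUnit_unitCoord (B : Alg R) (x : (affF a (CGrpSh.ptsPre (Red.Gm S))).obj B) :
    IsUnit (unitCoord a B x) :=
  (Reductive.isUnit_gmFn x.down.toMul).map (Scheme.ΓSpecIso (CommRingCat.of B)).hom.hom

variable {E Q : BigSite.Ab Scheme.fppfPrecoverage S}
  (ιE : CGrpSh2.Gm Scheme.fppfPrecoverage S ⟶ E) (πE : E ⟶ Q)

/-- `ιE` on affine objects. -/
abbrev ιA : affF a (CGrpSh.ptsPre (Red.Gm S)) ⟶ affF a E.obj :=
  Functor.whiskerLeft (opOp (Alg R) ⋙ (specOver a).op) ιE.hom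

/-- `πE` on affine objects. -/
abbrev πA : affF a E.obj ⟶ affF a Q.obj :=
  Functor.whiskerLeft (opOp (Alg R) ⋙ (specOver a).op) πE.hom

lemma app_map {F G : Alg R ⥤ AddCommGrpCat.{u + 1}} (φ : F ⟶ G) {B B' : Alg R} (f : B ⟶ B') (x : F.obj B) :
    φ.app B' (F.map f x) = G.map f (φ.app B x) := ConcreteCategory.congr_hom (φ.naturality f) x

/-- The structure map from the base algebra. -/
def baseHom (B : Alg R) : base (R : Type u) ⟶ B := CommAlgCat.ofHom (Algebra.ofId R B)

lemma baseHom_ext {B : Alg R} (f g : base (R : Type u) ⟶ B) : f = g :=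
  CommAlgCat.hom_ext (AlgHom.ext fun r => (f.hom.commutes r).trans (g.hom.commutes r).symm)

/-- Over a faithfully flat fppf algebra with a lift, the failure to descend is a unit cocycle; so
lifts exist Zariski locally. -/
theorem exists_zariski_lift
    (hι : ∀ T : Over S, Function.Injective (ιE.hom.app (op T)))
    (hπι : ∀ (T : Over S) (h : (CGrpSh2.Gm Scheme.fppfPrecoverage S).obj.obj (op T)),
      πE.hom.app (op T) (ιE.hom.app (op T) h) = 0)
    (hker : ∀ (T : Over S) (x : E.obj.obj (op T)), πE.hom.app (op T) x = 0 →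
      ∃ h, ιE.hom.app (op T) h = x)
    (hepi : Sheaf.IsLocallySurjective πE)
    (q : (affF a Q.obj).obj (base (R : Type u))) (x : PrimeSpectrum R) :
    ∃ (f : R) (_ : f ∉ x.asIdeal) (e : (affF a E.obj).obj (algOf R (Localization.Away f))),
      (πA a πE).app _ e = (affF a Q.obj).map (baseHom _) q := by
  haveI : BigSite.OSh (Scheme.precoverage Pf.{u}) := inferInstanceAs (BigSite.OSh Scheme.fppfPrecoverage.{u})
  haveI : Sheaf.IsLocallySurjective πE := hepi
  haveI : Presheaf.IsLocallySurjective (QuotSh.J (Scheme.precoverage Pf.{u}) S) πE.hom := hepi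
  obtain ⟨κ, hκ, Bk, g, hg, hgs, hmem⟩ := exists_affine_refinement (P := Pf) goodProp_fppf a
    (B := base (R : Type u)) (T := Presheaf.imageSieve πE.hom q) (Presheaf.imageSieve_mem _ πE.hom q)
  have hlift : ∀ k, ∃ e : (affF a E.obj).obj (Bk k), (πA a πE).app _ e = (affF a Q.obj).map (g k) q :=
    fun k => hmem k
  choose ek hek using hlift
  let B : Alg R := prodAlg Bk
  have hPB : Pf (bB B) := stableProd_fppf Bk fun k => by
    have h := hg k
    rwa [show specHom (g k) = bB (Bk k) from congrArg (fun φ => Spec.map (CommRingCat.ofHom φ))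
      ((g k).hom.comp_algebraMap.symm.trans (by simp)).symm] at h
  have hBs : ∀ y : PrimeSpectrum R, y ∈ Set.range (PrimeSpectrum.comap (algebraMap R B)) := fun y => by
    obtain ⟨k, z, hz⟩ := hgs y
    refine ⟨PrimeSpectrum.comap (prodProj Bk k).hom.toRingHom z, hz ▸ ?_⟩
    rw [← PrimeSpectrum.comap_comp_apply]
    exact congrArg (fun φ => PrimeSpectrum.comap φ z)
      (RingHom.ext fun r => ((prodProj Bk k).hom.commutes r).trans ((g k).hom.commutes r).symm)
  haveI : Module.FaithfullyFlat R B := faithfullyFlat_of_cover goodProp_fppf B hPB hBs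
  obtain ⟨e, he⟩ := ab_prod a goodProp_fppf E.property Bk ek
  have heπ : (πA a πE).app B e = (affF a Q.obj).map (baseHom B) q := by
    refine sub_eq_zero.1 (ab_sep a goodProp_fppf Q.property (prodProj Bk) (prodProj_covering goodProp_fppf Bk).1
      (prodProj_covering goodProp_fppf Bk).2 _ fun k => ?_)
    rw [map_sub, ← app_map, he, hek, affF_map_comp, baseHom_ext (baseHom B ≫ prodProj Bk k) (g k), sub_self]
  have hπe : ∀ {C : Alg R} (p : B ⟶ C), (πA a πE).app C ((affF a E.obj).map p e) =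
      (affF a Q.obj).map (baseHom C) q := fun p => by
    rw [app_map, heπ, affF_map_comp, baseHom_ext (baseHom B ≫ p) (baseHom _)]
  let C2 : Alg R := algOf R ((B : Type u) ⊗[R] (B : Type u))
  let iL : B ⟶ C2 := CommAlgCat.ofHom (Algebra.TensorProduct.includeLeft : (B : Type u) →ₐ[R] _)
  let iR : B ⟶ C2 := CommAlgCat.ofHom (Algebra.TensorProduct.includeRight : (B : Type u) →ₐ[R] _)
  obtain ⟨g₀, hg₀⟩ := hker ((specOver a).obj (op C2))
    ((affF a E.obj).map iR e - (affF a E.obj).map iL e) (by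
      show (πA a πE).app C2 _ = 0
      rw [map_sub, hπe iR, hπe iL, sub_self])
  let u₀ : (B : Type u) ⊗[R] (B : Type u) := unitCoord a C2 g₀
  have hu : IsUnit u₀ := isUnit_unitCoord a C2 g₀
  have hw : ∀ {C : Alg R} (w : C2 ⟶ C), (ιA a ιE).app C ((affF a (CGrpSh.ptsPre (Red.Gm S))).map w g₀) =
      (affF a E.obj).map (iR ≫ w) e - (affF a E.obj).map (iL ≫ w) e := fun w => by
    rw [app_map, show (ιA a ιE).app C2 g₀ = _ from hg₀, map_sub, affF_map_comp, affF_map_comp]
  have hc : Pi1Tors.p13 u₀ = Pi1Tors.p23 u₀ * Pi1Tors.p12 u₀ := by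
    let C3 : Alg R := algOf R ((B : Type u) ⊗[R] ((B : Type u) ⊗[R] (B : Type u)))
    let w13 : C2 ⟶ C3 := CommAlgCat.ofHom (Pi1Tors.p13 (A := (R : Type u)) (B := (B : Type u)))
    let w12 : C2 ⟶ C3 := CommAlgCat.ofHom (Pi1Tors.p12 (A := (R : Type u)) (B := (B : Type u)))
    let w23 : C2 ⟶ C3 := CommAlgCat.ofHom (Pi1Tors.p23 (A := (R : Type u)) (B := (B : Type u)))
    have e1 : iL ≫ w13 = iL ≫ w12 := by
      refine CommAlgCat.hom_ext (AlgHom.ext fun b => ?_)
      show Pi1Tors.p13 (b ⊗ₜ[(R : Type u)] (1 : (B : Type u))) = Pi1Tors.p12 (b ⊗ₜ[(R : Type u)] (1 : (B : Type u)))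
      rw [Pi1Tors.p13_tmul, Pi1Tors.p12_tmul]
    have e2 : iR ≫ w13 = iR ≫ w23 := by
      refine CommAlgCat.hom_ext (AlgHom.ext fun b => ?_)
      show Pi1Tors.p13 ((1 : (B : Type u)) ⊗ₜ[(R : Type u)] b) = Pi1Tors.p23 ((1 : (B : Type u)) ⊗ₜ[(R : Type u)] b)
      rw [Pi1Tors.p13_tmul, Pi1Tors.p23_tmul]
    have e3 : iR ≫ w12 = iL ≫ w23 := by
      refine CommAlgCat.hom_ext (AlgHom.ext fun b => ?_)
      show Pi1Tors.p12 ((1 : (B : Type u)) ⊗ₜ[(R : Type u)] b) = Pi1Tors.p23 (b ⊗ₜ[(R : Type u)] (1 : (B : Type u)))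
      rw [Pi1Tors.p12_tmul, Pi1Tors.p23_tmul]
    have h : (affF a (CGrpSh.ptsPre (Red.Gm S))).map w13 g₀ =
        (affF a (CGrpSh.ptsPre (Red.Gm S))).map w23 g₀ + (affF a (CGrpSh.ptsPre (Red.Gm S))).map w12 g₀ := by
      refine hι _ ?_
      show (ιA a ιE).app C3 _ = (ιA a ιE).app C3 _
      rw [map_add, hw, hw, hw, e1, e2, e3]
      abel
    have h2 := congrArg (unitCoord a C3) h
    rw [unitCoord_add, unitCoord_map, unitCoord_map, unitCoord_map] at h2
    exact h2
  obtain ⟨f, hfx, m, n, hm, hn⟩ := Groth.Agent.S6005.exists_unit_solution u₀ hu hc x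
  refine ⟨f, hfx, ?_⟩
  let Rf : Alg R := algOf R (Localization.Away f)
  let B' : Alg R := algOf R ((Rf : Type u) ⊗[R] (B : Type u))
  let i : Rf ⟶ B' := CommAlgCat.ofHom (Algebra.TensorProduct.includeLeft : (Rf : Type u) →ₐ[R] _)
  let j : B ⟶ B' := CommAlgCat.ofHom (Algebra.TensorProduct.includeRight : (B : Type u) →ₐ[R] _)
  haveI := goodProp_fppf.{u}.bc
  have hi : Pf (specHom i) := MorphismProperty.of_isPullback
    (isPullback_SpecMap_of_isPushout _ _ _ _ (CommRingCat.isPushout_tensorProduct R (Rf : Type u) (B : Type u))).flip hPB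
  have his : ∀ y : PrimeSpectrum Rf, ∃ _k : PUnit.{u + 1},
      y ∈ Set.range (PrimeSpectrum.comap i.hom.toRingHom) := fun y =>
    ⟨⟨⟩, PrimeSpectrum.comap_surjective_of_faithfullyFlat (A := (Rf : Type u))
      (B := (Rf : Type u) ⊗[R] (B : Type u)) y⟩
  have hfu : IsUnit (algebraMap R B' f) := by
    rw [show algebraMap R B' f = i.hom (algebraMap R Rf f) from (i.hom.commutes f).symm]
    exact (IsLocalization.Away.algebraMap_isUnit f).map i.hom
  have hmu : IsUnit (j.hom m) := by
    refine isUnit_of_mul_isUnit_right (x := j.hom n) ?_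
    rw [← map_mul, hn, j.hom.commutes]
    exact hfu
  let e' : (affF a E.obj).obj B' := (affF a E.obj).map j e - (ιA a ιE).app B' (unitSec a B' hmu.unit)
  have hπe' : (πA a πE).app B' e' = (affF a Q.obj).map (baseHom B') q := by
    rw [map_sub, hπe j, show (πA a πE).app B' ((ιA a ιE).app B' (unitSec a B' hmu.unit)) = 0 from
      hπι _ _, sub_zero]
  obtain ⟨z, hz⟩ := ab_glue a goodProp_fppf E.property (κ := PUnit.{u + 1}) (Bk := fun _ => B')
    (fun _ => i) (fun _ => hi) his (fun _ => e') fun _ _ C p p' hpp => by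
    let w : C2 ⟶ C := CommAlgCat.ofHom
      (Algebra.TensorProduct.lift (j ≫ p).hom (j ≫ p').hom fun _ _ => Commute.all _ _)
    have e1 : iL ≫ w = j ≫ p :=
      CommAlgCat.hom_ext (Algebra.TensorProduct.lift_comp_includeLeft _ _ fun _ _ => Commute.all _ _)
    have e2 : iR ≫ w = j ≫ p' :=
      CommAlgCat.hom_ext (Algebra.TensorProduct.lift_comp_includeRight' _ _ fun _ _ => Commute.all _ _)
    have key : w.hom u₀ * p.hom (j.hom m) = p'.hom (j.hom m) := by
      have h := congrArg w.hom hm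
      rw [map_mul] at h
      have l1 : w.hom (m ⊗ₜ[(R : Type u)] (1 : (B : Type u))) = p.hom (j.hom m) :=
        congrArg (fun φ : B ⟶ C => φ.hom m) e1
      have l2 : w.hom ((1 : (B : Type u)) ⊗ₜ[(R : Type u)] m) = p'.hom (j.hom m) :=
        congrArg (fun φ : B ⟶ C => φ.hom m) e2
      rw [l1, l2] at h
      exact h
    have h : (affF a (CGrpSh.ptsPre (Red.Gm S))).map w g₀ +
        (affF a (CGrpSh.ptsPre (Red.Gm S))).map p (unitSec a B' hmu.unit) =
        (affF a (CGrpSh.ptsPre (Red.Gm S))).map p' (unitSec a B' hmu.unit) := by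
      refine unitCoord_injective a C ?_
      rw [unitCoord_add, unitCoord_map, unitCoord_map, unitCoord_map, unitCoord_unitSec, IsUnit.unit_spec]
      exact key
    have h' := congrArg ((ιA a ιE).app C) h
    rw [map_add, hw w, e1, e2, app_map, app_map] at h'
    show (affF a E.obj).map p e' = (affF a E.obj).map p' e'
    rw [map_sub, map_sub, affF_map_comp, affF_map_comp, ← h']
    abel
  refine ⟨z, sub_eq_zero.1 (ab_sep a goodProp_fppf Q.property (κ := PUnit.{u + 1}) (Bk := fun _ => B')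
    (fun _ => i) (fun _ => hi) his _ fun _ => ?_)⟩
  rw [map_sub, ← app_map, hz PUnit.unit, hπe', affF_map_comp, baseHom_ext (baseHom Rf ≫ i) (baseHom B'),
    sub_self]

end Groth.GaDual
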