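import Groth.Agent.GaDual.GaCohomology
import Groth.Agent.GaDual.HomTorsor

/-!
Dévissage of `Ext¹(U, G)` along towers with `G_a` quotients.
-/

set_option autoImplicit false
set_option backward.isDefEq.respectTransparency false

universe u

open CategoryTheory MonoidalCategory CartesianMonoidalCategory MonObj AlgebraicGeometry Limits

noncomputable section

namespace Groth.GaDual.Tower

lemma subsingleton_ext_contra {C : Type*} [Category* C] [Abelian C] [HasExt C] {T : ShortComplex C}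
    (hT : T.ShortExact) (Y : C) (i : ℕ) (h₁ : Subsingleton (Abelian.Ext T.X₁ Y i))
    (h₃ : Subsingleton (Abelian.Ext T.X₃ Y i)) : Subsingleton (Abelian.Ext T.X₂ Y i) :=
  subsingleton_of_forall_eq 0 fun x => by
    obtain ⟨y, rfl⟩ := Abelian.Ext.contravariant_sequence_exact₂ hT Y x (Subsingleton.elim _ _)
    rw [Subsingleton.elim y 0, Abelian.Ext.comp_zero]

variable {S : Scheme.{u}}

/-- `Ext¹` out of a tower with `G_a` quotients vanishes when it does out of `G_a`. -/
theorem subsingleton_ext_tower (Y : BigSite.Ab Scheme.fppfPrecoverage S)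
    (hGa : Subsingleton (Abelian.Ext (CGrpSh2.Ga Scheme.fppfPrecoverage S) Y 1))
    (n : ℕ) (U : Fin (n + 1) → Over S) [∀ j, GrpObj (U j)] [∀ j, IsCommMonObj (U j)]
    (incl : ∀ j : Fin n, U j.castSucc ⟶ U j.succ) (proj : ∀ j : Fin n, U j.succ ⟶ Red.Ga S)
    [∀ j, IsMonHom (incl j)] [∀ j, IsMonHom (proj j)] (w : ∀ j, incl j ≫ proj j = 1)
    (hex : ∀ j, (CGrpSh.seq Scheme.fppfPrecoverage (incl j) (proj j) (w j)).ShortExact)
    (h0 : IsZero (CGrpSh.pts Scheme.fppfPrecoverage (U 0))) (j : Fin (n + 1)) :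
    Subsingleton (Abelian.Ext (CGrpSh.pts Scheme.fppfPrecoverage (U j)) Y 1) := by
  induction j using Fin.induction with
  | zero =>
    refine subsingleton_of_forall_eq 0 fun x => ?_
    rw [← Abelian.Ext.mk₀_id_comp x, h0.eq_of_src (𝟙 _) 0, Abelian.Ext.mk₀_zero, Abelian.Ext.zero_comp]
  | succ i ih => exact subsingleton_ext_contra (hex i) Y 1 ih hGa

/-- `H¹` of the dual of a tower with `G_a` quotients vanishes. -/
theorem subsingleton_H_one_dual
    (hGa : Subsingleton (Abelian.Ext (CGrpSh2.Ga Scheme.fppfPrecoverage S) (CGrpSh2.Gm Scheme.fppfPrecoverage S) 1))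
    (n : ℕ) (U : Fin (n + 1) → Over S) [∀ j, GrpObj (U j)] [∀ j, IsCommMonObj (U j)]
    (incl : ∀ j : Fin n, U j.castSucc ⟶ U j.succ) (proj : ∀ j : Fin n, U j.succ ⟶ Red.Ga S)
    [∀ j, IsMonHom (incl j)] [∀ j, IsMonHom (proj j)] (w : ∀ j, incl j ≫ proj j = 1)
    (hex : ∀ j, (CGrpSh.seq Scheme.fppfPrecoverage (incl j) (proj j) (w j)).ShortExact)
    (h0 : IsZero (CGrpSh.pts Scheme.fppfPrecoverage (U 0))) :
    Subsingleton (BigSite.H Scheme.fppfPrecoverage S
      (CGrpSh2.dualSh Scheme.fppfPrecoverage (CGrpSh.pts Scheme.fppfPrecoverage (U (Fin.last n)))) 1) :=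
  HomTorsor.subsingleton_H_one _ (subsingleton_ext_tower _ hGa n U incl proj w hex h0 (Fin.last n))

end Groth.GaDual.Tower
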