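import Groth.Agent.GrpschAbsch.Cocycle
import Mathlib.NumberTheory.Padics.RingHoms
import Mathlib.NumberTheory.Wilson

/-!
A truncated exponential with `P (x + y) = P x * P y * (1 + S (x, y))` modulo degree `2p`.
-/

set_option autoImplicit false

universe u

open Groth.GrpschAbsch

noncomputable section

namespace Groth.GaDual.TruncExp

variable (p : ℕ) [hp : Fact p.Prime]

/-- The coefficients of `exp t * (1 + t ^ p / p)`. -/
def cQ (m : ℕ) : ℚ_[p] :=
  (m.factorial : ℚ_[p])⁻¹ + if p ≤ m then ((p : ℚ_[p]) * (m - p).factorial)⁻¹ else 0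

/-- The coefficients of `S`. -/
abbrev sQ (a : ℕ) : ℚ_[p] := ((p.choose a / p : ℕ) : ℚ_[p])

lemma cQ_of_lt {m : ℕ} (h : m < p) : cQ p m = (m.factorial : ℚ_[p])⁻¹ := by
  rw [cQ, if_neg (by omega), add_zero]

lemma choose_mul_cQ {i j : ℕ} (h : i + j < 2 * p) :
    ((i + j).choose i : ℚ_[p]) * cQ p (i + j) = cQ p i * cQ p j +
      ∑ a ∈ Finset.Ioo 0 p,
        if a ≤ i ∧ p - a ≤ j then sQ p a * (cQ p (i - a) * cQ p (j - (p - a))) else 0 := by
  have hp' := hp.out
  have hp0 : (p : ℚ_[p]) ≠ 0 := Nat.cast_ne_zero.mpr hp'.ne_zero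
  have hf : ∀ n : ℕ, (n.factorial : ℚ_[p]) ≠ 0 := fun n => Nat.cast_ne_zero.mpr n.factorial_ne_zero
  have e1 : ((i + j).choose i : ℚ_[p]) * ((i + j).factorial : ℚ_[p])⁻¹ =
      (i.factorial : ℚ_[p])⁻¹ * (j.factorial : ℚ_[p])⁻¹ := by
    have := Nat.choose_mul_factorial_mul_factorial (Nat.le_add_right i j)
    rw [Nat.add_sub_cancel_left] at this
    rw [← mul_inv, ← div_eq_mul_inv, inv_eq_one_div,
      div_eq_div_iff (hf _) (mul_ne_zero (hf _) (hf _)), one_mul, ← mul_assoc]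
    exact_mod_cast this
  by_cases hk : i + j < p
  · rw [cQ_of_lt p hk, cQ_of_lt p (show i < p by omega), cQ_of_lt p (show j < p by omega), e1,
      Finset.sum_eq_zero, add_zero]
    intro a ha
    rw [Finset.mem_Ioo] at ha
    rw [if_neg]
    omega
  obtain ⟨k, hk⟩ : ∃ k, i + j = p + k := ⟨i + j - p, by omega⟩
  let T : ℕ → ℚ_[p] := fun a =>
    if a ≤ i ∧ p - a ≤ j then ((i - a).factorial : ℚ_[p])⁻¹ * ((j - (p - a)).factorial : ℚ_[p])⁻¹ else 0
  have hT : ∀ a, a ≤ p →
      T a = ((if a ≤ i then k.choose (i - a) else 0 : ℕ) : ℚ_[p]) * (k.factorial : ℚ_[p])⁻¹ := by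
    intro a ha
    simp only [T]
    by_cases h1 : a ≤ i
    · rw [if_pos h1]
      by_cases h2 : p - a ≤ j
      · rw [if_pos ⟨h1, h2⟩]
        have := Nat.choose_mul_factorial_mul_factorial (show i - a ≤ k by omega)
        rw [show k - (i - a) = j - (p - a) by omega] at this
        have hc : ((k.choose (i - a) : ℕ) : ℚ_[p]) ≠ 0 :=
          Nat.cast_ne_zero.mpr (Nat.choose_pos (show i - a ≤ k by omega)).ne'
        rw [← this, Nat.cast_mul, Nat.cast_mul, mul_inv, mul_inv, ← mul_assoc, ← mul_assoc,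
          mul_inv_cancel₀ hc, one_mul]
      · rw [if_neg (by omega), Nat.choose_eq_zero_of_lt (show k < i - a by omega), Nat.cast_zero, zero_mul]
    · rw [if_neg (by omega), if_neg h1, Nat.cast_zero, zero_mul]
  have hV : (p + k).choose i = ∑ a ∈ Finset.range (p + 1), p.choose a * if a ≤ i then k.choose (i - a) else 0 := by
    rw [Nat.add_choose_eq, Finset.Nat.sum_antidiagonal_eq_sum_range_succ (fun a b => p.choose a * k.choose b)]
    simp only [mul_ite, mul_zero]
    rw [← Finset.sum_filter]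
    refine Finset.sum_congr_of_eq_on_inter ?_ ?_ (fun _ _ _ => rfl)
    · intro a ha ha'
      simp only [Finset.mem_range, Finset.mem_filter, not_and_or, not_le, not_lt] at ha ha'
      rw [Nat.choose_eq_zero_of_lt (show p < a by omega), zero_mul]
    · intro a ha ha'
      simp only [Finset.mem_range, Finset.mem_filter, not_lt] at ha ha'
      omega
  have key : ((i + j).choose i : ℚ_[p]) * ((p : ℚ_[p]) * k.factorial)⁻¹ =
      (p : ℚ_[p])⁻¹ * T 0 + (∑ a ∈ Finset.Ioo 0 p, sQ p a * T a) + (p : ℚ_[p])⁻¹ * T p := by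
    rw [hk, hV, Nat.cast_sum, Finset.sum_mul, Finset.sum_range_succ, Finset.range_eq_Ico,
      Finset.sum_eq_sum_Ico_succ_bot hp'.pos, show Finset.Ico (0 + 1) p = Finset.Ioo 0 p by ext; simp; omega]
    refine congrArg₂ (· + ·) (congrArg₂ (· + ·) ?_ (Finset.sum_congr rfl fun a ha => ?_)) ?_
    · rw [hT 0 (by omega), Nat.choose_zero_right, one_mul, mul_inv]
      ring
    · rw [Finset.mem_Ioo] at ha
      rw [hT a ha.2.le, sQ, Nat.cast_div (Nat.Prime.dvd_choose_self hp' (by omega) ha.2) hp0,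
        Nat.cast_mul, mul_inv]
      ring
    · rw [hT p le_rfl, Nat.choose_self, one_mul, mul_inv]
      ring
  have hlow : ∀ a ∈ Finset.Ioo 0 p,
      (if a ≤ i ∧ p - a ≤ j then sQ p a * (cQ p (i - a) * cQ p (j - (p - a))) else 0) = sQ p a * T a := by
    intro a ha
    simp only [T]
    split_ifs with h'
    · rw [Finset.mem_Ioo] at ha
      rw [cQ_of_lt p (show i - a < p by omega), cQ_of_lt p (show j - (p - a) < p by omega)]
    · rw [mul_zero]
  rw [Finset.sum_congr rfl hlow]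
  conv_lhs => rw [cQ, if_pos (by omega : p ≤ i + j), show i + j - p = k by omega, mul_add, e1, key]
  have hT0 : T 0 = if p ≤ j then (i.factorial : ℚ_[p])⁻¹ * ((j - p).factorial : ℚ_[p])⁻¹ else 0 := by
    simp [T]
  have hTp : T p = if p ≤ i then ((i - p).factorial : ℚ_[p])⁻¹ * (j.factorial : ℚ_[p])⁻¹ else 0 := by
    simp [T]
  rw [hT0, hTp, cQ, cQ]
  by_cases h1 : p ≤ i <;> by_cases h2 : p ≤ j
  · omega
  all_goals simp only [h1, h2, if_true, if_false, mul_inv]
  all_goals ring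

lemma norm_natCast_of_not_dvd {n : ℕ} (h : ¬ p ∣ n) : ‖(n : ℚ_[p])‖ = 1 :=
  Padic.norm_natCast_eq_one_iff.mpr ((hp.out.coprime_iff_not_dvd.mpr h))

lemma norm_cQ_of_lt {m : ℕ} (h : m < p) : ‖cQ p m‖ ≤ 1 := by
  rw [cQ_of_lt p h, norm_inv, norm_natCast_of_not_dvd p (by rw [hp.out.dvd_factorial]; omega), inv_one]

lemma norm_cQ_self : ‖cQ p p‖ ≤ 1 := by
  obtain ⟨q, hq⟩ : p ∣ (p - 1).factorial + 1 := by
    rw [← CharP.cast_eq_zero_iff (ZMod p) p, Nat.cast_add, Nat.cast_one, ZMod.wilsons_lemma, neg_add_cancel]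
  have hp0 : (p : ℚ_[p]) ≠ 0 := Nat.cast_ne_zero.mpr hp.out.ne_zero
  have hf : ((p - 1).factorial : ℚ_[p]) ≠ 0 := Nat.cast_ne_zero.mpr (Nat.factorial_ne_zero _)
  have : cQ p p = (q : ℚ_[p]) * ((p - 1).factorial : ℚ_[p])⁻¹ := by
    rw [cQ, if_pos le_rfl, Nat.sub_self, Nat.factorial_zero, Nat.cast_one, mul_one,
      ← Nat.mul_factorial_pred hp.out.ne_zero, Nat.cast_mul]
    have hq' : ((p - 1).factorial : ℚ_[p]) + 1 = p * q := by exact_mod_cast hq
    field_simp
    linear_combination hq'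
  rw [this, norm_mul, norm_inv, norm_natCast_of_not_dvd p (n := (p - 1).factorial) (by
    rw [hp.out.dvd_factorial]; have := hp.out.pos; omega), inv_one, mul_one]
  exact_mod_cast Padic.norm_int_le_one (p := p) q

lemma norm_cQ {m : ℕ} (h : m < 2 * p) : ‖cQ p m‖ ≤ 1 := by
  rcases lt_trichotomy m p with h' | rfl | h'
  · exact norm_cQ_of_lt p h'
  · exact norm_cQ_self m
  obtain ⟨k, rfl⟩ : ∃ k, m = p + k := ⟨m - p, by omega⟩
  have hu : ‖((p + k).choose p : ℚ_[p])‖ = 1 := by
    refine norm_natCast_of_not_dvd p fun hd => ?_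
    rw [← CharP.cast_eq_zero_iff (ZMod p) p] at hd
    have := Cocycle.choose_pow_eq_div (A := ZMod p) p (p + k) 1
    rw [pow_one, hd, show (p + k) / p = 1 from Nat.div_eq_of_lt_le (by omega) (by omega), Nat.cast_one] at this
    exact zero_ne_one this
  have key := congrArg (fun x : ℚ_[p] => ‖x‖) (choose_mul_cQ p (i := p) (j := k) h)
  simp only [norm_mul, hu, one_mul] at key
  rw [key]
  let O := PadicInt.subring p
  show _ ∈ O
  refine O.add_mem (O.mul_mem (norm_cQ_self p) (norm_cQ_of_lt p (by omega))) (O.sum_mem fun a ha => ?_)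
  rw [Finset.mem_Ioo] at ha
  split_ifs
  · exact O.mul_mem (natCast_mem O _)
      (O.mul_mem (norm_cQ_of_lt p (by omega)) (norm_cQ_of_lt p (by omega)))
  · exact O.zero_mem

theorem exists_coeffs (R : Type u) [CommRing R] [CharP R p] :
    ∃ c : ℕ → R, c 0 = 1 ∧ (∀ m, 2 * p ≤ m → c m = 0) ∧ ∀ i j, i + j < 2 * p →
      ((i + j).choose i : R) * c (i + j) = c i * c j + ∑ a ∈ Finset.Ioo 0 p,
        if a ≤ i ∧ p - a ≤ j then ((p.choose a / p : ℕ) : R) * (c (i - a) * c (j - (p - a))) else 0 := by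
  have hpos := hp.out.pos
  let cZ : ℕ → ℤ_[p] := fun m => if h : m < 2 * p then ⟨cQ p m, norm_cQ p h⟩ else 0
  have hcZ : ∀ m, m < 2 * p → ((cZ m : ℤ_[p]) : ℚ_[p]) = cQ p m := fun m h => by simp [cZ, dif_pos h]
  let ψ : ℤ_[p] →+* R := (ZMod.castHom (dvd_refl p) R).comp PadicInt.toZMod
  refine ⟨fun m => ψ (cZ m), ?_, fun m hm => ?_, fun i j hij => ?_⟩
  · have : cZ 0 = 1 := by
      refine PadicInt.ext ?_
      rw [hcZ 0 (by omega), cQ_of_lt p hpos]
      simp
    simp [this]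
  · simp [cZ, dif_neg (not_lt.mpr hm)]
  have h : ((i + j).choose i : ℤ_[p]) * cZ (i + j) = cZ i * cZ j + ∑ a ∈ Finset.Ioo 0 p,
      if a ≤ i ∧ p - a ≤ j then ((p.choose a / p : ℕ) : ℤ_[p]) * (cZ (i - a) * cZ (j - (p - a))) else 0 := by
    refine PadicInt.ext ?_
    push_cast
    rw [hcZ _ hij, hcZ _ (by omega), hcZ _ (by omega), choose_mul_cQ p hij]
    refine congrArg _ ((Finset.sum_congr rfl fun a ha => ?_).trans (map_sum PadicInt.Coe.ringHom _ _).symm)
    rw [Finset.mem_Ioo] at ha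
    split_ifs with h'
    · show _ = ((_ * (_ * _) : ℤ_[p]) : ℚ_[p])
      push_cast
      rw [hcZ _ (by omega), hcZ _ (by omega)]
    · exact (map_zero PadicInt.Coe.ringHom).symm
  have h' := congrArg ψ h
  simpa [map_mul, map_add, map_sum, apply_ite ψ] using h'

open MvPolynomial Groth.GrpschAbsch.Char in
/-- The truncated exponential. -/
theorem exists_poly (R : Type u) [CommRing R] [CharP R p] :
    ∃ P : Polynomial R, P.coeff 0 = 1 ∧ ∀ {A : Type u} [CommRing A] [Algebra R A] (x y : A),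
      (∀ a b, 2 * p ≤ a + b → x ^ a * y ^ b = 0) →
        Polynomial.aeval (x + y) P = Polynomial.aeval x P * Polynomial.aeval y P * (1 + Cocycle.S p x y) := by
  classical
  obtain ⟨c, hc0, hcz, hc⟩ := exists_coeffs p R
  let P : Polynomial R := ∑ m ∈ Finset.range (2 * p), Polynomial.monomial m (c m)
  have hP : ∀ m, P.coeff m = c m := fun m => by
    simp only [P, Polynomial.finsetSum_coeff, Polynomial.coeff_monomial, Finset.sum_ite_eq', Finset.mem_range]
    split_ifs with h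
    · rfl
    · exact (hcz m (by omega)).symm
  refine ⟨P, (hP 0).trans hc0, fun {A} _ _ x y hxy => ?_⟩
  let X0 : MvPolynomial (Fin 2) R := X 0
  let X1 : MvPolynomial (Fin 2) R := X 1
  let D : MvPolynomial (Fin 2) R := Polynomial.aeval (X0 + X1) P -
    Polynomial.aeval X0 P * Polynomial.aeval X1 P * (1 + Cocycle.S p X0 X1)
  have hD : ∀ i j, i + j < 2 * p → D.coeff (pair i j) = 0 := by
    intro i j hij
    simp only [D, X0, X1, mul_add, mul_one, Cocycle.S, Finset.mul_sum, coeff_sub, coeff_add, coeff_sum,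
      coeff_aeval_add, coeff_aeval_mul, hP]
    rw [hc i j hij, add_sub_add_left_eq_sub, sub_eq_zero]
    refine Finset.sum_congr rfl fun a _ => ?_
    have e : ((p.choose a / p : ℕ) : MvPolynomial (Fin 2) R) * X 0 ^ a * X 1 ^ (p - a) =
        monomial (pair a (p - a)) ((p.choose a / p : ℕ) : R) := by
      rw [← C_eq_coe_nat, X_pow_eq_monomial, X_pow_eq_monomial, C_mul_monomial, monomial_mul, mul_one, mul_one]
      rfl
    rw [e, coeff_mul_monomial']
    have hle : pair a (p - a) ≤ pair i j ↔ a ≤ i ∧ p - a ≤ j := by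
      refine ⟨fun h => ⟨by simpa using h 0, by simpa using h 1⟩, fun h d => ?_⟩
      fin_cases d <;> simp [h]
    have hsub : pair i j - pair a (p - a) = pair (i - a) (j - (p - a)) := by
      ext d; fin_cases d <;> simp
    simp only [hle, hsub, coeff_aeval_mul, hP]
    split_ifs <;> ring
  have h0 : aeval ![x, y] D = 0 := by
    rw [D.as_sum, map_sum]
    refine Finset.sum_eq_zero fun d _ => ?_
    rw [Cocycle.monomial_fin2]
    by_cases hd : d 0 + d 1 < 2 * p
    · rw [eq_pair d, hD _ _ hd, map_zero, zero_mul]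
    · rw [hxy _ _ (by omega), mul_zero]
  have e : (aeval ![x, y] : MvPolynomial (Fin 2) R →ₐ[R] A) (Cocycle.S p X0 X1) = Cocycle.S p x y := by
    rw [← AlgHom.coe_toRingHom, Cocycle.map_S]
    simp [X0, X1]
  simp only [D, map_sub, map_mul, map_add, map_one, e, ← Polynomial.aeval_algHom_apply] at h0
  simpa [X0, X1, sub_eq_zero] using h0

end Groth.GaDual.TruncExp
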