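import Groth.Agent.GaDual.WittLift
import Groth.Agent.S12182
import Groth.Agent.Agf.SmoothRed

/-!
The smooth connected closed subgroups of `W_n` are the `V(W_i)`.
-/

universe u

open CategoryTheory MonoidalCategory CartesianMonoidalCategory MonObj AlgebraicGeometry TopologicalSpace

namespace Groth.GaDual.WittSubgroup

open Groth.GrpschAbsch WittOp WittEnd WittIsogeny

variable (p : ℕ) [hp : Fact p.Prime] {k : Type u} [Field k] [IsAlgClosed k] [CharP k p]

local notation "𝕊" => Spec (CommRingCat.of k)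
local notation "𝕎₀" => WittGrp.W p

omit [IsAlgClosed k] [CharP k p] in
lemma kpt_add {n : ℕ} (v w : TruncatedWittVector p n k) : kpt p (v + w) = kpt p v * kpt p w := by
  refine WittGrp.pts_injective p _ ?_
  show WittGrp.pts p _ (Additive.ofMul (kpt p (v + w))) =
    WittGrp.pts p _ (Additive.ofMul (kpt p v * kpt p w))
  rw [WittGrp.pts_mul, pts_kpt, pts_kpt, pts_kpt, map_add]

omit [IsAlgClosed k] [CharP k p] in
lemma kpt_neg {n : ℕ} (v : TruncatedWittVector p n k) : kpt p (-v) = (kpt p v)⁻¹ := by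
  refine eq_inv_of_mul_eq_one_left ?_
  rw [← kpt_add, neg_add_cancel, kpt_zero]

/-- The closed point with coordinate `a`. -/
noncomputable abbrev apt (a : k) : (𝕎₀ 1 𝕊).left := Groth.AlgGrp1.rpt (kpt p (single p 1 a))

omit [CharP k p] in
lemma apt_injective : Function.Injective (apt p (k := k)) := fun a b h => by
  have := locallyOfFiniteType_W p (k := k) 1
  rw [← coeff_single p one_pos a, ← coeff_single p one_pos b,
    kpt_injective p (Groth.AlgGrp1.rpt_injective h)]

/-- Closed sets of `W_1` have finitely many or all rational points. -/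
lemma closed_finite_or_univ {Z : Set (𝕎₀ 1 𝕊).left} (hZ : IsClosed Z) :
    (apt p ⁻¹' Z).Finite ∨ apt p ⁻¹' Z = Set.univ := by
  let N := ULift.{u} (Fin 1)
  let sp := (AffineSpace.SpecIso N (CommRingCat.of k)).inv
  obtain ⟨s, hs⟩ := (PrimeSpectrum.isClosed_iff_zeroLocus _).1 (hZ.preimage sp.continuous)
  have key : ∀ a : k, apt p a ∈ Z ↔ ∀ f ∈ s, MvPolynomial.eval (fun _ : N => a) f = 0 := by
    intro a
    let e : CommRingCat.of (MvPolynomial N k) ⟶ CommRingCat.of k :=
      CommRingCat.ofHom (MvPolynomial.eval fun _ : N => a)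
    have hk : (kpt p (single p 1 a)).left = Spec.map e ≫ sp := by
      refine AffineSpace.hom_ext ?_ fun i ↦ ?_
      · rw [Category.assoc, AffineSpace.SpecIso_inv_over, ← Spec.map_comp]
        refine (Over.w (kpt p (single p 1 a))).trans ?_
        rw [show CommRingCat.ofHom (MvPolynomial.C (σ := N) (R := k)) ≫ e = 𝟙 (CommRingCat.of k) by
            ext b; exact MvPolynomial.eval_C b]
        exact (Spec.map_id _).symm
      · rw [Scheme.Hom.comp_appTop, CommRingCat.comp_apply, AffineSpace.SpecIso_inv_appTop_coord]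
        refine Eq.trans ?_ (appTop_specMap_inv _ _).symm
        refine ((WittGrp.coeff_pts p _ (kpt p (single p 1 a)) i.down).symm.trans ?_)
        rw [pts_kpt, WittGrp.coeff_truncMap]
        congr 1
        refine Eq.trans ?_ (MvPolynomial.eval_X (f := fun _ : N ↦ a) i).symm
        obtain ⟨⟨_ | j, hj⟩⟩ := i
        · exact coeff_single p one_pos a
        · omega
    have : apt p a ∈ Z ↔ (Spec.map e).base (IsLocalRing.closedPoint k) ∈ sp.base ⁻¹' Z := by
      rw [Set.mem_preimage, ← Scheme.Hom.comp_apply, ← hk]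
      rfl
    rw [this, hs]
    refine (PrimeSpectrum.mem_zeroLocus (R := MvPolynomial N k) _ _).trans ?_
    refine forall₂_congr fun f _ => ?_
    show MvPolynomial.eval _ f ∈ IsLocalRing.maximalIdeal k ↔ _
    rw [IsLocalRing.maximalIdeal_eq_bot, Ideal.mem_bot]
  by_cases h0 : ∀ f ∈ s, f = 0
  · exact Or.inr (Set.eq_univ_of_forall fun a => (key a).2 fun f hf => by rw [h0 f hf, map_zero])
  push Not at h0
  obtain ⟨f, hfs, hf⟩ := h0
  refine Or.inl ?_
  let q : Polynomial k := MvPolynomial.aeval (fun _ : N => Polynomial.X) f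
  have hq : ∀ a : k, q.eval a = MvPolynomial.eval (fun _ : N => a) f := fun a => by
    rw [← Polynomial.coe_aeval_eq_eval, ← AlgHom.comp_apply, MvPolynomial.comp_aeval,
      ← MvPolynomial.aeval_eq_eval]
    simp
  have hq0 : q ≠ 0 := fun h => hf (MvPolynomial.funext fun x => by
    rw [show x = fun _ => x default from funext fun i => by rw [Subsingleton.elim i default],
      ← hq, h, Polynomial.eval_zero, map_zero])
  refine (Polynomial.finite_setOfPred_isRoot hq0).subset fun a ha => ?_
  show q.eval a = 0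
  rw [hq]
  exact (key a).1 ha f hfs

/-- Constructible subsets of `W_1` have finitely or cofinitely many rational points. -/
lemma constructible_finite_or_cofinite {E : Set (𝕎₀ 1 𝕊).left} (hE : Topology.IsConstructible E) :
    (apt p ⁻¹' E).Finite ∨ (apt p ⁻¹' E)ᶜ.Finite := by
  induction hE using Topology.IsConstructible.empty_union_induction with
  | open_retrocompact U hU _ =>
    rcases closed_finite_or_univ p hU.isClosed_compl with h | h
    · exact Or.inr (by rwa [← Set.preimage_compl])
    · refine Or.inl ?_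
      rw [Set.preimage_compl, Set.compl_univ_iff] at h
      rw [h]; exact Set.finite_empty
  | union s _ t _ hs ht =>
    rcases hs with hs | hs
    · rcases ht with ht | ht
      · exact Or.inl (by rw [Set.preimage_union]; exact hs.union ht)
      · exact Or.inr (ht.subset (by rw [Set.preimage_union]; exact Set.compl_subset_compl.2 Set.subset_union_right))
    · exact Or.inr (hs.subset (by rw [Set.preimage_union]; exact Set.compl_subset_compl.2 Set.subset_union_left))
  | compl s _ hs =>
    rcases hs with hs | hs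
    · exact Or.inr (by rwa [Set.preimage_compl, compl_compl])
    · exact Or.inl (by rwa [Set.preimage_compl])

/-- The first coefficient. -/
noncomputable def coeffZero (n : ℕ) : TruncatedWittVector p (n + 1) k →+ k :=
  AddMonoidHom.mk' (fun v => v.coeff ⟨0, n.succ_pos⟩) fun v w => coeff_add_zero p v w n.succ_pos

lemma coeff_pow_nsmul {n : ℕ} (x : TruncatedWittVector p n k) (e : ℕ) (i : Fin n) :
    (p ^ e • x).coeff i = if h : (i : ℕ) < e then 0 else x.coeff ⟨(i : ℕ) - e, by omega⟩ ^ p ^ e := by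
  induction e generalizing i with
  | zero => simp
  | succ e ih =>
    rw [pow_succ', mul_nsmul', coeff_nsmul]
    by_cases h0 : (i : ℕ) = 0
    · rw [dif_pos h0, dif_pos (by omega)]
    rw [dif_neg h0, ih]
    by_cases h1 : (i : ℕ) < e + 1
    · rw [dif_pos (show ((⟨(i : ℕ) - 1, by omega⟩ : Fin n) : ℕ) < e by simp; omega), dif_pos h1,
        zero_pow hp.out.ne_zero]
    · rw [dif_neg (show ¬ ((⟨(i : ℕ) - 1, by omega⟩ : Fin n) : ℕ) < e by simp; omega), dif_neg h1,
        ← pow_mul, ← pow_succ, ← pow_succ']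
      congr 2
      ext; simp; omega

/-- A subgroup surjecting onto the first component is everything. -/
lemma eq_top_of_map_coeffZero : ∀ (n : ℕ) (S : AddSubgroup (TruncatedWittVector p (n + 1) k)),
    (∀ a, ∃ s ∈ S, s.coeff ⟨0, n.succ_pos⟩ = a) → S = ⊤
  | 0, S, h => eq_top_iff.2 fun v _ => by
    obtain ⟨s, hs, he⟩ := h (v.coeff ⟨0, one_pos⟩)
    convert hs using 1
    ext i
    obtain rfl : i = ⟨0, one_pos⟩ := Fin.ext (Nat.lt_one_iff.mp i.2)
    exact he.symm
  | n + 1, S, h => eq_top_iff.2 fun v _ => by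
    let T := S.map (TruncatedWittVector.truncate (p := p) (R := k) (Nat.le_succ (n + 1))).toAddMonoidHom
    have hT : T = ⊤ := eq_top_of_map_coeffZero n T fun a => by
      obtain ⟨s, hs, he⟩ := h a
      exact ⟨_, ⟨s, hs, rfl⟩, (TruncatedWittVector.coeff_truncate (Nat.le_succ (n + 1)) _ s).trans he⟩
    obtain ⟨s, hs, hse⟩ := (show TruncatedWittVector.truncate (Nat.le_succ (n + 1)) v ∈ T by
      rw [hT]; exact AddSubgroup.mem_top _)
    obtain ⟨b, hb⟩ := IsAlgClosed.exists_pow_nat_eq ((v - s).coeff ⟨n + 1, by omega⟩)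
      (pow_pos hp.out.pos (n + 1))
    obtain ⟨t, ht, hte⟩ := h b
    have hz : ∀ i : Fin (n + 2), (i : ℕ) < n + 1 → (v - s).coeff i = 0 := fun i hi => by
      have := congrArg (TruncatedWittVector.coeff ⟨i, hi⟩)
        (sub_eq_zero.2 hse.symm)
      rw [show ((TruncatedWittVector.truncate (p := p) (R := k) (Nat.le_succ (n + 1))).toAddMonoidHom) s =
        TruncatedWittVector.truncate (Nat.le_succ (n + 1)) s from rfl, ← map_sub,
        TruncatedWittVector.coeff_truncate, TruncatedWittVector.coeff_zero] at this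
      exact this
    have : v - s = p ^ (n + 1) • t := TruncatedWittVector.ext fun i => by
      rw [coeff_pow_nsmul]
      split_ifs with hi
      · exact hz i hi
      · obtain ⟨l, hl⟩ := i
        obtain rfl : l = n + 1 := by simp at hi; omega
        rw [← hb, ← hte]
        congr 2
        ext; simp
    have hv : v - s ∈ S := this ▸ S.nsmul_mem ht _
    exact (sub_add_cancel v s) ▸ S.add_mem hv hs

omit hp [CharP k p] in
/-- A closed immersion meeting all the closed points is an isomorphism. -/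
lemma isIso_of_rpt {X H : Over 𝕊} [Smooth H.hom] (c : X ⟶ H) [IsClosedImmersion c.left]
    (h : ∀ x : 𝟙_ (Over 𝕊) ⟶ H, ∃ y, y ≫ c = x) : IsIso c := by
  have := LocallyOfFiniteType.jacobsonSpace H.hom
  have : IsReduced H.left := Groth.Agf.isReduced_of_smooth H.hom
  have hsurj : Surjective c.left := by
    refine ⟨Set.range_eq_univ.1 (eq_top_iff.2 ?_)⟩
    show Set.univ ⊆ _
    rw [← closure_closedPoints]
    refine closure_minimal (fun z hz => ?_) c.left.isClosedEmbedding.isClosed_range
    obtain ⟨x, rfl⟩ := Groth.AlgGrp1.exists_rpt hz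
    obtain ⟨y, rfl⟩ := h x
    exact ⟨Groth.AlgGrp1.rpt y, rfl⟩
  have : IsIso ((Over.forget 𝕊).map c) := isIso_of_isClosedImmersion_of_surjective c.left
  exact isIso_of_reflects_iso c (Over.forget 𝕊)

/-- **The smooth connected closed subgroups of `W_n`.** -/
theorem exists_iso_V : ∀ (n : ℕ) (H : Over 𝕊) [GrpObj H] [Smooth H.hom] [ConnectedSpace H.left]
    (j : H ⟶ 𝕎₀ n 𝕊) [IsMonHom j] [IsClosedImmersion j.left],
    ∃ (i : ℕ) (hi : i ≤ n) (e : H ≅ 𝕎₀ i 𝕊), e.hom ≫ WittGrp.V p 𝕊 hi = j
  | 0, H, _, _, _, j, _, _ => by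
    have := (Groth.Agent.S12182.result p k 0).1
    have : IsIso j := isIso_of_rpt (H := 𝕎₀ 0 𝕊) j fun x => ⟨1, by
      obtain ⟨v, rfl⟩ := exists_kpt p x
      rw [MonObj.one_comp, ← kpt_zero p]
      exact congrArg (kpt p) (TruncatedWittVector.ext fun i => i.elim0)⟩
    refine ⟨0, le_rfl, asIso j, ?_⟩
    rw [show WittGrp.V p 𝕊 (le_refl 0) = 𝟙 _ from val_ext p fun v =>
      TruncatedWittVector.ext fun i => i.elim0, Category.comp_id, asIso_hom]
  | n + 1, H, _, _, _, j, _, _ => by
    have := locallyOfFiniteType_W p (k := k) (n + 1)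
    have := locallyOfFiniteType_W p (k := k) 1
    have := isAffineHom_W p (k := k) (n + 1)
    have := isAffineHom_W p (k := k) 1
    have := (Groth.Agent.S12182.result p k (n + 1)).1
    have hqc : QuasiCompact H.hom := by rw [← Over.w j]; infer_instance
    let S : AddSubgroup (TruncatedWittVector p (n + 1) k) :=
      { carrier := {v | ∃ h : 𝟙_ (Over 𝕊) ⟶ H, h ≫ j = kpt p v}
        add_mem' := by
          rintro v w ⟨a, ha⟩ ⟨b, hb⟩
          exact ⟨a * b, by rw [MonObj.mul_comp, ha, hb, kpt_add]⟩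
        zero_mem' := ⟨1, by rw [MonObj.one_comp, kpt_zero]⟩
        neg_mem' := by
          rintro v ⟨a, ha⟩
          exact ⟨a⁻¹, by rw [GrpObj.inv_comp, ha, kpt_neg]⟩ }
    let A := S.map (coeffZero p n)
    let ψ : H ⟶ 𝕎₀ 1 𝕊 := j ≫ WittGrp.R p 𝕊 (Nat.le_add_left 1 n)
    have hψ : ∀ (x : 𝟙_ (Over 𝕊) ⟶ H) v, x ≫ j = kpt p v →
        Groth.AlgGrp1.rpt (x ≫ ψ) = apt p (v.coeff ⟨0, n.succ_pos⟩) := fun x v hx => by
      show Groth.AlgGrp1.rpt (x ≫ ψ) = Groth.AlgGrp1.rpt _
      rw [show x ≫ ψ = kpt p (single p 1 (v.coeff ⟨0, n.succ_pos⟩)) by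
        rw [← Category.assoc, hx, ← kpt_val, val_R]
        congr 1
        ext i
        obtain rfl : i = ⟨0, one_pos⟩ := Fin.ext (Nat.lt_one_iff.mp i.2)
        rw [TruncatedWittVector.coeff_truncate, coeff_single]
        rfl]
    have hA : ∀ a, a ∈ A ↔ apt p a ∈ Set.range ψ.left := by
      intro a
      constructor
      · rintro ⟨v, ⟨x, hx⟩, rfl⟩
        exact ⟨Groth.AlgGrp1.rpt x, hψ x v hx⟩
      · intro ha
        obtain ⟨x, hx⟩ := Groth.AlgGrp1.exists_rpt_lift ψ (kpt p (single p 1 a)) ha
        obtain ⟨v, hv⟩ := exists_kpt p (x ≫ j)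
        refine ⟨v, ⟨x, hv.symm⟩, ?_⟩
        have := (hψ x v hv.symm).symm.trans (congrArg Groth.AlgGrp1.rpt hx)
        exact apt_injective p this
    by_cases hfin : (A : Set k).Finite
    · -- all points have first coordinate zero
      have hcl : ∀ a, IsClosed (ψ.left ⁻¹' {apt p a}) := fun a =>
        (Groth.AlgGrp1.rpt_closed _).preimage ψ.left.continuous
      have := LocallyOfFiniteType.jacobsonSpace H.hom
      have hcov : (⋃ a ∈ (A : Set k), ψ.left ⁻¹' {apt p a}) = Set.univ := by
        refine eq_top_iff.2 ?_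
        show Set.univ ⊆ _
        rw [← closure_closedPoints]
        refine closure_minimal (fun z hz => ?_) (hfin.isClosed_biUnion fun a _ => hcl a)
        obtain ⟨x, rfl⟩ := Groth.AlgGrp1.exists_rpt hz
        obtain ⟨v, hv⟩ := exists_kpt p (x ≫ j)
        exact Set.mem_biUnion (x := v.coeff ⟨0, n.succ_pos⟩) ⟨v, ⟨x, hv.symm⟩, rfl⟩ (hψ x v hv.symm)
      have hopen : IsOpen (ψ.left ⁻¹' {apt p (0 : k)}) := by
        rw [← isClosed_compl_iff]
        convert (hfin.sdiff (t := {(0 : k)})).isClosed_biUnion fun a _ => hcl a using 1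
        ext z
        have hz := hcov.symm ▸ Set.mem_univ z
        simp only [Set.mem_iUnion, exists_prop, Set.mem_preimage, Set.mem_singleton_iff,
          Set.mem_compl_iff, Set.mem_sdiff] at hz ⊢
        obtain ⟨a, ha, hza⟩ := hz
        refine ⟨fun h => ⟨a, ⟨ha, ?_⟩, hza⟩, ?_⟩
        · rintro rfl; exact h hza
        · rintro ⟨b, ⟨-, hb⟩, hzb⟩ h
          exact hb (apt_injective p (hzb.symm.trans h))
      have hU : ψ.left ⁻¹' {apt p (0 : k)} = Set.univ := IsClopen.eq_univ ⟨hcl 0, hopen⟩
        ⟨Groth.AlgGrp1.rpt (1 : 𝟙_ (Over 𝕊) ⟶ H), by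
          have := hψ 1 0 (by rw [MonObj.one_comp, kpt_zero])
          rw [TruncatedWittVector.coeff_zero] at this
          exact this⟩
      have := WittBasic.isClosedImmersion_V p 𝕊 (Nat.le_succ n)
      have hpb := IsPullback.of_hasPullback j (WittGrp.V p 𝕊 (Nat.le_succ n))
      set c := Limits.pullback.fst j (WittGrp.V p 𝕊 (Nat.le_succ n)) with hc
      have : IsClosedImmersion c.left :=
        MorphismProperty.of_isPullback (P := @IsClosedImmersion) (hpb.map (Over.forget 𝕊)).flip
          (inferInstanceAs (IsClosedImmersion (WittGrp.V p 𝕊 (Nat.le_succ n)).left))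
      have : IsIso c := isIso_of_rpt c fun x => by
        obtain ⟨v, hv⟩ := exists_kpt p (x ≫ j)
        have h0 : v.coeff ⟨0, n.succ_pos⟩ = 0 := apt_injective p ((hψ x v hv.symm).symm.trans
          (show Groth.AlgGrp1.rpt x ∈ ψ.left ⁻¹' {apt p (0 : k)} by rw [hU]; trivial))
        obtain ⟨w, rfl⟩ := exists_shift p h0
        exact ⟨hpb.lift x (kpt p w) (by rw [← kpt_val, val_V, hv]), hpb.lift_fst _ _ _⟩
      let j' : H ⟶ 𝕎₀ n 𝕊 := inv c ≫ Limits.pullback.snd j (WittGrp.V p 𝕊 (Nat.le_succ n))
      have hj' : j' ≫ WittGrp.V p 𝕊 (Nat.le_succ n) = j := by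
        rw [Category.assoc, ← hpb.w, IsIso.inv_hom_id_assoc]
      have he' : ∀ {T : Over 𝕊} (z : T ⟶ H), (z ≫ j') ≫ WittGrp.V p 𝕊 (Nat.le_succ n) = z ≫ j :=
        fun z => by rw [Category.assoc, hj']
      clear_value j'
      have hmul : ∀ (T : Over 𝕊) (x y : T ⟶ H), (x * y) ≫ j' = (x ≫ j') * (y ≫ j') := fun T x y => by
        have key : ((x * y) ≫ j') ≫ WittGrp.V p 𝕊 (Nat.le_succ n) =
            ((x ≫ j') * (y ≫ j')) ≫ WittGrp.V p 𝕊 (Nat.le_succ n) := by
          rw [MonObj.mul_comp (x ≫ j') (y ≫ j'), he', he', he', MonObj.mul_comp x y]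
        have := congrArg (· ≫ drop p (Nat.le_succ n)) key
        simpa only [Category.assoc, V_drop, Category.comp_id] using this
      have : IsMonHom j' := WittGrp.isMonHom_of_comp_mul _ (by
        have := hmul _ (1 : 𝟙_ (Over 𝕊) ⟶ H) 1
        rw [_root_.one_mul] at this
        exact left_eq_mul.mp this) hmul
      have := isAffineHom_W p (k := k) n
      have : IsSeparated (WittGrp.V p 𝕊 (Nat.le_succ n)).left := inferInstance
      have : IsClosedImmersion (j'.left ≫ (WittGrp.V p 𝕊 (Nat.le_succ n)).left) := by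
        rw [← Over.comp_left, hj']; infer_instance
      have := IsClosedImmersion.of_comp j'.left (WittGrp.V p 𝕊 (Nat.le_succ n)).left
      obtain ⟨i, hi, e, he⟩ := exists_iso_V n H j'
      refine ⟨i, hi.trans (Nat.le_succ n), e, ?_⟩
      rw [show WittGrp.V p 𝕊 (hi.trans (Nat.le_succ n)) =
          WittGrp.V p 𝕊 hi ≫ WittGrp.V p 𝕊 (Nat.le_succ n) from val_ext p fun v =>
        TruncatedWittVector.ext fun l => by
          rw [val_comp, val_V, val_V, val_V, WittGrp.coeff_shift, WittGrp.coeff_shift]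
          by_cases h1 : n + 1 - i ≤ (l : ℕ)
          · rw [dif_pos h1, dif_pos (by omega), WittGrp.coeff_shift, dif_pos (by simp; omega)]
            congr 1
            ext; simp; omega
          · rw [dif_neg h1]
            split_ifs with h2
            · rw [WittGrp.coeff_shift, dif_neg (by simp; omega)]
            · rfl,
        ← Category.assoc, he, hj']
    · -- everything
      have hAtop : ∀ a, a ∈ A := by
        have : IsLocallyNoetherian (𝕎₀ 1 𝕊).left :=
          LocallyOfFiniteType.isLocallyNoetherian (𝕎₀ 1 𝕊).hom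
        have : CompactSpace H.left := QuasiCompact.compactSpace_of_compactSpace H.hom
        have : CompactSpace (𝕎₀ 1 𝕊).left := QuasiCompact.compactSpace_of_compactSpace (𝕎₀ 1 𝕊).hom
        have : QuasiSeparatedSpace (𝕎₀ 1 𝕊).left :=
          quasiSeparatedSpace_of_quasiSeparated (𝕎₀ 1 𝕊).hom
        have : LocallyOfFiniteType (ψ.left ≫ (𝕎₀ 1 𝕊).hom) := by rw [Over.w]; infer_instance
        have := locallyOfFiniteType_of_comp ψ.left (𝕎₀ 1 𝕊).hom
        have : QuasiCompact (ψ.left ≫ (𝕎₀ 1 𝕊).hom) := by rw [Over.w]; infer_instance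
        have := QuasiCompact.of_comp ψ.left (𝕎₀ 1 𝕊).hom
        have hE := constructible_finite_or_cofinite p
          (ψ.left.isConstructible_image (Topology.IsConstructible.univ))
        have hAE : apt p ⁻¹' (ψ.left '' Set.univ) = (A : Set k) := by
          ext a; rw [Set.mem_preimage, Set.image_univ]; exact (hA a).symm
        rw [hAE] at hE
        intro a
        have hco := hE.resolve_left hfin
        have : ((A : Set k)ᶜ ∪ (fun x => x + a) ⁻¹' (A : Set k)ᶜ).Finite :=
          hco.union (hco.preimage (add_left_injective a).injOn)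
        obtain ⟨b, hb⟩ := this.infinite_compl.nonempty
        simp only [Set.mem_compl_iff, Set.mem_union, Set.mem_preimage, SetLike.mem_coe, not_or,
          not_not] at hb
        simpa using A.sub_mem hb.2 hb.1
      have hS := eq_top_of_map_coeffZero p n S fun a => by
        obtain ⟨v, hv, e⟩ := hAtop a
        exact ⟨v, hv, e⟩
      have : IsIso j := isIso_of_rpt (H := 𝕎₀ (n + 1) 𝕊) j fun x => by
        obtain ⟨v, rfl⟩ := exists_kpt p x
        obtain ⟨y, hy⟩ := (hS.symm ▸ AddSubgroup.mem_top v : v ∈ S)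
        exact ⟨y, hy⟩
      refine ⟨n + 1, le_rfl, asIso j, ?_⟩
      rw [show WittGrp.V p 𝕊 (le_refl (n + 1)) = 𝟙 _ from val_ext p fun v =>
        TruncatedWittVector.ext fun l => by
          rw [val_V, val_id, WittGrp.coeff_shift, dif_pos (by simp)]
          congr 1
          ext; simp, Category.comp_id, asIso_hom]

end Groth.GaDual.WittSubgroup
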