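import Groth.Agent.GrpschAbsch.WittEnd
import Groth.Agent.GrpschAbsch.WittBasic
import Groth.Agent.AlgGrp1.GenSubgroup
import Groth.Prelude.Def_SGA7IX
import Groth.Agent.SitesTopoi.JacobsonConstructible
import Mathlib.AlgebraicGeometry.Morphisms.FinitePresentation

/-!
An endomorphism `∑ V^j ∑ [c] F^i` of `W_n` is an isogeny iff its leading additive polynomial is nonzero.
-/

universe u

open CategoryTheory MonoidalCategory CartesianMonoidalCategory MonObj AlgebraicGeometry TopologicalSpace

namespace Groth.GaDual.WittIsogeny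

open Groth.GrpschAbsch WittOp WittEnd

variable (p : ℕ) [hp : Fact p.Prime] {k : Type u} [Field k] [IsAlgClosed k] [CharP k p]

local notation "𝕊" => Spec (CommRingCat.of k)
local notation "𝕎₀" => WittGrp.W p

/-- The leading additive polynomial is nonzero. -/
def NZ (L : List (List k)) : Prop := ∃ a : k, evalList p (L.headD []) a ≠ 0

/-- The polynomial with values `evalList`. -/
noncomputable def polyList : List k → Polynomial k
  | [] => 0
  | c :: l => Polynomial.C c * Polynomial.X + (polyList l).comp (Polynomial.X ^ p)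

omit [IsAlgClosed k] [CharP k p] in
lemma eval_polyList (l : List k) (a : k) : (polyList p l).eval a = evalList p l a := by
  induction l generalizing a with
  | nil => simp [polyList, evalList]
  | cons c l ih => simp [polyList, evalList, ih]

omit [IsAlgClosed k] [CharP k p] in
lemma evalList_zero (l : List k) : evalList p l 0 = 0 := by
  induction l with
  | nil => simp [evalList]
  | cons c l ih => simp [evalList, zero_pow hp.out.ne_zero, ih]

omit [IsAlgClosed k] [CharP k p] in
lemma polyList_ne_zero {l : List k} (h : ∃ a, evalList p l a ≠ 0) : polyList p l ≠ 0 := by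
  obtain ⟨a, ha⟩ := h
  intro h0
  rw [← eval_polyList, h0, Polynomial.eval_zero] at ha
  exact ha rfl

omit [CharP k p] in
lemma evalList_surjective {l : List k} (h : ∃ a, evalList p l a ≠ 0) (u : k) :
    ∃ a, evalList p l a = u := by
  have hne : polyList p l - Polynomial.C u ≠ 0 ∧ (polyList p l - Polynomial.C u).natDegree ≠ 0 := by
    have hd : (polyList p l).natDegree ≠ 0 := fun hd => by
      obtain ⟨a, ha⟩ := h
      rw [← eval_polyList, Polynomial.eq_C_of_natDegree_eq_zero hd, Polynomial.eval_C,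
        ← Polynomial.eval_C (a := (polyList p l).coeff 0) (x := (0 : k)),
        ← Polynomial.eq_C_of_natDegree_eq_zero hd, eval_polyList, evalList_zero] at ha
      exact ha rfl
    refine ⟨fun e => hd ?_, by rwa [Polynomial.natDegree_sub_C]⟩
    rw [sub_eq_zero.mp e, Polynomial.natDegree_C]
  obtain ⟨a, ha⟩ := IsAlgClosed.exists_root (polyList p l - Polynomial.C u)
    fun hdeg => hne.2 (Polynomial.natDegree_eq_of_degree_eq_some hdeg)
  rw [Polynomial.IsRoot, Polynomial.eval_sub, Polynomial.eval_C, sub_eq_zero, eval_polyList] at ha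
  exact ⟨a, ha⟩

omit [IsAlgClosed k] [CharP k p] in
lemma evalList_roots_finite {l : List k} (h : ∃ a, evalList p l a ≠ 0) :
    {a | evalList p l a = 0}.Finite := by
  refine (Polynomial.finite_setOfPred_isRoot (polyList_ne_zero p h)).subset fun a ha => ?_
  show Polynomial.IsRoot _ _
  rw [Polynomial.IsRoot, eval_polyList]
  exact ha

omit [IsAlgClosed k] in
lemma evalList_map_pow (e : ℕ) (l : List k) (a : k) :
    evalList p (l.map (· ^ p ^ e)) (a ^ p ^ e) = evalList p l a ^ p ^ e := by
  induction l generalizing a with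
  | nil => simp [evalList, zero_pow (pow_pos hp.out.pos e).ne']
  | cons c l ih =>
    simp only [evalList, List.map_cons]
    rw [add_pow_char_pow, ← ih, mul_pow, ← pow_mul, ← pow_mul, mul_comm (p ^ e) p]

omit [IsAlgClosed k] [CharP k p] in
lemma headD_powList (q : ℕ) (L : List (List k)) :
    (powList q L).headD [] = (L.headD []).map (· ^ q) := by
  cases L <;> rfl

lemma nz_powList_iff (e : ℕ) (L : List (List k)) : NZ p (powList (p ^ e) L) ↔ NZ p L := by
  refine ⟨fun ⟨a, ha⟩ => ?_, fun ⟨a, ha⟩ => ⟨a ^ p ^ e, ?_⟩⟩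
  · obtain ⟨b, rfl⟩ := IsAlgClosed.exists_pow_nat_eq a (pow_pos hp.out.pos e)
    rw [headD_powList, evalList_map_pow] at ha
    exact ⟨b, fun h => ha (by rw [h, zero_pow (pow_pos hp.out.pos e).ne'])⟩
  · rw [headD_powList, evalList_map_pow]
    exact pow_ne_zero _ ha

omit [IsAlgClosed k] in
lemma coeff_zero_opT {n : ℕ} (hn : 0 < n) (L : List (List k)) (v : TruncatedWittVector p n k) :
    (opT p (RingHom.id k) n L v).coeff ⟨0, hn⟩ = evalList p (L.headD []) (v.coeff ⟨0, hn⟩) := by
  obtain ⟨X, rfl⟩ := WittVector.truncate_surjective p n k v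
  rw [opT_truncate, WittVector.coeff_truncate, WittVector.coeff_truncate]
  cases L with
  | nil => simp [op, evalList]
  | cons l L => simp [op, lin_coeff_zero, WittVector.add_coeff_zero]

/-- A vector with prescribed first component. -/
def single (n : ℕ) (a : k) : TruncatedWittVector p n k :=
  TruncatedWittVector.mk p fun i => if (i : ℕ) = 0 then a else 0

omit [IsAlgClosed k] [CharP k p] in
lemma coeff_single {n : ℕ} (hn : 0 < n) (a : k) : (single p n a).coeff ⟨0, hn⟩ = a := by
  simp [single]

omit [IsAlgClosed k] [CharP k p] in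
lemma exists_shift {n : ℕ} {v : TruncatedWittVector p (n + 1) k}
    (h0 : v.coeff ⟨0, n.succ_pos⟩ = 0) : ∃ w, WittGrp.shift p (Nat.le_succ n) w = v :=
  ⟨_, shift_val_drop p (Nat.le_succ n) fun i hi => by
    obtain rfl : i = ⟨0, n.succ_pos⟩ := Fin.ext (by simp at hi ⊢; omega)
    exact h0⟩

omit [IsAlgClosed k] [CharP k p] in
lemma coeff_zero_sub {n : ℕ} (hn : 0 < n) (v w : TruncatedWittVector p n k) :
    (v - w).coeff ⟨0, hn⟩ = v.coeff ⟨0, hn⟩ - w.coeff ⟨0, hn⟩ := by
  have := coeff_add_zero p (v - w) w hn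
  rw [sub_add_cancel] at this
  rw [this, add_sub_cancel_right]

lemma opT_surjective : ∀ (n : ℕ) (L : List (List k)), NZ p L →
    Function.Surjective (opT p (RingHom.id k) n L)
  | 0, L, _, u => ⟨u, TruncatedWittVector.ext fun i => i.elim0⟩
  | n + 1, L, hL, u => by
    obtain ⟨a, ha⟩ := evalList_surjective p hL (u.coeff ⟨0, n.succ_pos⟩)
    obtain ⟨w, hw⟩ := exists_shift p (v := u - opT p (RingHom.id k) (n + 1) L (single p (n + 1) a))
      (by rw [coeff_zero_sub, coeff_zero_opT, coeff_single, ha, sub_self])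
    obtain ⟨w', rfl⟩ := opT_surjective n (powList (p ^ (n + 1 - n)) L) ((nz_powList_iff p _ L).2 hL) w
    refine ⟨single p (n + 1) a + WittGrp.shift p (Nat.le_succ n) w', ?_⟩
    rw [opT_add, opT_shift, hw]
    abel

lemma opT_finite_zero : ∀ (n : ℕ) (L : List (List k)), NZ p L →
    {v | opT p (RingHom.id k) n L v = 0}.Finite
  | 0, L, _ => by
    refine (Set.finite_singleton (0 : TruncatedWittVector p 0 k)).subset fun v _ => ?_
    exact TruncatedWittVector.ext fun i => i.elim0
  | n + 1, L, hL => by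
    let S := {v | opT p (RingHom.id k) (n + 1) L v = 0}
    have hfib : ∀ a : k, {v ∈ S | v.coeff ⟨0, n.succ_pos⟩ = a}.Finite := fun a => by
      rcases Set.eq_empty_or_nonempty {v ∈ S | v.coeff ⟨0, n.succ_pos⟩ = a} with h | ⟨v₁, h1, h1'⟩
      · rw [h]; exact Set.finite_empty
      refine ((opT_finite_zero n (powList (p ^ (n + 1 - n)) L) ((nz_powList_iff p _ L).2 hL)).image
        fun w => v₁ + WittGrp.shift p (Nat.le_succ n) w).subset fun v hv => ?_
      obtain ⟨w, hw⟩ := exists_shift p (v := v - v₁) (by rw [coeff_zero_sub, hv.2, h1', sub_self])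
      refine ⟨w, ?_, show v₁ + WittGrp.shift p (Nat.le_succ n) w = v by rw [hw, add_sub_cancel]⟩
      have : opT p (RingHom.id k) (n + 1) L (v₁ + WittGrp.shift p (Nat.le_succ n) w) = 0 := by
        rw [hw, add_sub_cancel]; exact hv.1
      rw [opT_add, show opT p (RingHom.id k) (n + 1) L v₁ = 0 from h1, zero_add, opT_shift] at this
      exact (Function.LeftInverse.injective (g := val p (drop p (Nat.le_succ n)))
        (drop_shift p (Nat.le_succ n))) (this.trans (map_zero _).symm)
    refine ((evalList_roots_finite p hL).biUnion fun a _ => hfib a).subset fun v hv => ?_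
    refine Set.mem_biUnion (x := v.coeff ⟨0, n.succ_pos⟩) ?_ ⟨hv, rfl⟩
    show evalList p _ _ = 0
    rw [← coeff_zero_opT p n.succ_pos L v, show opT p (RingHom.id k) (n + 1) L v = 0 from hv,
      TruncatedWittVector.coeff_zero]

section Scheme

omit [IsAlgClosed k] [CharP k p] in
lemma exists_kpt {n : ℕ} (q : 𝟙_ (Over 𝕊) ⟶ 𝕎₀ n 𝕊) : ∃ v, kpt p v = q := by
  refine ⟨WittGrp.truncMap p n (Scheme.ΓSpecIso (CommRingCat.of k)).hom.hom
    (WittGrp.pts p (pt₀ (k := k)) (Additive.ofMul q)), WittGrp.pts_injective p _ ?_⟩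
  show WittGrp.pts p (pt₀ (k := k)) (Additive.ofMul (kpt p _)) = _
  rw [pts_kpt]
  exact truncMap_inv_hom p _

omit [IsAlgClosed k] [CharP k p] in
lemma kpt_injective {n : ℕ} : Function.Injective (kpt p (k := k) (n := n)) := fun v w h => by
  rw [← truncMap_hom_inv p v, ← truncMap_hom_inv p w, ← pts_kpt, ← pts_kpt, h]

omit [IsAlgClosed k] [CharP k p] in
lemma kpt_zero {n : ℕ} : kpt p (0 : TruncatedWittVector p n k) = 1 := by
  refine WittGrp.pts_injective p _ ?_
  show WittGrp.pts p _ (Additive.ofMul (kpt p _)) = WittGrp.pts p _ (Additive.ofMul 1)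
  rw [pts_kpt, map_zero, WittGrp.pts_one]

omit [IsAlgClosed k] [CharP k p] in
lemma locallyOfFiniteType_W (n : ℕ) : LocallyOfFiniteType (𝕎₀ n 𝕊).hom :=
  inferInstanceAs (LocallyOfFiniteType (𝔸(ULift.{u} (Fin n); 𝕊) ↘ 𝕊))

omit [IsAlgClosed k] [CharP k p] in
lemma isAffineHom_W (n : ℕ) : IsAffineHom (𝕎₀ n 𝕊).hom :=
  inferInstanceAs (IsAffineHom (𝔸(ULift.{u} (Fin n); 𝕊) ↘ 𝕊))

/-- An endomorphism with nonzero leading polynomial is an isogeny, and conversely. -/
theorem isIsogenyOver_iff {n : ℕ} (hn : 0 < n) (L : List (List k)) :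
    SGA7.IsIsogenyOver (opHom p n L) ↔ NZ p L := by
  have := locallyOfFiniteType_W p (k := k) n
  have := isAffineHom_W p (k := k) n
  constructor
  · rintro ⟨hsurj, -⟩
    by_contra hL
    obtain ⟨x, hx⟩ := Groth.AlgGrp1.exists_rpt_lift (opHom p n L) (kpt p (single p n 1))
      (hsurj.surj _)
    obtain ⟨v, rfl⟩ := exists_kpt p x
    have h1 : val p (opHom p n L) v = single p n 1 :=
      kpt_injective p ((kpt_val p _ v).trans hx)
    have h2 := congrArg (TruncatedWittVector.coeff ⟨0, hn⟩) h1
    rw [val_opHom, coeff_zero_opT, coeff_single] at h2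
    simp only [NZ, not_exists, not_not] at hL
    exact zero_ne_one ((hL _).symm.trans h2)
  · intro hL
    refine ⟨?_, fun N i hi => ?_⟩
    · have := LocallyOfFiniteType.jacobsonSpace (𝕎₀ n 𝕊).hom
      have : IsLocallyNoetherian (𝕎₀ n 𝕊).left :=
        LocallyOfFiniteType.isLocallyNoetherian (𝕎₀ n 𝕊).hom
      have : CompactSpace (𝕎₀ n 𝕊).left := QuasiCompact.compactSpace_of_compactSpace (𝕎₀ n 𝕊).hom
      have : LocallyOfFiniteType ((opHom p n L).left ≫ (𝕎₀ n 𝕊).hom) := by
        rw [Over.w]; infer_instance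
      have := locallyOfFiniteType_of_comp (opHom p n L).left (𝕎₀ n 𝕊).hom
      have : QuasiSeparatedSpace (𝕎₀ n 𝕊).left :=
        quasiSeparatedSpace_of_quasiSeparated (𝕎₀ n 𝕊).hom
      have : IsAffineHom ((opHom p n L).left ≫ (𝕎₀ n 𝕊).hom) := by
        rw [Over.w]; infer_instance
      have := IsAffineHom.of_comp (opHom p n L).left (𝕎₀ n 𝕊).hom
      have hc : Topology.IsConstructible ((opHom p n L).left '' Set.univ) :=
        (opHom p n L).left.isConstructible_image (.univ)
      refine ⟨fun y => ?_⟩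
      have hsub := Groth.SitesTopoi.closedPoints_constructible_subset (Topology.IsConstructible.univ)
        hc (fun c _ => by
          obtain ⟨q, hq⟩ := Groth.AlgGrp1.exists_rpt (X := 𝕎₀ n 𝕊) c.2
          obtain ⟨u, rfl⟩ := exists_kpt p q
          obtain ⟨v, hv⟩ := opT_surjective p n L hL u
          refine ⟨Groth.AlgGrp1.rpt (kpt p v), trivial, ?_⟩
          refine Eq.trans ?_ hq
          rw [← hv, ← val_opHom, kpt_val]
          rfl) (Set.mem_univ y)
      obtain ⟨x, -, hx⟩ := hsub
      exact ⟨x, hx⟩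
    · have hpb := hi.map (Over.forget 𝕊)
      have : IsAffineHom (η[𝕎₀ n 𝕊]).left := by
        have : IsAffineHom ((η[𝕎₀ n 𝕊]).left ≫ (𝕎₀ n 𝕊).hom) := by
          rw [Over.w]; exact inferInstanceAs (IsAffineHom (𝟙 _))
        exact IsAffineHom.of_comp _ (𝕎₀ n 𝕊).hom
      have : IsClosedImmersion (η[𝕎₀ n 𝕊]).left := by
        have : IsClosedImmersion ((η[𝕎₀ n 𝕊]).left ≫ (𝕎₀ n 𝕊).hom) := by
          rw [Over.w]; exact inferInstanceAs (IsClosedImmersion (𝟙 _))
        exact IsClosedImmersion.of_comp _ (𝕎₀ n 𝕊).hom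
      have : IsClosedImmersion i.left :=
        MorphismProperty.of_isPullback (P := @IsClosedImmersion) hpb.flip ‹_›
      have : LocallyOfFiniteType N.hom := by rw [← Over.w i]; infer_instance
      have : QuasiCompact N.hom := by rw [← Over.w i]; infer_instance
      have : Mono i := Over.mono_of_mono_left i
      have hfin : (Set.univ : Set (𝟙_ (Over 𝕊) ⟶ N)).Finite := by
        refine Set.Finite.of_finite_image (f := fun q => q ≫ i) ?_
          (fun _ _ _ _ h => (cancel_mono i).1 h)
        refine ((opT_finite_zero p n L hL).image (kpt p)).subset ?_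
        rintro _ ⟨q, -, rfl⟩
        obtain ⟨v, hv⟩ := exists_kpt p (q ≫ i)
        refine ⟨v, kpt_injective p ?_, hv⟩
        rw [← val_opHom, kpt_val, hv, kpt_zero, Category.assoc, hi.w, ← Category.assoc]
        exact congrArg (· ≫ η[𝕎₀ n 𝕊]) (toUnit_unique (q ≫ toUnit N) (toUnit _))
      have : Finite (𝟙_ (Over 𝕊) ⟶ N) := Set.finite_univ_iff.mp hfin
      have := LocallyOfFiniteType.jacobsonSpace N.hom
      have hcl : (closedPoints N.left).Finite :=
        (Set.finite_range (Groth.AlgGrp1.rpt (X := N))).subset fun c hc => Groth.AlgGrp1.exists_rpt hc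
      have : DiscreteTopology N.left := JacobsonSpace.discreteTopology hcl
      have : CompactSpace N.left := QuasiCompact.compactSpace_of_compactSpace N.hom
      have : Finite N.left := finite_of_compact_of_discrete
      have : LocallyQuasiFinite N.hom := .of_finite_preimage_singleton _ fun _ => Set.toFinite _
      have : IsLocallyArtinian 𝕊 :=
        Scheme.isLocallyArtinianScheme_Spec.2 (inferInstanceAs (IsArtinianRing k))
      exact IsFinite.of_locallyQuasiFinite _

end Scheme

end Groth.GaDual.WittIsogeny
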