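import Groth.Agent.GaDual.WittIsogeny

/-!
Lifting endomorphisms of `W_n` to `W_{n+1}`.
-/

universe u

open CategoryTheory MonoidalCategory CartesianMonoidalCategory MonObj AlgebraicGeometry

namespace Groth.GaDual.WittIsogeny

open Groth.GrpschAbsch WittOp WittEnd

variable (p : ℕ) [hp : Fact p.Prime] {k : Type u} [Field k] [IsAlgClosed k] [CharP k p]

local notation "𝕊" => Spec (CommRingCat.of k)
local notation "𝕎₀" => WittGrp.W p

lemma pad_R {n m : ℕ} (h : n ≤ m) : pad p n m ≫ WittGrp.R p 𝕊 h = 𝟙 (𝕎₀ n 𝕊) :=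
  val_ext p fun v => by rw [val_comp, val_R, truncate_val_pad, val_id]

lemma V_drop {n m : ℕ} (h : n ≤ m) : WittGrp.V p 𝕊 h ≫ drop p h = 𝟙 (𝕎₀ n 𝕊) :=
  val_ext p fun v => by rw [val_comp, val_V, drop_shift, val_id]

omit [IsAlgClosed k] in
lemma not_nz_iff {L : List (List k)} : ¬ NZ p L ↔ ∀ a : k, evalList p (L.headD []) a = 0 := by
  simp [NZ]

lemma exists_lift_iff {n : ℕ} (hn : 0 < n) (L : List (List k)) :
    (∃ g : 𝕎₀ n 𝕊 ⟶ 𝕎₀ (n + 1) 𝕊, IsMonHom g ∧
      g ≫ WittGrp.R p 𝕊 (Nat.le_add_right n 1) = opHom p n L) ↔ ¬ NZ p L := by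
  let h := Nat.le_add_right n 1
  have h1 : 1 ≤ n + 1 := Nat.le_add_left 1 n
  constructor
  · rintro ⟨g, hg, e⟩
    obtain ⟨L', hL'⟩ := exists_opHom (WittGrp.R p 𝕊 h ≫ g)
    have e2 : opHom p n L = opHom p n L' := by
      calc opHom p n L = (pad p n (n + 1) ≫ WittGrp.R p 𝕊 h) ≫ opHom p n L := by
            rw [pad_R, Category.id_comp]
        _ = pad p n (n + 1) ≫ (WittGrp.R p 𝕊 h ≫ g) ≫ WittGrp.R p 𝕊 h := by
            rw [← e]; simp [h]
        _ = pad p n (n + 1) ≫ WittGrp.R p 𝕊 h ≫ opHom p n L' := by rw [hL', ← opHom_R]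
        _ = _ := by rw [← Category.assoc, pad_R, Category.id_comp]
    rw [not_nz_iff]
    intro a
    have key : ∀ v, (opT p (RingHom.id k) n L v).coeff ⟨0, hn⟩ =
        (opT p (RingHom.id k) n L' v).coeff ⟨0, hn⟩ := fun v => by
      rw [← val_opHom, e2, val_opHom]
    have := key (single p n a)
    rw [coeff_zero_opT, coeff_zero_opT, coeff_single] at this
    rw [this]
    -- the kernel of `R` is killed
    by_contra hne
    obtain ⟨b, hb⟩ := (nz_powList_iff p (n + 1 - 1) L').2 ⟨a, hne⟩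
    have hk : val p (opHom p (n + 1) L') (WittGrp.shift p h1 (single p 1 b)) = 0 := by
      have hg' : val p g 0 = 0 := by
        have := val_add p g 0 0
        rw [add_zero] at this
        exact left_eq_add.mp this
      rw [← hL', val_comp, val_R]
      refine Eq.trans (congrArg _ ?_) hg'
      ext i
      rw [TruncatedWittVector.coeff_truncate, WittGrp.coeff_shift, dif_neg (by simp),
        TruncatedWittVector.coeff_zero]
    rw [val_opHom, opT_shift] at hk
    have := congrArg (TruncatedWittVector.coeff ⟨0, one_pos⟩) ((Function.LeftInverse.injective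
      (g := val p (drop p h1)) (drop_shift p h1)) (hk.trans (map_zero _).symm))
    rw [coeff_zero_opT, coeff_single, TruncatedWittVector.coeff_zero] at this
    exact hb this
  · intro hL
    have hind : ∀ v, opT p (RingHom.id k) (n + 1) L v =
        opT p (RingHom.id k) (n + 1) L (val p (pad p n (n + 1)) (TruncatedWittVector.truncate h v)) := by
      intro v
      have hz : Zeros p (n + 1 - 1) (v - val p (pad p n (n + 1)) (TruncatedWittVector.truncate h v)) :=
        fun i hi => by
          have := congrArg (TruncatedWittVector.coeff ⟨i, by omega⟩)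
            (show TruncatedWittVector.truncate h
              (v - val p (pad p n (n + 1)) (TruncatedWittVector.truncate h v)) = 0 by
              rw [map_sub, truncate_val_pad, sub_self])
          rw [TruncatedWittVector.coeff_truncate, TruncatedWittVector.coeff_zero] at this
          exact this
      have hw := shift_val_drop p h1 hz
      rw [← sub_eq_zero]
      have e : opT p (RingHom.id k) (n + 1) L (WittGrp.shift p h1 (val p (drop p h1)
          (v - val p (pad p n (n + 1)) (TruncatedWittVector.truncate h v)))) = 0 := by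
        rw [opT_shift]
        refine Eq.trans (congrArg _ ?_) (map_zero (WittGrp.shift p h1))
        ext i
        obtain rfl : i = ⟨0, one_pos⟩ := Fin.ext (Nat.lt_one_iff.mp i.2)
        rw [coeff_zero_opT, TruncatedWittVector.coeff_zero]
        exact (not_nz_iff p).1 (fun hc => hL ((nz_powList_iff p _ L).1 hc)) _
      rw [hw] at e
      rw [← e]
      refine (sub_eq_iff_eq_add.2 ?_)
      rw [← opT_add, sub_add_cancel]
    let g : 𝕎₀ n 𝕊 ⟶ 𝕎₀ (n + 1) 𝕊 := pad p n (n + 1) ≫ opHom p (n + 1) L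
    have hRg : WittGrp.R p 𝕊 h ≫ g = opHom p (n + 1) L :=
      val_ext p fun v => by
        rw [val_comp, val_R, val_comp, val_opHom, val_opHom]; exact (hind v).symm
    refine ⟨g, ?_, ?_⟩
    · have hmul : ∀ (T : Over 𝕊) (x y : T ⟶ 𝕎₀ n 𝕊), (x * y) ≫ g = (x ≫ g) * (y ≫ g) := by
        intro T x y
        have key : ∀ z : T ⟶ 𝕎₀ n 𝕊, z = (z ≫ pad p n (n + 1)) ≫ WittGrp.R p 𝕊 h := fun z => by
          rw [Category.assoc, pad_R, Category.comp_id]
        conv_lhs => rw [key x, key y, ← MonObj.mul_comp, Category.assoc, hRg, MonObj.mul_comp]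
        simp only [g, Category.assoc]
      refine WittGrp.isMonHom_of_comp_mul _ ?_ hmul
      have := hmul _ (1 : 𝟙_ (Over 𝕊) ⟶ 𝕎₀ n 𝕊) 1
      rw [_root_.one_mul] at this
      exact left_eq_mul.mp this
    · calc g ≫ WittGrp.R p 𝕊 h = pad p n (n + 1) ≫ opHom p (n + 1) L ≫ WittGrp.R p 𝕊 h :=
            Category.assoc _ _ _
        _ = _ := by rw [← opHom_R, ← Category.assoc, pad_R, Category.id_comp]

end Groth.GaDual.WittIsogeny

namespace Groth.GaDual.WittIsogeny

open Groth.GrpschAbsch WittOp WittEnd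

variable (p : ℕ) [hp : Fact p.Prime] {k : Type u} [Field k] [IsAlgClosed k] [CharP k p]

local notation "𝕊" => Spec (CommRingCat.of k)
local notation "𝕎₀" => WittGrp.W p

lemma exists_extend_iff {n : ℕ} (hn : 0 < n) (L : List (List k)) :
    (∃ g' : 𝕎₀ (n + 1) 𝕊 ⟶ 𝕎₀ n 𝕊, IsMonHom g' ∧
      WittGrp.V p 𝕊 (Nat.le_add_right n 1) ≫ g' = opHom p n L) ↔ ¬ NZ p L := by
  let h := Nat.le_add_right n 1
  constructor
  · rintro ⟨g', hg', e⟩
    obtain ⟨L', hL'⟩ := exists_opHom (g' ≫ WittGrp.V p 𝕊 h)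
    have e2 : opHom p n L = opHom p n (powList (p ^ (n + 1 - n)) L') := by
      calc opHom p n L = (opHom p n L ≫ WittGrp.V p 𝕊 h) ≫ drop p h := by
            rw [Category.assoc, V_drop, Category.comp_id]
        _ = (WittGrp.V p 𝕊 h ≫ opHom p (n + 1) L') ≫ drop p h := by
            rw [← e, ← hL']; simp [h]
        _ = _ := by rw [V_opHom, Category.assoc, V_drop, Category.comp_id]
    have hnz : ¬ NZ p L' := (not_nz_iff p).2 fun a => by
      have h0 := congrArg (fun f => (val p f (single p (n + 1) a)).coeff ⟨0, n.succ_pos⟩) hL'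
      simp only [val_comp, val_V, val_opHom] at h0
      rw [coeff_zero_opT, coeff_single, WittGrp.coeff_shift, dif_neg (by simp)] at h0
      exact h0.symm
    have hnz' := (nz_powList_iff p (n + 1 - n) L').not.2 hnz
    rw [not_nz_iff] at hnz' ⊢
    intro a
    have key := congrArg (fun f => (val p f (single p n a)).coeff ⟨0, hn⟩) e2
    simp only [val_opHom] at key
    rw [coeff_zero_opT, coeff_zero_opT, coeff_single] at key
    rw [key]; exact hnz' a
  · intro hL
    obtain ⟨L'', hL''⟩ := exists_powList (p ^ (n + 1 - n)) (pow_pos hp.out.pos _) L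
    have hnz : ¬ NZ p L'' := fun hc => hL (hL'' ▸ (nz_powList_iff p _ L'').2 hc)
    let g : 𝕎₀ (n + 1) 𝕊 ⟶ 𝕎₀ n 𝕊 := opHom p (n + 1) L'' ≫ drop p h
    have hgV : g ≫ WittGrp.V p 𝕊 h = opHom p (n + 1) L'' :=
      val_ext p fun v => by
        rw [val_comp, val_comp, val_V, val_opHom]
        refine shift_val_drop p h fun i hi => ?_
        obtain rfl : i = ⟨0, n.succ_pos⟩ := Fin.ext (show (i : ℕ) = 0 by omega)
        rw [coeff_zero_opT]
        exact (not_nz_iff p).1 hnz _
    clear_value g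
    have he : ∀ {T : Over 𝕊} (z : T ⟶ 𝕎₀ (n + 1) 𝕊),
        (z ≫ g) ≫ WittGrp.V p 𝕊 h = z ≫ opHom p (n + 1) L'' := fun z => by rw [Category.assoc, hgV]
    refine ⟨g, ?_, ?_⟩
    · have hmul : ∀ (T : Over 𝕊) (x y : T ⟶ 𝕎₀ (n + 1) 𝕊), (x * y) ≫ g = (x ≫ g) * (y ≫ g) := by
        intro T x y
        have key : ((x * y) ≫ g) ≫ WittGrp.V p 𝕊 h =
            ((x ≫ g) * (y ≫ g)) ≫ WittGrp.V p 𝕊 h := by
          rw [MonObj.mul_comp (x ≫ g) (y ≫ g), he, he, he, MonObj.mul_comp x y]
        have := congrArg (· ≫ drop p h) key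
        simpa only [Category.assoc, V_drop, Category.comp_id] using this
      refine WittGrp.isMonHom_of_comp_mul _ ?_ hmul
      have := hmul _ (1 : 𝟙_ (Over 𝕊) ⟶ 𝕎₀ (n + 1) 𝕊) 1
      rw [_root_.one_mul] at this
      exact left_eq_mul.mp this
    · have := congrArg (· ≫ drop p h) (he (WittGrp.V p 𝕊 h))
      simp only [Category.assoc, V_drop, Category.comp_id] at this
      rw [this, ← Category.assoc, V_opHom, Category.assoc, V_drop, Category.comp_id, hL'']

end Groth.GaDual.WittIsogeny
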